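import Cfsg.Agent.H46.F4Two.Table

/-!
# Elimination steps, part 1 (generated file)
-/

set_option autoImplicit false
set_option maxRecDepth 100000

namespace Cfsg.Agent.H46.F4Two

/-- Steps. -/
def elims1 : List Elim := [
 ⟨[25,1,0],[0,2,1,0],[1,0,1],2⟩,
 ⟨[0,1,26],[0,1,0],[1,0,2,1],50⟩,
 ⟨[0,1,30],[0,1,0],[1,0,1,2],192⟩,
 ⟨[31,1,0],[0,1,0],[1,0,2,1],52⟩,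
 ⟨[0,1,41],[0,1,0],[1,0,1,2],720⟩,
 ⟨[1,0,42],[0,1,0],[1,0,1,2],721⟩,
 ⟨[0,22,2],[0,1,0],[1,0,1,2],48⟩,
 ⟨[0,2,24],[0,1,0],[1,0,2,1],97⟩,
 ⟨[30,0,2],[0,1,0],[1,0,2,1],5⟩,
 ⟨[2,0,32],[0,1,0],[1,0,1,2],242⟩,
 ⟨[2,0,41],[0,1,0],[1,0,2,1],16⟩,
 ⟨[2,0,43],[0,1,0,2],[1,0,1],112⟩,
 ⟨[3,0,24],[0,1,0,2],[1,0,1],145⟩,
 ⟨[0,3,26],[0,1,0],[1,0,2,1],146⟩,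
 ⟨[3,29,0],[0,1,0,3,2],[1,0,1,2],150⟩,
 ⟨[31,3,0],[0,1,0],[1,0,2,1],148⟩,
 ⟨[32,3,0],[0,1,0],[1,0,2,1],149⟩,
 ⟨[0,33,3],[0,1,0],[1,0,1,2],336⟩,
 ⟨[0,3,34],[0,1,0],[1,0,1,2],384⟩,
 ⟨[0,35,3],[0,1,0],[1,0,1,2],432⟩,
 ⟨[0,3,37],[0,1,0],[1,0,1,2],528⟩,
 ⟨[0,3,41],[0,1,0,3],[1,0,1,2,3],864⟩,
 ⟨[0,4,24],[0,1,0],[1,0,2,1],193⟩,
 ⟨[0,4,25],[0,1,0],[1,0,1,2],240⟩,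
 ⟨[32,4,0],[0,1,0],[1,0,2,1],197⟩,
 ⟨[0,4,41],[0,1,0],[1,0,1,2],1008⟩,
 ⟨[4,0,45],[0,1,0,2],[1,0,1],213⟩,
 ⟨[0,5,17],[0,1,0],[1,0,1,2],96⟩,
 ⟨[5,0,22],[0,1,0],[1,0,2,1],4⟩,
 ⟨[0,5,41],[0,1,0],[1,0,1,2],1104⟩,
 ⟨[5,46,0],[0,1,0],[1,0,1,2],1109⟩,
 ⟨[0,15,6],[0,1,0,2],[1,0,1],1⟩,
 ⟨[0,6,18],[0,1,0,3],[1,0,1,2,3],144⟩,
 ⟨[0,6,24],[0,1,0],[1,0,2,1],289⟩,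
 ⟨[6,0,26],[0,1,0,2],[1,0,1],290⟩,
 ⟨[6,0,31],[0,1,0,2],[1,0,1],292⟩,
 ⟨[6,0,32],[0,1,0],[1,0,1,2],246⟩,
 ⟨[24,7,0],[0,1,0],[1,0,2,1],337⟩,
 ⟨[0,7,26],[0,1,0],[1,0,2,1],338⟩,
 ⟨[7,0,36],[0,1,0,3,2],[1,0,1,2],353⟩,
 ⟨[7,0,42],[0,1,0],[1,0,1,2],727⟩,
 ⟨[7,0,43],[0,1,0],[1,0,1,2],775⟩,
 ⟨[0,13,8],[0,1,0,2],[1,0,1],3⟩,
 ⟨[0,8,24],[0,1,0],[1,0,2,1],385⟩,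
 ⟨[0,8,31],[0,1,0],[1,0,2,1],388⟩,
 ⟨[8,38,0],[0,1,0,3,2],[1,0,1,2],406⟩,
 ⟨[8,0,42],[0,1,0,2],[1,0,1],399⟩,
 ⟨[45,0,8],[0,2,1,0],[1,0,1],405⟩,
 ⟨[26,0,9],[0,2,1,0],[1,0,1],434⟩,
 ⟨[0,32,9],[0,2,1,0],[1,0,1],437⟩,
 ⟨[9,0,39],[0,1,0,3,2],[1,0,1,2],457⟩,
 ⟨[0,9,43],[0,1,0],[1,0,2,1],448⟩,
 ⟨[0,9,46],[0,1,0],[1,0,2,1],455⟩,
 ⟨[0,24,10],[0,2,1,0],[1,0,1],481⟩,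
 ⟨[0,26,10],[0,2,1,0],[1,0,1],482⟩,
 ⟨[10,0,27],[0,1,0],[1,0,2,1],12⟩,
 ⟨[0,10,28],[0,1,0],[1,0,1,2],624⟩,
 ⟨[0,31,10],[0,2,1,0],[1,0,1],484⟩,
 ⟨[0,32,10],[0,2,1,0],[1,0,1],485⟩,
 ⟨[0,10,34],[0,1,0],[1,0,1,2],912⟩,
 ⟨[0,10,35],[0,1,0],[1,0,1,2],960⟩,
 ⟨[0,10,42],[0,1,0],[1,0,2,1],495⟩,
 ⟨[43,0,10],[0,2,1,0],[1,0,1],496⟩,
 ⟨[0,31,11],[0,2,1,0],[1,0,1],532⟩,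
 ⟨[0,11,32],[0,1,0],[1,0,2,1],533⟩,
 ⟨[11,40,0],[0,1,0,3,2],[1,0,1,2],558⟩,
 ⟨[45,11,0],[0,1,0],[1,0,2,1],549⟩,
 ⟨[46,11,0],[0,1,0],[1,0,2,1],551⟩,
 ⟨[0,12,20],[0,1,0],[1,0,1,2],480⟩,
 ⟨[0,24,12],[0,2,1,0],[1,0,1],577⟩,
 ⟨[0,12,26],[0,1,0],[1,0,2,1],578⟩,
 ⟨[0,28,12],[0,1,0,2],[1,0,1],14⟩,
 ⟨[0,12,31],[0,1,0],[1,0,2,1],580⟩,
 ⟨[0,12,32],[0,1,0],[1,0,2,1],581⟩,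
 ⟨[12,0,37],[0,1,0],[1,0,2,1],27⟩,
 ⟨[0,42,12],[0,2,1,0],[1,0,1],591⟩,
 ⟨[0,12,45],[0,1,0],[1,0,2,1],597⟩,
 ⟨[0,24,13],[0,2,1,0],[1,0,1],625⟩,
 ⟨[26,13,0],[0,1,0],[1,0,2,1],626⟩,
 ⟨[0,13,27],[0,1,0],[1,0,1,2],672⟩,
 ⟨[0,13,31],[0,1,0],[1,0,2,1],628⟩,
 ⟨[13,32,0],[0,1,0,2],[1,0,1],629⟩,
 ⟨[0,37,13],[0,1,0],[1,0,1,2],1344⟩,
 ⟨[0,13,43],[0,1,0],[1,0,2,1],640⟩,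
 ⟨[46,0,13],[0,2,1,0],[1,0,1],647⟩,
 ⟨[0,19,14],[0,1,0],[1,0,1,2],576⟩,
 ⟨[0,20,14],[0,1,0,2],[1,0,1],13⟩,
 ⟨[0,14,24],[0,1,0],[1,0,2,1],673⟩,
 ⟨[0,14,26],[0,1,0],[1,0,2,1],674⟩,
 ⟨[0,14,31],[0,1,0],[1,0,2,1],676⟩,
 ⟨[0,14,32],[0,1,0],[1,0,2,1],677⟩,
 ⟨[14,0,45],[0,1,0],[1,0,1,2],1022⟩,
 ⟨[14,46,0],[0,1,0],[1,0,1,2],1118⟩,
 ⟨[0,15,25],[0,1,0],[1,0,1,2],768⟩,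
 ⟨[0,43,15],[0,2,1,0],[1,0,1],736⟩,
 ⟨[15,45,0],[0,1,0],[1,0,1,2],1023⟩,
 ⟨[0,16,26],[0,1,0],[1,0,2,1],770⟩,
 ⟨[30,0,16],[0,1,0],[1,0,2,1],23⟩,
 ⟨[16,0,42],[0,1,0,2],[1,0,1],783⟩,
 ⟨[0,16,46],[0,1,0],[1,0,2,1],791⟩,
 ⟨[17,0,24],[0,1,0,2],[1,0,1],817⟩,
 ⟨[0,17,26],[0,1,0],[1,0,2,1],818⟩,
 ⟨[17,42,0],[0,1,0],[1,0,1,2],737⟩,
 ⟨[0,17,43],[0,1,0],[1,0,2,1],832⟩,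
 ⟨[0,18,42],[0,1,0],[1,0,2,1],879⟩,
 ⟨[0,18,43],[0,1,0],[1,0,2,1],880⟩,
 ⟨[18,0,44],[0,1,0,3,2],[1,0,1,2],905⟩,
 ⟨[18,0,45],[0,1,0,2],[1,0,1],885⟩,
 ⟨[18,0,46],[0,1,0],[1,0,1,2],1122⟩,
 ⟨[0,19,24],[0,1,0],[1,0,2,1],913⟩,
 ⟨[0,19,26],[0,1,0],[1,0,2,1],914⟩,
 ⟨[31,19,0],[0,1,0],[1,0,2,1],916⟩,
 ⟨[35,19,0],[0,2,1,0],[1,0,1],33⟩,
 ⟨[0,37,19],[0,1,0],[1,0,1,2],1632⟩,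
 ⟨[19,0,42],[0,1,0,2],[1,0,1],927⟩,
 ⟨[19,0,43],[0,1,0],[1,0,1,2],787⟩,
 ⟨[19,45,0],[0,1,0,2],[1,0,1],933⟩,
 ⟨[0,20,24],[0,1,0],[1,0,2,1],961⟩,
 ⟨[0,26,20],[0,2,1,0],[1,0,1],962⟩,
 ⟨[0,32,20],[0,2,1,0],[1,0,1],965⟩,
 ⟨[0,20,37],[0,1,0],[1,0,1,2],1680⟩,
 ⟨[0,20,42],[0,1,0],[1,0,2,1],975⟩,
 ⟨[20,0,43],[0,1,0,2],[1,0,1],976⟩,
 ⟨[0,46,20],[0,2,1,0],[1,0,1],983⟩,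
 ⟨[21,0,31],[0,1,0,2],[1,0,1],1012⟩,
 ⟨[0,21,46],[0,1,0],[1,0,2,1],1031⟩,
 ⟨[0,24,22],[0,2,1,0],[1,0,1],1057⟩,
 ⟨[0,22,31],[0,1,0],[1,0,2,1],1060⟩,
 ⟨[0,22,42],[0,1,0],[1,0,2,1],1071⟩,
 ⟨[22,45,0],[0,1,0],[1,0,1,2],1030⟩,
 ⟨[23,0,43],[0,1,0,2],[1,0,1],1120⟩,
 ⟨[23,0,45],[0,1,0,2],[1,0,1],1125⟩,
 ⟨[0,27,24],[0,1,0],[1,0,2,1],1297⟩,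
 ⟨[0,24,33],[0,2,1,0],[1,0,1],1585⟩,
 ⟨[34,0,24],[0,1,0,2],[1,0,1],1633⟩,
 ⟨[0,26,25],[0,2,1,0],[1,0,1],1202⟩,
 ⟨[32,25,0],[0,1,0],[1,0,2,1],1205⟩,
 ⟨[0,43,25],[0,2,1,0],[1,0,1],1216⟩,
 ⟨[46,25,0],[0,1,0],[1,0,2,1],1223⟩,
 ⟨[28,0,26],[0,1,0,2],[1,0,1],1346⟩,
 ⟨[0,26,33],[0,2,1,0],[1,0,1],1586⟩,
 ⟨[35,26,0],[0,1,0],[1,0,1,2],131⟩,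
 ⟨[0,27,31],[0,1,0],[1,0,2,1],1300⟩,
 ⟨[32,0,27],[0,2,1,0],[1,0,1],1301⟩,
 ⟨[33,0,27],[0,1,0],[1,0,2,1],34⟩,
 ⟨[0,35,27],[0,1,0],[1,0,1,2],1776⟩,
 ⟨[0,27,42],[0,1,0],[1,0,2,1],1311⟩,
 ⟨[45,27,0],[0,1,0],[1,0,2,1],1317⟩,
 ⟨[46,0,27],[0,2,1,0],[1,0,1],1319⟩,
 ⟨[0,31,28],[0,2,1,0],[1,0,1],1348⟩,
 ⟨[0,28,32],[0,1,0],[1,0,2,1],1349⟩,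
 ⟨[33,0,28],[0,1,0],[1,0,2,1],35⟩,
 ⟨[43,0,28],[0,2,1,0],[1,0,1],1360⟩,
 ⟨[28,0,45],[0,1,0],[1,0,1,2],1036⟩,
 ⟨[28,0,46],[0,1,0,2],[1,0,1],1367⟩,
 ⟨[30,0,31],[0,1,0],[1,0,1,2],222⟩,
 ⟨[0,32,30],[0,2,1,0],[1,0,1],1445⟩,
 ⟨[30,45,0],[0,1,0],[1,0,1,2],1038⟩,
 ⟨[30,46,0],[0,1,0],[1,0,1,2],1134⟩,
 ⟨[34,0,31],[0,1,0,2],[1,0,1],1636⟩,
 ⟨[37,31,0],[0,1,0],[1,0,1,2],229⟩,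
 ⟨[0,32,35],[0,2,1,0],[1,0,1],1685⟩,
 ⟨[37,0,32],[0,1,0],[1,0,1,2],277⟩,
 ⟨[42,33,0],[0,1,0],[1,0,2,1],1599⟩,
 ⟨[0,33,43],[0,1,0],[1,0,2,1],1600⟩,
 ⟨[33,0,45],[0,1,0],[1,0,1,2],1041⟩,
 ⟨[0,33,46],[0,1,0],[1,0,2,1],1607⟩,
 ⟨[0,34,42],[0,1,0],[1,0,2,1],1647⟩,
 ⟨[0,43,34],[0,2,1,0],[1,0,1],1648⟩,
 ⟨[34,45,0],[0,1,0,2],[1,0,1],1653⟩,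
 ⟨[46,0,34],[0,2,1,0],[1,0,1],1655⟩,
 ⟨[42,35,0],[0,1,0],[1,0,2,1],1695⟩,
 ⟨[0,35,43],[0,1,0],[1,0,2,1],1696⟩,
 ⟨[45,0,35],[0,2,1,0],[1,0,1],1701⟩,
 ⟨[0,35,46],[0,1,0],[1,0,2,1],1703⟩,
 ⟨[0,42,37],[0,2,1,0],[1,0,1],1791⟩,
 ⟨[37,0,43],[0,1,0],[1,0,1,2],805⟩,
 ⟨[0,37,45],[0,1,0],[1,0,2,1],1797⟩,
 ⟨[0,37,46],[0,1,0],[1,0,2,1],1799⟩,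
 ⟨[41,42,0],[0,1,0,2],[1,0,1],1983⟩,
 ⟨[41,0,43],[0,1,0,2],[1,0,1],1984⟩,
 ⟨[41,45,0],[0,1,0],[1,0,1,2],1049⟩,
 ⟨[41,46,0],[0,1,0],[1,0,1,2],1145⟩,
 ⟨[1,2,31],[0,1,0,2],[1,0,1],54⟩,
 ⟨[1,32,2],[0,2,1,0],[1,0,1],102⟩,
 ⟨[2,1,42],[0,1,0],[1,0,2,1],65⟩,
 ⟨[36,1,3],[0,1,0],[1,0,2,1],58⟩,
 ⟨[38,1,3],[0,1,0],[1,0,2,1],60⟩,
 ⟨[1,4,32],[0,1,0],[1,0,2,1],198⟩,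
 ⟨[5,32,1],[0,1,0],[1,0,1,2],293⟩,
 ⟨[42,1,6],[0,1,0],[1,0,2,1],72⟩,
 ⟨[47,6,1],[0,1,0],[1,0,2,1],312⟩,
 ⟨[7,1,35],[0,1,0,3,2],[1,0,1,2],352⟩,
 ⟨[41,1,7],[0,2,1,0],[1,0,1],351⟩,
 ⟨[1,27,9],[0,1,0],[1,0,1,2],529⟩,
 ⟨[1,9,30],[0,1,0],[1,0,2,1],436⟩,
 ⟨[32,1,9],[0,2,1,0],[1,0,1],438⟩,
 ⟨[1,34,9],[0,1,0],[1,0,1,2],865⟩,
 ⟨[1,9,41],[0,1,0],[1,0,2,1],447⟩,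
 ⟨[9,1,43],[0,1,0],[1,0,1,2],825⟩,
 ⟨[1,10,32],[0,1,0],[1,0,2,1],486⟩,
 ⟨[10,1,39],[0,1,0,3,2],[1,0,1,2],506⟩,
 ⟨[10,1,43],[0,1,0,2],[1,0,1],497⟩,
 ⟨[10,1,47],[0,1,0],[1,0,1,2],1162⟩,
 ⟨[1,11,20],[0,1,0],[1,0,1,2],433⟩,
 ⟨[1,11,25],[0,1,0],[1,0,2,1],530⟩,
 ⟨[1,11,32],[0,1,0],[1,0,2,1],534⟩,
 ⟨[11,1,38],[0,1,0],[1,0,2,1],75⟩,
 ⟨[1,11,41],[0,1,0],[1,0,2,1],543⟩,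
 ⟨[1,45,11],[0,2,1,0],[1,0,1],550⟩,
 ⟨[18,12,1],[0,2,1,0],[1,0,1],56⟩,
 ⟨[32,12,1],[0,1,0],[1,0,2,1],582⟩,
 ⟨[12,40,1],[0,1,0,3,2],[1,0,1,2],607⟩,
 ⟨[12,1,45],[0,1,0],[1,0,1,2],1068⟩,
 ⟨[47,12,1],[0,1,0],[1,0,2,1],600⟩,
 ⟨[27,1,13],[0,1,0],[1,0,2,1],62⟩,
 ⟨[1,13,32],[0,1,0],[1,0,2,1],630⟩,
 ⟨[38,13,1],[0,2,1,0],[1,0,1],77⟩,
 ⟨[13,43,1],[0,1,0,2],[1,0,1],641⟩,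
 ⟨[1,47,13],[0,2,1,0],[1,0,1],648⟩,
 ⟨[14,32,1],[0,1,0,2],[1,0,1],678⟩,
 ⟨[1,36,14],[0,1,0],[1,0,1,2],1393⟩,
 ⟨[45,1,14],[0,2,1,0],[1,0,1],694⟩,
 ⟨[1,14,47],[0,1,0],[1,0,2,1],696⟩,
 ⟨[15,1,43],[0,1,0],[1,0,1,2],831⟩,
 ⟨[17,1,47],[0,1,0],[1,0,1,2],1169⟩,
 ⟨[18,25,1],[0,1,0,2],[1,0,1],866⟩,
 ⟨[18,30,1],[0,1,0],[1,0,1,2],210⟩,
 ⟨[18,1,38],[0,1,0],[1,0,2,1],82⟩,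
 ⟨[43,18,1],[0,1,0],[1,0,2,1],881⟩,
 ⟨[18,45,1],[0,1,0],[1,0,1,2],1074⟩,
 ⟨[1,19,43],[0,1,0],[1,0,2,1],929⟩,
 ⟨[19,44,1],[0,1,0,3,2],[1,0,1,2],954⟩,
 ⟨[45,19,1],[0,1,0],[1,0,2,1],934⟩,
 ⟨[1,19,47],[0,1,0],[1,0,2,1],936⟩,
 ⟨[32,1,20],[0,2,1,0],[1,0,1],966⟩,
 ⟨[1,20,38],[0,1,0],[1,0,1,2],1729⟩,
 ⟨[1,20,43],[0,1,0],[1,0,2,1],977⟩,
 ⟨[47,1,20],[0,2,1,0],[1,0,1],984⟩,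
 ⟨[1,26,22],[0,1,0],[1,0,1,2],1153⟩,
 ⟨[22,1,47],[0,1,0],[1,0,1,2],1174⟩,
 ⟨[1,23,27],[0,2,1,0],[1,0,1],1296⟩,
 ⟨[1,24,32],[0,1,0],[1,0,2,1],1158⟩,
 ⟨[24,1,45],[0,1,0],[1,0,1,2],1080⟩,
 ⟨[1,26,25],[0,1,0],[1,0,2,1],1250⟩,
 ⟨[25,1,29],[0,2,1,0],[1,0,1],1394⟩,
 ⟨[25,36,1],[0,1,0],[1,0,2,1],1730⟩,
 ⟨[26,32,1],[0,1,0],[1,0,1,2],314⟩,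
 ⟨[1,26,43],[0,1,0],[1,0,2,1],1265⟩,
 ⟨[26,47,1],[0,1,0],[1,0,1,2],1178⟩,
 ⟨[1,27,32],[0,1,0],[1,0,2,1],1302⟩,
 ⟨[1,36,27],[0,1,0,2],[1,0,1],86⟩,
 ⟨[27,41,1],[0,1,0],[1,0,1,2],747⟩,
 ⟨[45,27,1],[0,1,0],[1,0,2,1],1318⟩,
 ⟨[47,27,1],[0,1,0],[1,0,2,1],1320⟩,
 ⟨[1,30,29],[0,2,1,0],[1,0,1],1396⟩,
 ⟨[32,29,1],[0,1,0],[1,0,2,1],1398⟩,
 ⟨[29,1,33],[0,1,0],[1,0,2,1],84⟩,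
 ⟨[1,43,29],[0,2,1,0],[1,0,1],1409⟩,
 ⟨[45,1,29],[0,2,1,0],[1,0,1],1414⟩,
 ⟨[1,29,47],[0,1,0],[1,0,2,1],1416⟩,
 ⟨[1,31,30],[0,1,0],[1,0,2,1],1492⟩,
 ⟨[1,30,38],[0,2,1,0],[1,0,1],1828⟩,
 ⟨[31,32,1],[0,1,0,2],[1,0,1],1494⟩,
 ⟨[45,31,1],[0,1,0],[1,0,2,1],1510⟩,
 ⟨[31,1,47],[0,1,0,2],[1,0,1],1512⟩,
 ⟨[32,1,36],[0,2,1,0],[1,0,1],1734⟩,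
 ⟨[38,32,1],[0,1,0,2],[1,0,1],1830⟩,
 ⟨[1,43,33],[0,2,1,0],[1,0,1],1601⟩,
 ⟨[33,45,1],[0,1,0,2],[1,0,1],1606⟩,
 ⟨[33,1,47],[0,1,0],[1,0,1,2],1185⟩,
 ⟨[34,41,1],[0,1,0],[1,0,1,2],754⟩,
 ⟨[1,43,34],[0,2,1,0],[1,0,1],1649⟩,
 ⟨[34,1,45],[0,1,0],[1,0,1,2],1090⟩,
 ⟨[1,47,34],[0,2,1,0],[1,0,1],1656⟩,
 ⟨[41,36,1],[0,1,0],[1,0,2,1],1743⟩,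
 ⟨[43,1,36],[0,2,1,0],[1,0,1],1745⟩,
 ⟨[45,36,1],[0,1,0],[1,0,2,1],1750⟩,
 ⟨[47,36,1],[0,1,0],[1,0,2,1],1752⟩,
 ⟨[1,38,41],[0,1,0],[1,0,2,1],1839⟩,
 ⟨[1,43,38],[0,2,1,0],[1,0,1],1841⟩,
 ⟨[45,38,1],[0,1,0],[1,0,2,1],1846⟩,
 ⟨[38,47,1],[0,1,0,2],[1,0,1],1848⟩,
 ⟨[1,42,41],[0,1,0],[1,0,2,1],2031⟩,
 ⟨[43,1,42],[0,2,1,0],[1,0,1],2033⟩,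
 ⟨[42,45,1],[0,1,0],[1,0,1,2],1098⟩,
 ⟨[42,47,1],[0,1,0],[1,0,1,2],1194⟩,
 ⟨[3,30,2],[0,1,0],[1,0,1,2],243⟩,
 ⟨[39,3,2],[0,2,1,0],[1,0,1],109⟩,
 ⟨[5,2,43],[0,1,0],[1,0,2,1],121⟩,
 ⟨[46,2,5],[0,2,1,0],[1,0,1],265⟩,
 ⟨[6,2,47],[0,1,0],[1,0,1,2],1254⟩,
 ⟨[2,7,14],[0,1,0,2],[1,0,1],99⟩,
 ⟨[8,2,29],[0,1,0],[1,0,2,1],108⟩,
 ⟨[2,30,8],[0,2,1,0],[1,0,1],389⟩,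
 ⟨[8,2,31],[0,1,0],[1,0,1,2],296⟩,
 ⟨[2,35,8],[0,1,0,2],[1,0,1],114⟩,
 ⟨[8,36,2],[0,2,1,0],[1,0,1],115⟩,
 ⟨[2,8,41],[0,1,0],[1,0,2,1],400⟩,
 ⟨[2,42,8],[0,2,1,0],[1,0,1],401⟩]

/-- The steps are valid. -/
theorem chk_elims1 : chkElims wTab tTab 0x800000000000000000000000000000000000000000000000000000000000000000000000000000000000800000000000000000000000800000000000c00000000000f00000000000100000000000100000000000100000000000efe20000000011600000000091a8108000007dd1a5000000 elims1 =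
    some 0x28000000000018000000000000000000000000000000001428050000000a08001000001428046000000a18021000001a38013000000c38006000000000000000001400050000000000020000001420056000000810035000001e08073000000020044000000810024040204420442020040254021040401049012020250c0c011000001838067040001628017820000238007000000018206002000888085000408030083000001400077000001830077000081208077800040e08077000004038077800002818077c00000638033f0000003800710000500013610200200004d102040240063efe2000000771168020d304b91fc398255557ddfad81703e := by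
  decide +kernel

end Cfsg.Agent.H46.F4Two
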