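import Cfsg.Agent.H46.F4Two.Table

/-!
# Elimination steps, part 2 (generated file)
-/

set_option autoImplicit false
set_option maxRecDepth 100000

namespace Cfsg.Agent.H46.F4Two

/-- Steps. -/
def elims2 : List Elim := [
 ⟨[10,2,38],[0,1,0,3,2],[1,0,1,2],504⟩,
 ⟨[11,2,19],[0,1,0],[1,0,2,1],104⟩,
 ⟨[11,39,2],[0,2,1,0],[1,0,1],124⟩,
 ⟨[2,41,11],[0,2,1,0],[1,0,1],544⟩,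
 ⟨[11,2,46],[0,1,0],[1,0,1,2],1211⟩,
 ⟨[39,2,12],[0,1,0],[1,0,2,1],125⟩,
 ⟨[42,12,2],[0,1,0],[1,0,2,1],593⟩,
 ⟨[12,47,2],[0,1,0,2],[1,0,1],602⟩,
 ⟨[13,2,40],[0,1,0,3,2],[1,0,1,2],656⟩,
 ⟨[13,2,46],[0,1,0],[1,0,1,2],1213⟩,
 ⟨[13,2,47],[0,1,0,2],[1,0,1],650⟩,
 ⟨[2,14,46],[0,1,0],[1,0,2,1],697⟩,
 ⟨[2,47,14],[0,2,1,0],[1,0,1],698⟩,
 ⟨[2,16,46],[0,1,0],[1,0,2,1],793⟩,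
 ⟨[32,2,17],[0,1,0],[1,0,2,1],122⟩,
 ⟨[2,47,17],[0,2,1,0],[1,0,1],842⟩,
 ⟨[18,30,2],[0,1,0],[1,0,1,2],258⟩,
 ⟨[36,18,2],[0,2,1,0],[1,0,1],129⟩,
 ⟨[2,39,18],[0,1,0],[1,0,1,2],1682⟩,
 ⟨[46,2,18],[0,2,1,0],[1,0,1],889⟩,
 ⟨[19,2,31],[0,1,0,2],[1,0,1],918⟩,
 ⟨[41,19,2],[0,1,0],[1,0,2,1],928⟩,
 ⟨[2,47,19],[0,2,1,0],[1,0,1],938⟩,
 ⟨[20,2,44],[0,1,0,3,2],[1,0,1,2],1003⟩,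
 ⟨[46,20,2],[0,1,0],[1,0,2,1],985⟩,
 ⟨[2,20,47],[0,1,0],[1,0,2,1],986⟩,
 ⟨[2,33,21],[0,1,0],[1,0,2,1],1584⟩,
 ⟨[23,30,2],[0,1,0],[1,0,1,2],263⟩,
 ⟨[23,46,2],[0,1,0,2],[1,0,1],1129⟩,
 ⟨[24,42,2],[0,1,0],[1,0,1,2],840⟩,
 ⟨[24,2,47],[0,1,0],[1,0,1,2],1272⟩,
 ⟨[25,47,2],[0,1,0,2],[1,0,1],1226⟩,
 ⟨[28,2,31],[0,1,0],[1,0,1,2],316⟩,
 ⟨[28,2,36],[0,1,0],[1,0,2,1],135⟩,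
 ⟨[28,41,2],[0,1,0],[1,0,1,2],796⟩,
 ⟨[28,46,2],[0,1,0],[1,0,1,2],1228⟩,
 ⟨[2,47,28],[0,2,1,0],[1,0,1],1370⟩,
 ⟨[2,29,30],[0,1,0],[1,0,2,1],1397⟩,
 ⟨[33,2,29],[0,1,0],[1,0,2,1],132⟩,
 ⟨[29,42,2],[0,1,0],[1,0,1,2],845⟩,
 ⟨[46,2,29],[0,2,1,0],[1,0,1],1417⟩,
 ⟨[29,2,47],[0,1,0,2],[1,0,1],1418⟩,
 ⟨[2,32,30],[0,1,0],[1,0,2,1],1541⟩,
 ⟨[2,30,39],[0,2,1,0],[1,0,1],1877⟩,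
 ⟨[32,31,2],[0,1,0],[1,0,1,2],320⟩,
 ⟨[39,2,31],[0,1,0],[1,0,1,2],327⟩,
 ⟨[32,2,46],[0,1,0],[1,0,1,2],1232⟩,
 ⟨[32,47,2],[0,1,0],[1,0,1,2],1280⟩,
 ⟨[46,33,2],[0,1,0],[1,0,2,1],1609⟩,
 ⟨[47,33,2],[0,1,0],[1,0,2,1],1610⟩,
 ⟨[42,2,35],[0,2,1,0],[1,0,1],1697⟩,
 ⟨[2,46,35],[0,2,1,0],[1,0,1],1705⟩,
 ⟨[47,35,2],[0,1,0],[1,0,2,1],1706⟩,
 ⟨[41,36,2],[0,1,0],[1,0,2,1],1744⟩,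
 ⟨[36,42,2],[0,1,0],[1,0,1,2],852⟩,
 ⟨[2,36,46],[0,1,0],[1,0,2,1],1753⟩,
 ⟨[47,36,2],[0,1,0],[1,0,2,1],1754⟩,
 ⟨[41,39,2],[0,1,0],[1,0,2,1],1888⟩,
 ⟨[2,39,42],[0,1,0],[1,0,2,1],1889⟩,
 ⟨[39,2,46],[0,1,0],[1,0,1,2],1239⟩,
 ⟨[47,39,2],[0,1,0],[1,0,2,1],1898⟩,
 ⟨[2,43,41],[0,1,0],[1,0,2,1],2080⟩,
 ⟨[43,42,2],[0,1,0],[1,0,1,2],859⟩,
 ⟨[46,43,2],[0,1,0],[1,0,2,1],2089⟩,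
 ⟨[2,47,43],[0,2,1,0],[1,0,1],2090⟩,
 ⟨[3,26,4],[0,1,0],[1,0,1,2],291⟩,
 ⟨[4,3,34],[0,1,0,2],[1,0,1],200⟩,
 ⟨[38,4,3],[0,1,0],[1,0,2,1],204⟩,
 ⟨[3,5,22],[0,1,0],[1,0,1,2],195⟩,
 ⟨[3,5,37],[0,1,0],[1,0,2,1],251⟩,
 ⟨[40,5,3],[0,1,0],[1,0,2,1],254⟩,
 ⟨[6,3,36],[0,1,0,2],[1,0,1],298⟩,
 ⟨[3,7,27],[0,1,0,2],[1,0,1],152⟩,
 ⟨[3,7,28],[0,1,0],[1,0,1,2],435⟩,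
 ⟨[3,29,7],[0,1,0],[1,0,1,2],483⟩,
 ⟨[7,3,34],[0,1,0],[1,0,1,2],391⟩,
 ⟨[35,7,3],[0,1,0],[1,0,2,1],345⟩,
 ⟨[7,36,3],[0,1,0,2],[1,0,1],346⟩,
 ⟨[8,3,20],[0,1,0],[1,0,2,1],151⟩,
 ⟨[3,8,28],[0,1,0,2],[1,0,1],155⟩,
 ⟨[29,3,8],[0,1,0],[1,0,2,1],156⟩,
 ⟨[3,8,37],[0,1,0],[1,0,2,1],395⟩,
 ⟨[8,3,38],[0,1,0],[1,0,1,2],584⟩,
 ⟨[3,9,27],[0,1,0],[1,0,1,2],531⟩,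
 ⟨[3,9,29],[0,1,0],[1,0,1,2],627⟩,
 ⟨[3,9,33],[0,1,0],[1,0,2,1],439⟩,
 ⟨[3,9,37],[0,1,0],[1,0,2,1],443⟩,
 ⟨[9,3,39],[0,1,0,2],[1,0,1],445⟩,
 ⟨[3,27,10],[0,1,0],[1,0,1,2],579⟩,
 ⟨[3,33,10],[0,2,1,0],[1,0,1],487⟩,
 ⟨[3,10,38],[0,1,0],[1,0,2,1],492⟩,
 ⟨[10,39,3],[0,1,0,2],[1,0,1],493⟩,
 ⟨[3,11,19],[0,1,0],[1,0,1,2],387⟩,
 ⟨[3,29,11],[0,1,0],[1,0,1,2],675⟩,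
 ⟨[3,11,34],[0,1,0],[1,0,2,1],536⟩,
 ⟨[3,11,35],[0,1,0],[1,0,2,1],537⟩,
 ⟨[3,11,40],[0,1,0],[1,0,2,1],542⟩,
 ⟨[28,3,12],[0,1,0],[1,0,2,1],158⟩,
 ⟨[3,12,36],[0,1,0],[1,0,2,1],586⟩,
 ⟨[12,3,40],[0,1,0],[1,0,1,2],684⟩,
 ⟨[3,13,35],[0,1,0],[1,0,2,1],633⟩,
 ⟨[3,13,36],[0,1,0],[1,0,2,1],634⟩,
 ⟨[40,13,3],[0,1,0],[1,0,2,1],638⟩,
 ⟨[3,14,37],[0,1,0],[1,0,2,1],683⟩,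
 ⟨[3,15,25],[0,1,0,2],[1,0,1],160⟩,
 ⟨[3,15,26],[0,1,0],[1,0,1,2],819⟩,
 ⟨[15,30,3],[0,2,1,0],[1,0,1],165⟩,
 ⟨[3,31,15],[0,1,0],[1,0,1,2],1059⟩,
 ⟨[15,37,3],[0,1,0,2],[1,0,1],731⟩,
 ⟨[3,15,38],[0,1,0],[1,0,2,1],732⟩,
 ⟨[16,3,22],[0,1,0],[1,0,2,1],159⟩,
 ⟨[3,30,16],[0,1,0],[1,0,1,2],1107⟩,
 ⟨[3,32,16],[0,1,0],[1,0,1,2],1203⟩,
 ⟨[3,34,16],[0,2,1,0],[1,0,1],776⟩,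
 ⟨[3,35,16],[0,2,1,0],[1,0,1],777⟩,
 ⟨[39,3,16],[0,2,1,0],[1,0,1],781⟩,
 ⟨[17,3,31],[0,1,0],[1,0,2,1],168⟩,
 ⟨[32,3,17],[0,1,0],[1,0,2,1],170⟩,
 ⟨[3,17,33],[0,1,0],[1,0,2,1],823⟩,
 ⟨[34,3,17],[0,2,1,0],[1,0,1],824⟩,
 ⟨[17,3,35],[0,1,0],[1,0,1,2],449⟩,
 ⟨[3,39,17],[0,2,1,0],[1,0,1],829⟩,
 ⟨[18,33,3],[0,1,0,2],[1,0,1],871⟩,
 ⟨[34,18,3],[0,1,0],[1,0,2,1],872⟩,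
 ⟨[18,3,35],[0,1,0],[1,0,1,2],450⟩,
 ⟨[18,3,37],[0,1,0],[1,0,1,2],546⟩,
 ⟨[3,19,33],[0,1,0],[1,0,2,1],919⟩,
 ⟨[3,19,34],[0,1,0],[1,0,2,1],920⟩,
 ⟨[3,19,36],[0,1,0],[1,0,2,1],922⟩,
 ⟨[38,19,3],[0,1,0],[1,0,2,1],924⟩,
 ⟨[3,20,33],[0,1,0],[1,0,2,1],967⟩,
 ⟨[3,20,35],[0,1,0],[1,0,2,1],969⟩,
 ⟨[3,20,36],[0,1,0],[1,0,2,1],970⟩,
 ⟨[39,3,20],[0,2,1,0],[1,0,1],973⟩,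
 ⟨[25,3,21],[0,1,0],[1,0,2,1],167⟩,
 ⟨[3,32,21],[0,1,0],[1,0,1,2],1443⟩,
 ⟨[3,33,21],[0,2,1,0],[1,0,1],1015⟩,
 ⟨[21,3,34],[0,1,0,2],[1,0,1],1016⟩,
 ⟨[3,35,21],[0,2,1,0],[1,0,1],1017⟩,
 ⟨[21,38,3],[0,1,0,2],[1,0,1],1020⟩,
 ⟨[3,22,23],[0,1,0],[1,0,1,2],1011⟩,
 ⟨[3,26,22],[0,1,0],[1,0,1,2],1155⟩,
 ⟨[3,32,22],[0,1,0,2],[1,0,1],175⟩,
 ⟨[33,22,3],[0,1,0],[1,0,2,1],1063⟩,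
 ⟨[3,22,34],[0,1,0],[1,0,2,1],1064⟩,
 ⟨[36,22,3],[0,1,0],[1,0,2,1],1066⟩,
 ⟨[3,22,37],[0,1,0],[1,0,2,1],1067⟩,
 ⟨[22,38,3],[0,1,0],[1,0,1,2],598⟩,
 ⟨[40,22,3],[0,1,0],[1,0,2,1],1070⟩,
 ⟨[3,33,23],[0,2,1,0],[1,0,1],1111⟩,
 ⟨[3,23,34],[0,1,0],[1,0,2,1],1112⟩,
 ⟨[3,23,35],[0,1,0],[1,0,2,1],1113⟩,
 ⟨[37,3,23],[0,2,1,0],[1,0,1],1115⟩,
 ⟨[3,23,39],[0,1,0],[1,0,2,1],1117⟩,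
 ⟨[3,24,33],[0,1,0],[1,0,2,1],1159⟩,
 ⟨[3,34,24],[0,2,1,0],[1,0,1],1160⟩,
 ⟨[40,3,24],[0,2,1,0],[1,0,1],1166⟩,
 ⟨[31,3,25],[0,1,0],[1,0,2,1],176⟩,
 ⟨[3,33,25],[0,2,1,0],[1,0,1],1207⟩,
 ⟨[25,3,35],[0,1,0,2],[1,0,1],1209⟩,
 ⟨[3,25,36],[0,1,0],[1,0,2,1],1210⟩,
 ⟨[25,3,37],[0,1,0],[1,0,1,2],553⟩,
 ⟨[25,40,3],[0,1,0,2],[1,0,1],1214⟩,
 ⟨[3,33,26],[0,2,1,0],[1,0,1],1255⟩,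
 ⟨[26,35,3],[0,1,0],[1,0,1,2],458⟩,
 ⟨[26,36,3],[0,1,0,2],[1,0,1],1258⟩,
 ⟨[3,38,26],[0,2,1,0],[1,0,1],1260⟩,
 ⟨[3,40,26],[0,2,1,0],[1,0,1],1262⟩,
 ⟨[27,3,34],[0,1,0],[1,0,1,2],411⟩,
 ⟨[27,37,3],[0,1,0,2],[1,0,1],1307⟩,
 ⟨[38,27,3],[0,1,0],[1,0,2,1],1308⟩,
 ⟨[27,3,40],[0,1,0,2],[1,0,1],1310⟩,
 ⟨[35,28,3],[0,1,0],[1,0,2,1],1353⟩,
 ⟨[28,37,3],[0,1,0],[1,0,1,2],556⟩,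
 ⟨[28,3,39],[0,1,0],[1,0,1,2],652⟩,
 ⟨[28,3,40],[0,1,0,2],[1,0,1],1358⟩,
 ⟨[29,36,3],[0,1,0],[1,0,1,2],509⟩,
 ⟨[29,38,3],[0,1,0,2],[1,0,1],1404⟩,
 ⟨[3,29,39],[0,1,0],[1,0,2,1],1405⟩,
 ⟨[29,40,3],[0,1,0],[1,0,1,2],701⟩,
 ⟨[34,3,30],[0,2,1,0],[1,0,1],1448⟩,
 ⟨[30,3,35],[0,1,0,2],[1,0,1],1449⟩,
 ⟨[30,37,3],[0,1,0,2],[1,0,1],1451⟩,
 ⟨[30,3,38],[0,1,0],[1,0,1,2],606⟩,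
 ⟨[3,39,30],[0,2,1,0],[1,0,1],1453⟩,
 ⟨[3,30,40],[0,1,0],[1,0,2,1],1454⟩,
 ⟨[3,34,31],[0,2,1,0],[1,0,1],1496⟩,
 ⟨[3,36,31],[0,2,1,0],[1,0,1],1498⟩,
 ⟨[3,31,37],[0,1,0],[1,0,2,1],1499⟩,
 ⟨[31,39,3],[0,1,0],[1,0,1,2],655⟩,
 ⟨[31,40,3],[0,1,0],[1,0,1,2],703⟩,
 ⟨[3,35,32],[0,2,1,0],[1,0,1],1545⟩,
 ⟨[32,36,3],[0,1,0],[1,0,1,2],512⟩,
 ⟨[32,37,3],[0,1,0],[1,0,1,2],560⟩,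
 ⟨[32,38,3],[0,1,0,2],[1,0,1],1548⟩,
 ⟨[32,3,40],[0,1,0],[1,0,1,2],704⟩,
 ⟨[46,5,4],[0,1,0],[1,0,2,1],270⟩,
 ⟨[45,6,4],[0,2,1,0],[1,0,1],223⟩,
 ⟨[4,7,25],[0,1,0],[1,0,2,1],341⟩,
 ⟨[4,7,26],[0,1,0],[1,0,2,1],342⟩,
 ⟨[4,9,19],[0,1,0],[1,0,1,2],340⟩,
 ⟨[41,4,9],[0,2,1,0],[1,0,1],453⟩,
 ⟨[46,9,4],[0,1,0],[1,0,2,1],462⟩,
 ⟨[10,4,18],[0,1,0],[1,0,2,1],199⟩,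
 ⟨[10,4,25],[0,1,0],[1,0,1,2],250⟩,
 ⟨[4,34,10],[0,1,0,2],[1,0,1],211⟩,
 ⟨[10,4,40],[0,1,0],[1,0,2,1],221⟩,
 ⟨[42,4,10],[0,2,1,0],[1,0,1],502⟩,
 ⟨[11,4,29],[0,1,0],[1,0,2,1],206⟩,
 ⟨[11,4,38],[0,1,0],[1,0,2,1],219⟩,
 ⟨[18,4,13],[0,1,0],[1,0,2,1],201⟩,
 ⟨[37,4,13],[0,1,0],[1,0,2,1],220⟩,
 ⟨[13,4,46],[0,1,0,2],[1,0,1],654⟩,
 ⟨[46,14,4],[0,1,0],[1,0,2,1],702⟩,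
 ⟨[14,4,47],[0,1,0],[1,0,1,2],1502⟩,
 ⟨[15,4,41],[0,1,0,2],[1,0,1],741⟩,
 ⟨[17,38,4],[0,1,0],[1,0,2,1],1825⟩,
 ⟨[18,4,38],[0,1,0],[1,0,2,1],226⟩,
 ⟨[18,41,4],[0,1,0],[1,0,1,2],1026⟩,
 ⟨[4,18,42],[0,1,0],[1,0,2,1],886⟩,
 ⟨[46,18,4],[0,1,0],[1,0,2,1],894⟩,
 ⟨[4,40,19],[0,1,0,2],[1,0,1],230⟩,
 ⟨[19,41,4],[0,1,0],[1,0,1,2],1027⟩,
 ⟨[47,19,4],[0,1,0],[1,0,2,1],943⟩,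
 ⟨[4,21,24],[0,1,0,2],[1,0,1],214⟩,
 ⟨[4,32,21],[0,1,0],[1,0,1,2],1444⟩,
 ⟨[21,42,4],[0,1,0],[1,0,1,2],1077⟩,
 ⟨[21,4,46],[0,1,0],[1,0,1,2],1461⟩,
 ⟨[4,22,47],[0,1,0],[1,0,2,1],1087⟩,
 ⟨[23,4,46],[0,1,0],[1,0,1,2],1463⟩,
 ⟨[47,4,24],[0,2,1,0],[1,0,1],1183⟩,
 ⟨[32,4,25],[0,1,0],[1,0,1,2],272⟩,
 ⟨[25,4,37],[0,2,1,0],[1,0,1],1781⟩,
 ⟨[40,4,25],[0,1,0],[1,0,1,2],280⟩,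
 ⟨[4,26,28],[0,2,1,0],[1,0,1],1350⟩,
 ⟨[32,4,26],[0,1,0,2],[1,0,1],1542⟩,
 ⟨[40,26,4],[0,1,0],[1,0,1,2],328⟩,
 ⟨[27,4,44],[0,1,0,3,2],[1,0,1,2],1341⟩,
 ⟨[4,46,27],[0,2,1,0],[1,0,1],1326⟩,
 ⟨[27,4,47],[0,1,0,2],[1,0,1],1327⟩,
 ⟨[4,28,34],[0,1,0],[1,0,1,2],1780⟩,
 ⟨[4,28,38],[0,1,0],[1,0,1,2],1924⟩,
 ⟨[46,28,4],[0,1,0],[1,0,2,1],1374⟩,
 ⟨[47,28,4],[0,1,0],[1,0,2,1],1375⟩,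
 ⟨[37,4,29],[0,1,0],[1,0,2,1],232⟩,
 ⟨[29,4,46],[0,1,0,2],[1,0,1],1422⟩,
 ⟨[47,29,4],[0,1,0],[1,0,2,1],1423⟩,
 ⟨[30,47,4],[0,1,0],[1,0,1,2],1518⟩,
 ⟨[46,32,4],[0,1,0],[1,0,2,1],1566⟩,
 ⟨[32,47,4],[0,1,0],[1,0,1,2],1520⟩,
 ⟨[34,46,4],[0,1,0,2],[1,0,1],1662⟩,
 ⟨[4,34,47],[0,1,0],[1,0,2,1],1663⟩,
 ⟨[37,4,42],[0,1,0],[1,0,1,2],1093⟩,
 ⟨[4,37,46],[0,1,0],[1,0,2,1],1806⟩,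
 ⟨[47,4,37],[0,2,1,0],[1,0,1],1807⟩,
 ⟨[4,41,38],[0,2,1,0],[1,0,1],1845⟩,
 ⟨[38,4,42],[0,1,0],[1,0,1,2],1094⟩,
 ⟨[38,46,4],[0,1,0],[1,0,1,2],1478⟩,
 ⟨[38,47,4],[0,1,0,2],[1,0,1],1855⟩,
 ⟨[41,4,40],[0,2,1,0],[1,0,1],1941⟩,
 ⟨[40,42,4],[0,1,0],[1,0,1,2],1096⟩,
 ⟨[40,46,4],[0,1,0],[1,0,1,2],1480⟩,
 ⟨[40,47,4],[0,1,0],[1,0,1,2],1528⟩,
 ⟨[45,4,41],[0,1,0],[1,0,1,2],1053⟩,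
 ⟨[42,45,4],[0,1,0],[1,0,2,1],2182⟩,
 ⟨[45,46,4],[0,1,0,2],[1,0,1],2190⟩,
 ⟨[45,4,47],[0,1,0,2],[1,0,1],2191⟩,
 ⟨[6,5,21],[0,1,0],[1,0,2,1],244⟩,
 ⟨[7,5,27],[0,1,0],[1,0,2,1],248⟩,
 ⟨[8,17,5],[0,1,0,2],[1,0,1],386⟩,
 ⟨[8,5,20],[0,1,0],[1,0,2,1],247⟩,
 ⟨[8,5,24],[0,1,0,2],[1,0,1],390⟩,
 ⟨[8,5,40],[0,1,0],[1,0,2,1],267⟩,
 ⟨[41,8,5],[0,1,0],[1,0,2,1],407⟩,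
 ⟨[8,45,5],[0,1,0,2],[1,0,1],414⟩,
 ⟨[10,5,22],[0,1,0],[1,0,1,2],202⟩,
 ⟨[40,5,10],[0,1,0],[1,0,2,1],269⟩,
 ⟨[10,5,43],[0,1,0,2],[1,0,1],505⟩,
 ⟨[11,5,39],[0,1,0],[1,0,2,1],268⟩,
 ⟨[12,5,45],[0,1,0],[1,0,1,2],1452⟩,
 ⟨[12,47,5],[0,1,0,2],[1,0,1],608⟩,
 ⟨[13,5,43],[0,1,0,2],[1,0,1],649⟩,
 ⟨[5,17,39],[0,2,1,0],[1,0,1],1874⟩,
 ⟨[5,18,22],[0,1,0],[1,0,2,1],868⟩,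
 ⟨[5,18,39],[0,1,0,2],[1,0,1],275⟩,
 ⟨[18,5,43],[0,1,0],[1,0,1,2],1218⟩,
 ⟨[20,24,5],[0,1,0],[1,0,1,2],308⟩,
 ⟨[40,5,20],[0,1,0],[1,0,2,1],279⟩,
 ⟨[20,5,43],[0,1,0],[1,0,1,2],1220⟩,
 ⟨[5,47,20],[0,2,1,0],[1,0,1],992⟩,
 ⟨[24,5,39],[0,2,1,0],[1,0,1],1878⟩,
 ⟨[43,26,5],[0,1,0],[1,0,2,1],1273⟩,
 ⟨[27,5,41],[0,1,0],[1,0,1,2],1131⟩,
 ⟨[5,27,47],[0,1,0],[1,0,2,1],1328⟩,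
 ⟨[28,41,5],[0,1,0],[1,0,1,2],1132⟩,
 ⟨[28,5,44],[0,1,0,3,2],[1,0,1,2],1390⟩,
 ⟨[28,47,5],[0,1,0],[1,0,1,2],1564⟩,
 ⟨[47,5,29],[0,2,1,0],[1,0,1],1424⟩,
 ⟨[30,5,47],[0,1,0,2],[1,0,1],1472⟩,
 ⟨[35,5,43],[0,1,0],[1,0,1,2],1235⟩]

/-- The steps are valid. -/
theorem chk_elims2 : chkElims wTab tTab 0x28000000000018000000000000000000000000000000001428050000000a08001000001428046000000a18021000001a38013000000c38006000000000000000001400050000000000020000001420056000000810035000001e08073000000020044000000810024040204420442020040254021040401049012020250c0c011000001838067040001628017820000238007000000018206002000888085000408030083000001400077000001830077000081208077800040e08077000004038077800002818077c00000638033f0000003800710000500013610200200004d102040240063efe2000000771168020d304b91fc398255557ddfad81703e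 elims2 =
    some 0xc04000000000000000000000060100000000000280000000000180000000002000100000040300640000816280520000c0a08031000007438046000006a380250000c1a38013000006c38007000050001260010141404d50014100a07b380001c74230764000c48142752001c1e0d8730001030254c4008914956eac0402844245ca02005a256ba905648124dd9a220250ccd39908010783a6e70400856395d782004263819708102501a38e00201288a3850004082318830001e740187f0001d783467f0001c562857f800152e5c37f00012743b0ff800046a7a8ffc00048e388fff0000003867711811510053e11a97a844ddd1164f86c57ebefe385a1d9f711fa360d314b91fc398255557ddfad81703e := by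
  decide +kernel

end Cfsg.Agent.H46.F4Two
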