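import Cfsg.Agent.H46.F4Two.Table

/-!
# Elimination steps, part 3 (generated file)
-/

set_option autoImplicit false
set_option maxRecDepth 100000

namespace Cfsg.Agent.H46.F4Two

/-- Steps. -/
def elims3 : List Elim := [
 ⟨[5,35,45],[0,1,0],[1,0,2,1],1710⟩,
 ⟨[47,5,35],[0,2,1,0],[1,0,1],1712⟩,
 ⟨[37,5,43],[0,1,0],[1,0,1,2],1237⟩,
 ⟨[47,37,5],[0,1,0],[1,0,2,1],1808⟩,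
 ⟨[39,41,5],[0,1,0,2],[1,0,1],1895⟩,
 ⟨[39,5,45],[0,1,0,2],[1,0,1],1902⟩,
 ⟨[5,39,47],[0,1,0],[1,0,2,1],1904⟩,
 ⟨[5,41,40],[0,2,1,0],[1,0,1],1943⟩,
 ⟨[40,43,5],[0,1,0,2],[1,0,1],1945⟩,
 ⟨[47,40,5],[0,1,0],[1,0,2,1],1952⟩,
 ⟨[46,5,41],[0,1,0],[1,0,1,2],1150⟩,
 ⟨[46,43,5],[0,1,0,2],[1,0,1],2233⟩,
 ⟨[46,45,5],[0,1,0],[1,0,1,2],1486⟩,
 ⟨[46,5,47],[0,1,0],[1,0,1,2],1582⟩,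
 ⟨[38,6,7],[0,1,0],[1,0,2,1],307⟩,
 ⟨[43,7,6],[0,1,0],[1,0,2,1],362⟩,
 ⟨[8,6,20],[0,1,0],[1,0,2,1],295⟩,
 ⟨[6,8,28],[0,1,0,2],[1,0,1],299⟩,
 ⟨[40,6,8],[0,1,0],[1,0,2,1],315⟩,
 ⟨[6,9,46],[0,1,0],[1,0,2,1],464⟩,
 ⟨[6,10,40],[0,1,0,2],[1,0,1],317⟩,
 ⟨[6,11,29],[0,1,0,2],[1,0,1],302⟩,
 ⟨[45,6,11],[0,2,1,0],[1,0,1],559⟩,
 ⟨[39,19,6],[0,2,1,0],[1,0,1],324⟩,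
 ⟨[40,6,19],[0,1,0],[1,0,2,1],326⟩,
 ⟨[20,42,6],[0,1,0],[1,0,1,2],1172⟩,
 ⟨[32,22,6],[0,2,1,0],[1,0,1],319⟩,
 ⟨[26,46,6],[0,1,0],[1,0,1,2],1562⟩,
 ⟨[28,45,6],[0,1,0],[1,0,1,2],1516⟩,
 ⟨[46,6,28],[0,2,1,0],[1,0,1],1376⟩,
 ⟨[29,6,44],[0,1,0,3,2],[1,0,1,2],1439⟩,
 ⟨[29,6,45],[0,1,0],[1,0,1,2],1517⟩,
 ⟨[45,6,30],[0,2,1,0],[1,0,1],1471⟩,
 ⟨[45,6,36],[0,2,1,0],[1,0,1],1759⟩,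
 ⟨[46,6,36],[0,2,1,0],[1,0,1],1760⟩,
 ⟨[6,43,38],[0,2,1,0],[1,0,1],1850⟩,
 ⟨[38,6,46],[0,1,0,2],[1,0,1],1856⟩,
 ⟨[39,6,42],[0,1,0],[1,0,1,2],1191⟩,
 ⟨[39,6,45],[0,1,0],[1,0,1,2],1527⟩,
 ⟨[40,42,6],[0,1,0],[1,0,1,2],1192⟩,
 ⟨[40,6,43],[0,1,0],[1,0,1,2],1288⟩,
 ⟨[45,40,6],[0,1,0],[1,0,2,1],1951⟩,
 ⟨[47,42,6],[0,1,0],[1,0,1,2],1199⟩,
 ⟨[47,6,43],[0,1,0],[1,0,1,2],1295⟩,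
 ⟨[47,6,45],[0,1,0],[1,0,1,2],1535⟩,
 ⟨[47,46,6],[0,1,0],[1,0,1,2],1583⟩,
 ⟨[13,7,8],[0,1,0],[1,0,2,1],339⟩,
 ⟨[7,8,36],[0,1,0,2],[1,0,1],355⟩,
 ⟨[37,7,8],[0,2,1,0],[1,0,1],402⟩,
 ⟨[38,8,7],[0,1,0],[1,0,2,1],403⟩,
 ⟨[9,36,7],[0,2,1,0],[1,0,1],356⟩,
 ⟨[9,7,37],[0,1,0],[1,0,1,2],873⟩,
 ⟨[9,7,39],[0,1,0,2],[1,0,1],452⟩,
 ⟨[10,14,7],[0,1,0],[1,0,1,2],154⟩,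
 ⟨[7,10,39],[0,1,0],[1,0,2,1],500⟩,
 ⟨[11,7,33],[0,1,0],[1,0,2,1],354⟩,
 ⟨[11,7,37],[0,1,0],[1,0,1,2],875⟩,
 ⟨[12,27,7],[0,1,0],[1,0,1,2],396⟩,
 ⟨[7,14,26],[0,2,1,0],[1,0,1],1251⟩,
 ⟨[7,27,15],[0,2,1,0],[1,0,1],728⟩,
 ⟨[7,15,37],[0,1,0],[1,0,2,1],738⟩,
 ⟨[7,38,15],[0,2,1,0],[1,0,1],739⟩,
 ⟨[7,44,15],[0,2,1,0],[1,0,1],753⟩,
 ⟨[7,17,29],[0,1,0],[1,0,2,1],826⟩,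
 ⟨[38,17,7],[0,1,0],[1,0,2,1],835⟩,
 ⟨[44,17,7],[0,1,0],[1,0,2,1],849⟩,
 ⟨[18,36,7],[0,2,1,0],[1,0,1],369⟩,
 ⟨[7,18,44],[0,1,0],[1,0,2,1],897⟩,
 ⟨[7,19,44],[0,1,0],[1,0,2,1],945⟩,
 ⟨[44,7,20],[0,2,1,0],[1,0,1],993⟩,
 ⟨[43,21,7],[0,2,1,0],[1,0,1],377⟩,
 ⟨[7,22,43],[0,1,0],[1,0,1,2],2023⟩,
 ⟨[23,7,37],[0,1,0],[1,0,1,2],887⟩,
 ⟨[7,23,44],[0,1,0],[1,0,2,1],1137⟩,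
 ⟨[7,24,38],[0,1,0],[1,0,2,1],1171⟩,
 ⟨[41,7,24],[0,1,0],[1,0,2,1],378⟩,
 ⟨[42,25,7],[0,2,1,0],[1,0,1],379⟩,
 ⟨[7,26,28],[0,1,0],[1,0,2,1],1257⟩,
 ⟨[7,27,34],[0,2,1,0],[1,0,1],1640⟩,
 ⟨[41,27,7],[0,1,0,2],[1,0,1],1976⟩,
 ⟨[42,7,27],[0,1,0,2],[1,0,1],2024⟩,
 ⟨[28,35,7],[0,1,0],[1,0,2,1],1689⟩,
 ⟨[41,28,7],[0,1,0],[1,0,1,2],473⟩,
 ⟨[7,43,28],[0,1,0],[1,0,2,1],2073⟩,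
 ⟨[36,7,29],[0,1,0],[1,0,1,2],516⟩,
 ⟨[7,29,42],[0,2,1,0],[1,0,1],2026⟩,
 ⟨[43,29,7],[0,1,0],[1,0,1,2],523⟩,
 ⟨[7,33,37],[0,1,0],[1,0,2,1],1602⟩,
 ⟨[37,34,7],[0,1,0],[1,0,2,1],1650⟩,
 ⟨[34,38,7],[0,1,0],[1,0,1,2],946⟩,
 ⟨[34,7,44],[0,1,0,2],[1,0,1],1665⟩,
 ⟨[37,35,7],[0,1,0],[1,0,2,1],1698⟩,
 ⟨[7,35,39],[0,1,0],[1,0,2,1],1700⟩,
 ⟨[7,35,44],[0,1,0],[1,0,2,1],1713⟩,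
 ⟨[36,38,7],[0,1,0],[1,0,1,2],948⟩,
 ⟨[36,7,39],[0,1,0,2],[1,0,1],1748⟩,
 ⟨[44,36,7],[0,1,0],[1,0,2,1],1761⟩,
 ⟨[37,41,7],[0,1,0],[1,0,2,1],1986⟩,
 ⟨[42,37,7],[0,1,0],[1,0,1,2],906⟩,
 ⟨[43,7,37],[0,1,0],[1,0,1,2],907⟩,
 ⟨[7,41,38],[0,1,0],[1,0,2,1],1987⟩,
 ⟨[43,38,7],[0,1,0],[1,0,1,2],955⟩,
 ⟨[41,39,7],[0,1,0],[1,0,1,2],1001⟩,
 ⟨[42,7,39],[0,1,0],[1,0,1,2],1002⟩,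
 ⟨[41,7,44],[0,1,0],[1,0,1,2],1625⟩,
 ⟨[7,42,44],[0,1,0],[1,0,2,1],2049⟩,
 ⟨[7,43,44],[0,1,0],[1,0,2,1],2097⟩,
 ⟨[11,8,40],[0,1,0,2],[1,0,1],555⟩,
 ⟨[8,37,12],[0,1,0],[1,0,1,2],1304⟩,
 ⟨[12,8,40],[0,1,0,2],[1,0,1],603⟩,
 ⟨[8,13,16],[0,2,1,0],[1,0,1],771⟩,
 ⟨[14,8,40],[0,1,0,2],[1,0,1],699⟩,
 ⟨[8,16,35],[0,1,0],[1,0,2,1],786⟩,
 ⟨[45,8,16],[0,1,0],[1,0,2,1],425⟩,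
 ⟨[8,17,29],[0,1,0],[1,0,2,1],828⟩,
 ⟨[17,8,31],[0,1,0],[1,0,2,1],408⟩,
 ⟨[44,18,8],[0,1,0],[1,0,2,1],898⟩,
 ⟨[19,8,44],[0,1,0],[1,0,1,2],1651⟩,
 ⟨[8,20,33],[0,2,1,0],[1,0,1],1591⟩,
 ⟨[8,21,28],[0,1,0],[1,0,2,1],1019⟩,
 ⟨[8,22,36],[0,1,0],[1,0,2,1],1075⟩,
 ⟨[8,23,44],[0,1,0],[1,0,2,1],1138⟩,
 ⟨[8,24,29],[0,1,0],[1,0,2,1],1164⟩,
 ⟨[30,24,8],[0,2,1,0],[1,0,1],415⟩,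
 ⟨[8,44,24],[0,2,1,0],[1,0,1],1186⟩,
 ⟨[8,33,27],[0,1,0,2],[1,0,1],418⟩,
 ⟨[44,27,8],[0,1,0],[1,0,2,1],1330⟩,
 ⟨[37,8,28],[0,1,0],[1,0,1,2],565⟩,
 ⟨[28,41,8],[0,1,0],[1,0,2,1],1979⟩,
 ⟨[8,45,28],[0,1,0],[1,0,2,1],2171⟩,
 ⟨[31,8,29],[0,1,0,2],[1,0,1],1500⟩,
 ⟨[8,38,29],[0,1,0],[1,0,2,1],1836⟩,
 ⟨[42,29,8],[0,1,0],[1,0,1,2],618⟩,
 ⟨[45,29,8],[0,1,0],[1,0,1,2],621⟩,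
 ⟨[30,42,8],[0,2,1,0],[1,0,1],429⟩,
 ⟨[8,30,44],[0,1,0],[1,0,2,1],1474⟩,
 ⟨[31,40,8],[0,1,0,2],[1,0,1],1515⟩,
 ⟨[8,33,44],[0,1,0],[1,0,2,1],1618⟩,
 ⟨[8,37,35],[0,1,0],[1,0,2,1],1794⟩,
 ⟨[35,8,45],[0,2,1,0],[1,0,1],2178⟩,
 ⟨[36,8,38],[0,2,1,0],[1,0,1],1843⟩,
 ⟨[41,8,36],[0,1,0],[1,0,1,2],953⟩,
 ⟨[36,42,8],[0,1,0],[1,0,2,1],2035⟩,
 ⟨[8,36,45],[0,2,1,0],[1,0,1],2179⟩,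
 ⟨[37,40,8],[0,1,0],[1,0,1,2],1333⟩,
 ⟨[44,37,8],[0,1,0],[1,0,2,1],1810⟩,
 ⟨[40,38,8],[0,1,0],[1,0,2,1],1851⟩,
 ⟨[38,44,8],[0,1,0],[1,0,1,2],1670⟩,
 ⟨[41,40,8],[0,1,0],[1,0,1,2],1337⟩,
 ⟨[8,42,40],[0,1,0],[1,0,2,1],2043⟩,
 ⟨[41,8,44],[0,1,0],[1,0,1,2],1673⟩,
 ⟨[8,44,42],[0,2,1,0],[1,0,1],2050⟩,
 ⟨[45,44,8],[0,1,0],[1,0,1,2],1677⟩,
 ⟨[11,39,9],[0,2,1,0],[1,0,1],460⟩,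
 ⟨[15,9,12],[0,1,0,2],[1,0,1],723⟩,
 ⟨[12,9,32],[0,2,1,0],[1,0,1],1539⟩,
 ⟨[9,13,36],[0,1,0],[1,0,2,1],644⟩,
 ⟨[13,40,9],[0,1,0],[1,0,1,2],1357⟩,
 ⟨[36,15,9],[0,1,0],[1,0,2,1],740⟩,
 ⟨[9,16,36],[0,1,0],[1,0,2,1],788⟩,
 ⟨[44,16,9],[0,1,0],[1,0,2,1],803⟩,
 ⟨[9,17,34],[0,1,0],[1,0,2,1],834⟩,
 ⟨[44,17,9],[0,1,0],[1,0,2,1],851⟩,
 ⟨[46,9,17],[0,1,0],[1,0,2,1],475⟩,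
 ⟨[39,9,18],[0,1,0],[1,0,2,1],467⟩,
 ⟨[44,9,18],[0,2,1,0],[1,0,1],899⟩,
 ⟨[19,41,9],[0,1,0],[1,0,2,1],1975⟩,
 ⟨[44,20,9],[0,1,0],[1,0,2,1],995⟩,
 ⟨[44,23,9],[0,1,0],[1,0,2,1],1139⟩,
 ⟨[25,47,9],[0,1,0,3],[1,0,1,2,3],1897⟩,
 ⟨[9,26,29],[0,1,0],[1,0,2,1],1261⟩,
 ⟨[26,36,9],[0,1,0,2],[1,0,1],1268⟩,
 ⟨[9,26,40],[0,1,0],[1,0,2,1],1276⟩,
 ⟨[27,28,9],[0,1,0],[1,0,2,1],1355⟩,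
 ⟨[9,32,27],[0,1,0],[1,0,2,1],1547⟩,
 ⟨[9,27,37],[0,2,1,0],[1,0,1],1787⟩,
 ⟨[27,9,46],[0,2,1,0],[1,0,1],2219⟩,
 ⟨[28,44,9],[0,1,0],[1,0,1,2],1708⟩,
 ⟨[29,39,9],[0,1,0],[1,0,2,1],1885⟩,
 ⟨[43,29,9],[0,1,0,2],[1,0,1],2077⟩,
 ⟨[46,29,9],[0,1,0],[1,0,1,2],670⟩,
 ⟨[9,30,34],[0,1,0],[1,0,2,1],1458⟩,
 ⟨[30,40,9],[0,1,0,2],[1,0,1],1468⟩,
 ⟨[30,9,43],[0,1,0],[1,0,2,1],478⟩,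
 ⟨[9,36,32],[0,2,1,0],[1,0,1],1556⟩,
 ⟨[36,33,9],[0,1,0],[1,0,2,1],1604⟩,
 ⟨[44,33,9],[0,1,0],[1,0,2,1],1619⟩,
 ⟨[9,46,34],[0,1,0],[1,0,2,1],2226⟩,
 ⟨[36,9,39],[0,2,1,0],[1,0,1],1892⟩,
 ⟨[41,36,9],[0,1,0,2],[1,0,1],1988⟩,
 ⟨[46,36,9],[0,1,0],[1,0,1,2],1006⟩,
 ⟨[37,40,9],[0,1,0],[1,0,1,2],1381⟩,
 ⟨[37,9,44],[0,1,0],[1,0,1,2],1717⟩,
 ⟨[9,40,39],[0,2,1,0],[1,0,1],1900⟩,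
 ⟨[44,9,39],[0,2,1,0],[1,0,1],1907⟩,
 ⟨[41,40,9],[0,1,0,2],[1,0,1],1996⟩,
 ⟨[40,43,9],[0,1,0],[1,0,2,1],2092⟩,
 ⟨[41,9,44],[0,1,0],[1,0,1,2],1721⟩,
 ⟨[43,44,9],[0,1,0,2],[1,0,1],2099⟩,
 ⟨[46,9,44],[0,1,0,2],[1,0,1],2243⟩,
 ⟨[11,10,31],[0,2,1,0],[1,0,1],1491⟩,
 ⟨[33,10,12],[0,1,0],[1,0,2,1],499⟩,
 ⟨[10,12,40],[0,1,0],[1,0,2,1],605⟩,
 ⟨[13,40,10],[0,1,0,2],[1,0,1],653⟩,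
 ⟨[10,14,28],[0,1,0],[1,0,2,1],685⟩,
 ⟨[14,10,40],[0,1,0],[1,0,1,2],1406⟩,
 ⟨[44,15,10],[0,1,0],[1,0,2,1],756⟩,
 ⟨[15,10,47],[0,1,0],[1,0,2,1],522⟩,
 ⟨[10,16,44],[0,1,0],[1,0,2,1],804⟩,
 ⟨[43,10,18],[0,1,0,2],[1,0,1],2071⟩,
 ⟨[10,19,39],[0,1,0],[1,0,1,2],1738⟩,
 ⟨[19,10,44],[0,1,0],[1,0,1,2],1747⟩,
 ⟨[44,20,10],[0,1,0],[1,0,2,1],996⟩,
 ⟨[10,22,40],[0,1,0],[1,0,2,1],1085⟩,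
 ⟨[22,44,10],[0,1,0,2],[1,0,1],1092⟩,
 ⟨[44,10,25],[0,2,1,0],[1,0,1],1236⟩,
 ⟨[40,26,10],[0,1,0],[1,0,2,1],1277⟩,
 ⟨[47,27,10],[0,1,0],[1,0,1,2],623⟩,
 ⟨[28,32,10],[0,1,0],[1,0,2,1],1549⟩,
 ⟨[10,47,28],[0,1,0],[1,0,2,1],2269⟩,
 ⟨[29,44,10],[0,1,0],[1,0,1,2],1757⟩,
 ⟨[31,43,10],[0,2,1,0],[1,0,1],527⟩,
 ⟨[10,32,40],[0,1,0],[1,0,2,1],1565⟩,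
 ⟨[47,34,10],[0,1,0],[1,0,1,2],959⟩,
 ⟨[39,10,35],[0,1,0],[1,0,1,2],999⟩,
 ⟨[10,42,35],[0,1,0],[1,0,2,1],2036⟩,
 ⟨[10,43,35],[0,1,0],[1,0,2,1],2084⟩,
 ⟨[10,47,35],[0,1,0],[1,0,2,1],2276⟩,
 ⟨[40,38,10],[0,1,0],[1,0,2,1],1853⟩,
 ⟨[38,10,44],[0,1,0,2],[1,0,1],1860⟩,
 ⟨[10,40,39],[0,2,1,0],[1,0,1],1901⟩,
 ⟨[39,44,10],[0,1,0],[1,0,1,2],1767⟩,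
 ⟨[10,42,40],[0,1,0],[1,0,2,1],2045⟩,
 ⟨[40,43,10],[0,1,0],[1,0,2,1],2093⟩,
 ⟨[44,42,10],[0,1,0],[1,0,2,1],2052⟩,
 ⟨[43,44,10],[0,1,0],[1,0,1,2],1771⟩,
 ⟨[47,44,10],[0,1,0],[1,0,1,2],1775⟩,
 ⟨[12,29,11],[0,1,0,2],[1,0,1],590⟩,
 ⟨[20,15,11],[0,1,0],[1,0,2,1],729⟩,
 ⟨[11,25,15],[0,1,0],[1,0,1,2],779⟩,
 ⟨[15,44,11],[0,1,0,2],[1,0,1],757⟩,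
 ⟨[15,46,11],[0,2,1,0],[1,0,1],569⟩,
 ⟨[16,11,44],[0,1,0],[1,0,1,2],1792⟩,
 ⟨[44,18,11],[0,1,0],[1,0,2,1],901⟩,
 ⟨[19,11,45],[0,2,1,0],[1,0,1],2168⟩,
 ⟨[20,46,11],[0,1,0],[1,0,2,1],2217⟩,
 ⟨[22,11,38],[0,1,0,2],[1,0,1],1083⟩,
 ⟨[11,22,46],[0,1,0,2],[1,0,1],573⟩,
 ⟨[23,44,11],[0,1,0,2],[1,0,1],1141⟩,
 ⟨[45,11,25],[0,1,0],[1,0,2,1],574⟩,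
 ⟨[32,11,29],[0,1,0,2],[1,0,1],1550⟩,
 ⟨[11,29,40],[0,2,1,0],[1,0,1],1934⟩,
 ⟨[45,29,11],[0,1,0],[1,0,1,2],717⟩,
 ⟨[29,46,11],[0,1,0],[1,0,2,1],2222⟩,
 ⟨[11,30,44],[0,1,0],[1,0,2,1],1477⟩,
 ⟨[30,47,11],[0,1,0,3],[1,0,1,2,3],1950⟩,
 ⟨[44,11,32],[0,2,1,0],[1,0,1],1573⟩,
 ⟨[46,33,11],[0,1,0],[1,0,1,2],910⟩,
 ⟨[38,34,11],[0,1,0],[1,0,2,1],1659⟩,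
 ⟨[35,39,11],[0,1,0],[1,0,1,2],1379⟩,
 ⟨[39,37,11],[0,1,0],[1,0,2,1],1804⟩,
 ⟨[40,38,11],[0,1,0],[1,0,1,2],1336⟩,
 ⟨[11,41,38],[0,1,0],[1,0,2,1],1995⟩,
 ⟨[46,38,11],[0,1,0],[1,0,1,2],1342⟩,
 ⟨[11,39,40],[0,2,1,0],[1,0,1],1948⟩,
 ⟨[41,39,11],[0,1,0],[1,0,1,2],1385⟩,
 ⟨[45,39,11],[0,1,0],[1,0,1,2],1389⟩,
 ⟨[44,40,11],[0,1,0],[1,0,2,1],1957⟩,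
 ⟨[11,44,41],[0,2,1,0],[1,0,1],2005⟩,
 ⟨[45,44,11],[0,1,0,2],[1,0,1],2197⟩,
 ⟨[11,46,44],[0,1,0],[1,0,2,1],2245⟩,
 ⟨[15,12,20],[0,1,0,2],[1,0,1],730⟩,
 ⟨[44,17,12],[0,1,0],[1,0,2,1],854⟩,
 ⟨[40,12,19],[0,1,0],[1,0,2,1],614⟩,
 ⟨[44,19,12],[0,1,0],[1,0,2,1],950⟩,
 ⟨[12,29,20],[0,1,0],[1,0,2,1],1402⟩,
 ⟨[32,12,20],[0,1,0,2],[1,0,1],1546⟩,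
 ⟨[12,47,20],[0,1,0],[1,0,2,1],2266⟩,
 ⟨[21,12,28],[0,1,0],[1,0,1,2],693⟩,
 ⟨[12,44,21],[0,2,1,0],[1,0,1],1046⟩,
 ⟨[12,47,21],[0,1,0],[1,0,1,2],2172⟩,
 ⟨[22,12,41],[0,1,0,3],[1,0,1,2,3],1654⟩,
 ⟨[44,24,12],[0,1,0],[1,0,2,1],1190⟩,
 ⟨[12,26,33],[0,1,0],[1,0,2,1],1267⟩,
 ⟨[44,27,12],[0,1,0],[1,0,2,1],1334⟩,
 ⟨[40,12,28],[0,1,0],[1,0,1,2],712⟩,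
 ⟨[45,28,12],[0,1,0,2],[1,0,1],2174⟩,
 ⟨[47,12,28],[0,1,0],[1,0,1,2],719⟩,
 ⟨[37,30,12],[0,1,0],[1,0,2,1],1467⟩,
 ⟨[44,31,12],[0,1,0],[1,0,2,1],1526⟩,
 ⟨[12,32,37],[0,1,0],[1,0,2,1],1563⟩,
 ⟨[44,32,12],[0,1,0],[1,0,2,1],1574⟩,
 ⟨[45,33,12],[0,1,0],[1,0,1,2],957⟩,
 ⟨[44,36,12],[0,1,0],[1,0,2,1],1766⟩,
 ⟨[37,45,12],[0,1,0],[1,0,2,1],2187⟩,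
 ⟨[47,12,37],[0,1,0],[1,0,1,2],1343⟩,
 ⟨[12,39,40],[0,2,1,0],[1,0,1],1949⟩,
 ⟨[39,45,12],[0,1,0],[1,0,2,1],2189⟩,
 ⟨[44,12,40],[0,2,1,0],[1,0,1],1958⟩,
 ⟨[44,42,12],[0,1,0],[1,0,2,1],2054⟩]

/-- The steps are valid. -/
theorem chk_elims3 : chkElims wTab tTab 0xc04000000000000000000000060100000000000280000000000180000000002000100000040300640000816280520000c0a08031000007438046000006a380250000c1a38013000006c38007000050001260010141404d50014100a07b380001c74230764000c48142752001c1e0d8730001030254c4008914956eac0402844245ca02005a256ba905648124dd9a220250ccd39908010783a6e70400856395d782004263819708102501a38e00201288a3850004082318830001e740187f0001d783467f0001c562857f800152e5c37f00012743b0ff800046a7a8ffc00048e388fff0000003867711811510053e11a97a844ddd1164f86c57ebefe385a1d9f711fa360d314b91fc398255557ddfad81703e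 elims3 =
    some 0x102400002802044a000020e84c5900000000000000000a361122800056281a85800020181d89800061f2a040100009769320640011ad6a90520005d0a5883188c3a75b8446022356b782252242c9ef8113020c06d78087c0607c107e6881c179405d58416598a47b388001c74274766229c4816a75e365c1e0d9738101331a76cc00b914956eac85c6845a55ca422e5a256ba90574a92cdd9a224250ccdb994e9b0783a6e7ae56856395d7ce2e42e38b97085a250db78e0038129cab8d0036083f1f8ba101ef60387f4001f793467fa441ed62c57fe221dae5c37f8c11275bb0ffca0956b7a8ffe204c9ef98fffe02041f867f11d1bd184dbe11a97a844ddd1164f86c57ebefe385a1ddf711fa360d314b91fc398255557ddfad81703e := by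
  decide +kernel

end Cfsg.Agent.H46.F4Two
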