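import Cfsg.Agent.H46.F4Two.Table

/-!
# Elimination steps, part 4 (generated file)
-/

set_option autoImplicit false
set_option maxRecDepth 100000

namespace Cfsg.Agent.H46.F4Two

/-- Steps. -/
def elims4 : List Elim := [
 ⟨[44,45,12],[0,1,0],[1,0,2,1],2198⟩,
 ⟨[47,44,12],[0,1,0],[1,0,1,2],1871⟩,
 ⟨[37,14,13],[0,1,0],[1,0,2,1],700⟩,
 ⟨[13,16,19],[0,1,0],[1,0,2,1],778⟩,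
 ⟨[13,16,44],[0,1,0],[1,0,2,1],807⟩,
 ⟨[47,13,16],[0,1,0],[1,0,2,1],667⟩,
 ⟨[13,17,31],[0,1,0],[1,0,1,2],1165⟩,
 ⟨[44,17,13],[0,1,0],[1,0,2,1],855⟩,
 ⟨[40,20,13],[0,2,1,0],[1,0,1],663⟩,
 ⟨[23,27,13],[0,1,0],[1,0,1,2],695⟩,
 ⟨[33,23,13],[0,1,0],[1,0,2,1],1124⟩,
 ⟨[13,23,47],[0,1,0],[1,0,1,2],2221⟩,
 ⟨[38,24,13],[0,1,0],[1,0,2,1],1181⟩,
 ⟨[46,24,13],[0,2,1,0],[1,0,1],671⟩,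
 ⟨[44,26,13],[0,1,0],[1,0,2,1],1287⟩,
 ⟨[46,13,27],[0,1,0],[1,0,1,2],718⟩,
 ⟨[44,28,13],[0,1,0],[1,0,2,1],1383⟩,
 ⟨[44,29,13],[0,1,0],[1,0,2,1],1431⟩,
 ⟨[38,30,13],[0,1,0],[1,0,2,1],1469⟩,
 ⟨[30,13,44],[0,1,0,2],[1,0,1],1479⟩,
 ⟨[33,46,13],[0,1,0],[1,0,2,1],2228⟩,
 ⟨[47,13,33],[0,1,0],[1,0,1,2],1007⟩,
 ⟨[44,35,13],[0,1,0],[1,0,2,1],1719⟩,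
 ⟨[36,44,13],[0,1,0],[1,0,1,2],1908⟩,
 ⟨[40,37,13],[0,1,0],[1,0,1,2],1384⟩,
 ⟨[43,37,13],[0,1,0],[1,0,1,2],1387⟩,
 ⟨[47,37,13],[0,1,0],[1,0,1,2],1391⟩,
 ⟨[40,38,13],[0,1,0],[1,0,1,2],1432⟩,
 ⟨[43,38,13],[0,1,0],[1,0,1,2],1435⟩,
 ⟨[46,38,13],[0,1,0],[1,0,1,2],1438⟩,
 ⟨[44,40,13],[0,1,0],[1,0,2,1],1959⟩,
 ⟨[43,44,13],[0,1,0,2],[1,0,1],2103⟩,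
 ⟨[46,44,13],[0,1,0],[1,0,1,2],1918⟩,
 ⟨[13,44,47],[0,2,1,0],[1,0,1],2295⟩,
 ⟨[19,47,14],[0,1,0],[1,0,2,1],2268⟩,
 ⟨[14,34,21],[0,2,1,0],[1,0,1],1035⟩,
 ⟨[44,14,21],[0,2,1,0],[1,0,1],1048⟩,
 ⟨[22,44,14],[0,1,0],[1,0,1,2],1942⟩,
 ⟨[44,23,14],[0,1,0],[1,0,2,1],1144⟩,
 ⟨[14,46,24],[0,1,0],[1,0,1,2],2270⟩,
 ⟨[36,25,14],[0,1,0],[1,0,2,1],1229⟩,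
 ⟨[14,25,44],[0,1,0],[1,0,2,1],1240⟩,
 ⟨[32,44,14],[0,1,0,2],[1,0,1],1576⟩,
 ⟨[38,36,14],[0,1,0],[1,0,1,2],1430⟩,
 ⟨[46,36,14],[0,1,0,2],[1,0,1],2237⟩,
 ⟨[44,37,14],[0,1,0],[1,0,2,1],1816⟩,
 ⟨[44,39,14],[0,1,0],[1,0,2,1],1912⟩,
 ⟨[45,44,14],[0,1,0,2],[1,0,1],2200⟩,
 ⟨[14,44,46],[0,2,1,0],[1,0,1],2248⟩,
 ⟨[47,14,44],[0,1,0],[1,0,1,2],1967⟩,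
 ⟨[16,15,45],[0,1,0],[1,0,2,1],761⟩,
 ⟨[46,16,15],[0,1,0],[1,0,2,1],809⟩,
 ⟨[17,25,15],[0,1,0],[1,0,1,2],785⟩,
 ⟨[37,15,20],[0,1,0],[1,0,2,1],755⟩,
 ⟨[43,15,22],[0,1,0],[1,0,2,1],762⟩,
 ⟨[43,15,25],[0,1,0],[1,0,1,2],811⟩,
 ⟨[25,44,15],[0,1,0],[1,0,2,1],2128⟩,
 ⟨[42,15,26],[0,1,0],[1,0,1,2],858⟩,
 ⟨[26,43,15],[0,1,0],[1,0,2,1],2081⟩,
 ⟨[44,15,26],[0,1,0],[1,0,1,2],860⟩,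
 ⟨[27,15,36],[0,1,0],[1,0,2,1],758⟩,
 ⟨[47,27,15],[0,1,0],[1,0,2,1],1338⟩,
 ⟨[34,15,30],[0,1,0],[1,0,1,2],1042⟩,
 ⟨[35,30,15],[0,1,0],[1,0,1,2],1043⟩,
 ⟨[37,30,15],[0,1,0],[1,0,1,2],1045⟩,
 ⟨[41,30,15],[0,1,0,2],[1,0,1],1989⟩,
 ⟨[30,44,15],[0,1,0],[1,0,2,1],2133⟩,
 ⟨[31,37,15],[0,1,0],[1,0,2,1],1798⟩,
 ⟨[15,44,31],[0,1,0],[1,0,2,1],2134⟩,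
 ⟨[33,39,15],[0,1,0,3,2],[1,0,1,2],1627⟩,
 ⟨[33,47,15],[0,1,0,2],[1,0,1],1626⟩,
 ⟨[15,34,47],[0,1,0],[1,0,2,1],1674⟩,
 ⟨[35,38,15],[0,2,1,0],[1,0,1],764⟩,
 ⟨[47,15,35],[0,2,1,0],[1,0,1],1722⟩,
 ⟨[46,15,36],[0,2,1,0],[1,0,1],1769⟩,
 ⟨[47,36,15],[0,1,0],[1,0,2,1],1770⟩,
 ⟨[37,15,46],[0,1,0,2],[1,0,1],1817⟩,
 ⟨[15,37,47],[0,1,0],[1,0,2,1],1818⟩,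
 ⟨[46,38,15],[0,1,0],[1,0,2,1],1865⟩,
 ⟨[47,38,15],[0,1,0],[1,0,2,1],1866⟩,
 ⟨[47,41,15],[0,1,0],[1,0,2,1],2010⟩,
 ⟨[42,15,46],[0,1,0,2],[1,0,1],2057⟩,
 ⟨[43,15,46],[0,1,0],[1,0,1,2],2011⟩,
 ⟨[15,47,43],[0,2,1,0],[1,0,1],2106⟩,
 ⟨[44,46,15],[0,1,0,2],[1,0,1],2153⟩,
 ⟨[15,44,47],[0,1,0],[1,0,2,1],2154⟩,
 ⟨[45,46,15],[0,1,0],[1,0,1,2],2013⟩,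
 ⟨[45,47,15],[0,1,0,2],[1,0,1],2202⟩,
 ⟨[36,18,16],[0,2,1,0],[1,0,1],801⟩,
 ⟨[37,16,19],[0,1,0],[1,0,2,1],802⟩,
 ⟨[19,47,16],[0,1,0],[1,0,1,2],2083⟩,
 ⟨[22,16,44],[0,2,1,0],[1,0,1],2127⟩,
 ⟨[34,16,24],[0,1,0],[1,0,1,2],850⟩,
 ⟨[47,25,16],[0,1,0],[1,0,2,1],1243⟩,
 ⟨[47,16,26],[0,2,1,0],[1,0,1],1291⟩,
 ⟨[28,32,16],[0,1,0,2],[1,0,1],1369⟩,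
 ⟨[39,30,16],[0,1,0],[1,0,1,2],1143⟩,
 ⟨[30,41,16],[0,1,0],[1,0,2,1],1991⟩,
 ⟨[30,44,16],[0,1,0],[1,0,2,1],2135⟩,
 ⟨[32,37,16],[0,1,0],[1,0,2,1],1801⟩,
 ⟨[44,32,16],[0,1,0],[1,0,1,2],1244⟩,
 ⟨[39,16,34],[0,1,0],[1,0,2,1],812⟩,
 ⟨[47,34,16],[0,1,0],[1,0,2,1],1675⟩,
 ⟨[35,40,16],[0,1,0,3,2],[1,0,1,2],1726⟩,
 ⟨[47,35,16],[0,1,0],[1,0,2,1],1723⟩,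
 ⟨[47,16,37],[0,2,1,0],[1,0,1],1819⟩,
 ⟨[45,39,16],[0,1,0],[1,0,2,1],1913⟩,
 ⟨[47,39,16],[0,1,0],[1,0,2,1],1915⟩,
 ⟨[41,47,16],[0,1,0],[1,0,1,2],2105⟩,
 ⟨[47,16,42],[0,2,1,0],[1,0,1],2059⟩,
 ⟨[44,47,16],[0,1,0],[1,0,1,2],2108⟩,
 ⟨[46,45,16],[0,1,0],[1,0,1,2],2014⟩,
 ⟨[16,46,47],[0,1,0],[1,0,2,1],2251⟩,
 ⟨[29,17,45],[0,1,0,2],[1,0,1],1434⟩,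
 ⟨[36,17,31],[0,1,0],[1,0,1,2],1188⟩,
 ⟨[44,31,17],[0,1,0],[1,0,1,2],1196⟩,
 ⟨[36,17,32],[0,1,0],[1,0,1,2],1284⟩,
 ⟨[44,32,17],[0,1,0],[1,0,1,2],1292⟩,
 ⟨[46,38,17],[0,1,0],[1,0,2,1],1867⟩,
 ⟨[45,39,17],[0,1,0],[1,0,2,1],1914⟩,
 ⟨[17,44,46],[0,1,0],[1,0,2,1],2155⟩,
 ⟨[47,45,17],[0,1,0],[1,0,1,2],2063⟩,
 ⟨[46,47,17],[0,1,0],[1,0,2,1],2299⟩,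
 ⟨[19,18,36],[0,1,0],[1,0,1,2],1603⟩,
 ⟨[36,22,18],[0,1,0],[1,0,2,1],1089⟩,
 ⟨[36,25,18],[0,1,0],[1,0,2,1],1233⟩,
 ⟨[42,30,18],[0,2,1,0],[1,0,1],909⟩,
 ⟨[40,34,18],[0,1,0],[1,0,2,1],1669⟩,
 ⟨[44,36,18],[0,1,0],[1,0,1,2],1628⟩,
 ⟨[45,18,36],[0,1,0],[1,0,1,2],1629⟩,
 ⟨[46,36,18],[0,1,0],[1,0,1,2],1630⟩,
 ⟨[18,37,39],[0,1,0],[1,0,2,1],1811⟩,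
 ⟨[43,18,38],[0,1,0,2],[1,0,1],2098⟩,
 ⟨[38,18,44],[0,2,1,0],[1,0,1],2146⟩,
 ⟨[38,18,45],[0,2,1,0],[1,0,1],2194⟩,
 ⟨[46,18,38],[0,1,0],[1,0,1,2],1678⟩,
 ⟨[18,39,41],[0,2,1,0],[1,0,1],2003⟩,
 ⟨[44,39,18],[0,1,0],[1,0,1,2],1724⟩,
 ⟨[18,45,39],[0,1,0],[1,0,2,1],2195⟩,
 ⟨[40,43,18],[0,1,0],[1,0,2,1],2101⟩,
 ⟨[44,40,18],[0,1,0],[1,0,1,2],1820⟩,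
 ⟨[45,40,18],[0,1,0],[1,0,1,2],1821⟩,
 ⟨[40,26,19],[0,1,0],[1,0,2,1],1286⟩,
 ⟨[39,29,19],[0,1,0],[1,0,2,1],1428⟩,
 ⟨[37,31,19],[0,1,0],[1,0,2,1],1522⟩,
 ⟨[19,39,31],[0,2,1,0],[1,0,1],1524⟩,
 ⟨[39,33,19],[0,1,0],[1,0,2,1],1620⟩,
 ⟨[34,40,19],[0,1,0],[1,0,1,2],1858⟩,
 ⟨[35,19,44],[0,2,1,0],[1,0,1],2145⟩,
 ⟨[47,19,35],[0,1,0],[1,0,1,2],1631⟩,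
 ⟨[37,41,19],[0,1,0],[1,0,2,1],2002⟩,
 ⟨[44,37,19],[0,1,0],[1,0,1,2],1676⟩,
 ⟨[47,37,19],[0,1,0],[1,0,1,2],1679⟩,
 ⟨[44,19,39],[0,1,0],[1,0,1,2],1772⟩,
 ⟨[45,39,19],[0,1,0],[1,0,1,2],1773⟩,
 ⟨[44,40,19],[0,1,0],[1,0,1,2],1868⟩,
 ⟨[38,32,20],[0,1,0],[1,0,2,1],1572⟩,
 ⟨[20,41,34],[0,1,0],[1,0,2,1],2001⟩,
 ⟨[34,46,20],[0,1,0],[1,0,2,1],2241⟩,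
 ⟨[37,42,20],[0,1,0],[1,0,2,1],2051⟩,
 ⟨[47,20,37],[0,1,0,2],[1,0,1],2291⟩,
 ⟨[20,38,41],[0,2,1,0],[1,0,1],2004⟩,
 ⟨[46,38,20],[0,1,0,2],[1,0,1],2244⟩,
 ⟨[41,40,20],[0,1,0,2],[1,0,1],2007⟩,
 ⟨[40,44,20],[0,1,0],[1,0,2,1],2151⟩,
 ⟨[47,40,20],[0,1,0],[1,0,1,2],1919⟩,
 ⟨[47,21,22],[0,2,1,0],[1,0,1],1101⟩,
 ⟨[44,21,24],[0,1,0],[1,0,1,2],1100⟩,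
 ⟨[44,25,21],[0,1,0],[1,0,1,2],1148⟩,
 ⟨[21,30,47],[0,1,0],[1,0,2,1],1485⟩,
 ⟨[47,31,21],[0,1,0],[1,0,2,1],1533⟩,
 ⟨[32,38,21],[0,1,0],[1,0,2,1],1854⟩,
 ⟨[44,21,32],[0,1,0],[1,0,1,2],1484⟩,
 ⟨[21,40,33],[0,1,0,2],[1,0,1],1052⟩,
 ⟨[47,35,21],[0,1,0],[1,0,2,1],1725⟩,
 ⟨[37,39,21],[0,1,0,3,2],[1,0,1,2],1822⟩,
 ⟨[47,38,21],[0,1,0],[1,0,2,1],1869⟩,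
 ⟨[40,21,43],[0,1,0,2],[1,0,1],1961⟩,
 ⟨[42,47,21],[0,1,0,2],[1,0,1],2061⟩,
 ⟨[44,43,21],[0,1,0],[1,0,1,2],2012⟩,
 ⟨[47,44,21],[0,1,0],[1,0,2,1],2157⟩,
 ⟨[46,47,21],[0,1,0],[1,0,1,2],2206⟩,
 ⟨[23,33,22],[0,1,0],[1,0,2,1],1605⟩,
 ⟨[24,43,22],[0,1,0],[1,0,1,2],2040⟩,
 ⟨[33,22,26],[0,1,0,2],[1,0,1],1608⟩,
 ⟨[29,46,22],[0,1,0,2],[1,0,1],1437⟩,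
 ⟨[44,22,32],[0,1,0,2],[1,0,1],2143⟩,
 ⟨[43,22,40],[0,2,1,0],[1,0,1],1962⟩,
 ⟨[46,40,22],[0,1,0],[1,0,2,1],1965⟩,
 ⟨[41,22,46],[0,1,0],[1,0,1,2],2201⟩,
 ⟨[46,47,22],[0,1,0],[1,0,2,1],2301⟩,
 ⟨[47,25,23],[0,1,0],[1,0,2,1],1246⟩,
 ⟨[23,31,44],[0,2,1,0],[1,0,1],2142⟩,
 ⟨[31,23,46],[0,2,1,0],[1,0,1],2238⟩,
 ⟨[47,40,23],[0,1,0],[1,0,2,1],1966⟩,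
 ⟨[47,43,23],[0,1,0],[1,0,2,1],2110⟩,
 ⟨[47,44,23],[0,1,0],[1,0,2,1],2158⟩,
 ⟨[44,24,25],[0,1,0,2],[1,0,1],2138⟩,
 ⟨[44,30,24],[0,1,0],[1,0,1,2],1532⟩,
 ⟨[34,46,24],[0,1,0],[1,0,1,2],2290⟩,
 ⟨[44,24,41],[0,1,0],[1,0,1,2],2060⟩,
 ⟨[41,24,47],[0,2,1,0],[1,0,1],2298⟩,
 ⟨[46,43,24],[0,1,0],[1,0,2,1],2111⟩,
 ⟨[44,46,24],[0,1,0,2],[1,0,1],2159⟩,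
 ⟨[24,46,45],[0,2,1,0],[1,0,1],2207⟩,
 ⟨[39,31,25],[0,1,0],[1,0,1,2],1575⟩,
 ⟨[44,31,25],[0,1,0,2],[1,0,1],2144⟩,
 ⟨[46,31,25],[0,1,0,2],[1,0,1],2240⟩,
 ⟨[45,36,25],[0,1,0],[1,0,2,1],1774⟩,
 ⟨[40,42,25],[0,1,0],[1,0,1,2],2104⟩,
 ⟨[47,45,25],[0,1,0],[1,0,1,2],2255⟩,
 ⟨[31,30,26],[0,1,0],[1,0,1,2],1567⟩,
 ⟨[44,30,26],[0,1,0],[1,0,1,2],1580⟩,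
 ⟨[47,26,30],[0,1,0,2],[1,0,1],2288⟩,
 ⟨[45,35,26],[0,1,0],[1,0,2,1],1727⟩,
 ⟨[47,35,27],[0,1,0],[1,0,1,2],1823⟩,
 ⟨[40,36,27],[0,1,0],[1,0,1,2],1864⟩,
 ⟨[27,44,36],[0,1,0],[1,0,2,1],2150⟩,
 ⟨[46,36,27],[0,1,0],[1,0,1,2],1870⟩,
 ⟨[39,42,27],[0,1,0],[1,0,2,1],2056⟩,
 ⟨[44,39,27],[0,1,0],[1,0,1,2],1964⟩,
 ⟨[34,31,28],[0,1,0],[1,0,2,1],1525⟩,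
 ⟨[33,44,28],[0,1,0],[1,0,2,1],2147⟩,
 ⟨[44,36,28],[0,1,0],[1,0,1,2],1916⟩,
 ⟨[45,36,28],[0,1,0],[1,0,1,2],1917⟩,
 ⟨[38,41,28],[0,1,0],[1,0,2,1],2008⟩,
 ⟨[42,35,29],[0,1,0,2],[1,0,1],2055⟩,
 ⟨[43,37,29],[0,1,0],[1,0,1,2],1963⟩,
 ⟨[45,41,32],[0,1,0],[1,0,1,2],2253⟩,
 ⟨[33,46,40],[0,1,0],[1,0,2,1],2252⟩,
 ⟨[39,45,34],[0,1,0],[1,0,2,1],2204⟩,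
 ⟨[47,34,39],[0,1,0,2],[1,0,1],2300⟩,
 ⟨[40,38,35],[0,1,0],[1,0,1,2],2152⟩,
 ⟨[0,19],[],[0,0],19⟩,
 ⟨[1,22],[],[0,0],70⟩,
 ⟨[1,33],[],[0,0],81⟩,
 ⟨[3,1],[],[0,0],51⟩,
 ⟨[3,30],[],[0,0],174⟩,
 ⟨[5,2],[],[0,0],101⟩,
 ⟨[5,18],[],[0,0],869⟩,
 ⟨[5,40],[],[0,0],1925⟩,
 ⟨[7,0],[],[0,0],7⟩,
 ⟨[7,1],[],[0,0],55⟩,
 ⟨[7,2],[],[0,0],103⟩,
 ⟨[7,8],[],[0,0],344⟩,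
 ⟨[8,0],[],[0,0],8⟩,
 ⟨[9,0],[],[0,0],9⟩,
 ⟨[9,1],[],[0,0],57⟩,
 ⟨[9,2],[],[0,0],105⟩,
 ⟨[9,3],[],[0,0],153⟩,
 ⟨[9,5],[],[0,0],249⟩,
 ⟨[9,6],[],[0,0],297⟩,
 ⟨[10,0],[],[0,0],10⟩,
 ⟨[10,2],[],[0,0],106⟩,
 ⟨[10,43],[],[0,0],2074⟩,
 ⟨[11,0],[],[0,0],11⟩,
 ⟨[11,1],[],[0,0],59⟩,
 ⟨[11,2],[],[0,0],107⟩,
 ⟨[11,4],[],[0,0],203⟩,
 ⟨[12,5],[],[0,0],252⟩,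
 ⟨[12,6],[],[0,0],300⟩,
 ⟨[12,42],[],[0,0],2028⟩,
 ⟨[13,1],[],[0,0],61⟩,
 ⟨[13,3],[],[0,0],157⟩,
 ⟨[13,4],[],[0,0],205⟩,
 ⟨[13,5],[],[0,0],253⟩,
 ⟨[13,6],[],[0,0],301⟩,
 ⟨[14,2],[],[0,0],110⟩,
 ⟨[15,0],[],[0,0],15⟩,
 ⟨[15,1],[],[0,0],63⟩,
 ⟨[17,2],[],[0,0],113⟩,
 ⟨[17,3],[],[0,0],161⟩,
 ⟨[17,44],[],[0,0],2129⟩,
 ⟨[18,0],[],[0,0],18⟩,
 ⟨[18,1],[],[0,0],66⟩,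
 ⟨[18,42],[],[0,0],2034⟩,
 ⟨[18,43],[],[0,0],2082⟩,
 ⟨[19,1],[],[0,0],67⟩,
 ⟨[19,12],[],[0,0],595⟩,
 ⟨[19,31],[],[0,0],1507⟩,
 ⟨[19,47],[],[0,0],2275⟩,
 ⟨[20,0],[],[0,0],20⟩,
 ⟨[20,1],[],[0,0],68⟩,
 ⟨[20,2],[],[0,0],116⟩,
 ⟨[20,5],[],[0,0],260⟩,
 ⟨[20,17],[],[0,0],836⟩,
 ⟨[21,0],[],[0,0],21⟩,
 ⟨[21,7],[],[0,0],357⟩,
 ⟨[21,45],[],[0,0],2181⟩,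
 ⟨[22,3],[],[0,0],166⟩,
 ⟨[22,7],[],[0,0],358⟩,
 ⟨[22,15],[],[0,0],742⟩,
 ⟨[23,7],[],[0,0],359⟩,
 ⟨[23,46],[],[0,0],2231⟩,
 ⟨[24,7],[],[0,0],360⟩,
 ⟨[24,44],[],[0,0],2136⟩,
 ⟨[24,47],[],[0,0],2280⟩,
 ⟨[25,3],[],[0,0],169⟩,
 ⟨[25,7],[],[0,0],361⟩,
 ⟨[25,32],[],[0,0],1561⟩]

/-- The steps are valid. -/
theorem chk_elims4 : chkElims wTab tTab 0x102400002802044a000020e84c5900000000000000000a361122800056281a85800020181d89800061f2a040100009769320640011ad6a90520005d0a5883188c3a75b8446022356b782252242c9ef8113020c06d78087c0607c107e6881c179405d58416598a47b388001c74274766229c4816a75e365c1e0d9738101331a76cc00b914956eac85c6845a55ca422e5a256ba90574a92cdd9a224250ccdb994e9b0783a6e7ae56856395d7ce2e42e38b97085a250db78e0038129cab8d0036083f1f8ba101ef60387f4001f793467fa441ed62c57fe221dae5c37f8c11275bb0ffca0956b7a8ffe204c9ef98fffe02041f867f11d1bd184dbe11a97a844ddd1164f86c57ebefe385a1ddf711fa360d314b91fc398255557ddfad81703e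 elims4 =
    some 0x3c8d01187400b93b62946a00d76ce86c5900efcfc5e38000d7ae361f2680bbde291e95807dbe18bd8980fee1f2e04030ff1976932064ff15ed6a9052ff0dd2e58831fec3a75b8446fea356b78225fe62c9ef8113fe1c07ff8087d1f0fe107e68b1f579485d5871e5b8a47b38edd1c7427476eba9c6816a75e765c1e0d97399d1331a76cc59bb34956eac95d6a45a75ca53ae5a356ba93576a92cdd9a336e58ccdb99ce9b0783a6e7ae56856395d7ee2e42e38bb71cde251db78e1abe129eaf8d167e087f1f8be101ffe0387fc881f793467fa441ed6ac57fe221dae5c37f8c11275bb0ffca0956b7a8ffe204c9ef98fffe0207ff877f11d1bd187fbe11a97a947fdd1164f86c7febefe3c7e3fff711fa361f7feb91fe39deffdd7ddfadbdffbe := by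
  decide +kernel

end Cfsg.Agent.H46.F4Two
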