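import Cfsg.Agent.H46.F4Two.Table

/-!
# Elimination steps, part 5 (generated file)
-/

set_option autoImplicit false
set_option maxRecDepth 100000

namespace Cfsg.Agent.H46.F4Two

/-- Steps. -/
def elims5 : List Elim := [
 ⟨[25,44],[],[0,0],2137⟩,
 ⟨[26,35],[],[0,0],1283⟩,
 ⟨[26,47],[],[0,0],2282⟩,
 ⟨[27,24],[],[0,0],1179⟩,
 ⟨[27,37],[],[0,0],1803⟩,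
 ⟨[27,40],[],[0,0],1947⟩,
 ⟨[27,46],[],[0,0],2235⟩,
 ⟨[27,47],[],[0,0],2283⟩,
 ⟨[28,0],[],[0,0],28⟩,
 ⟨[28,21],[],[0,0],1365⟩,
 ⟨[28,46],[],[0,0],2236⟩,
 ⟨[28,47],[],[0,0],2284⟩,
 ⟨[29,47],[],[0,0],2285⟩,
 ⟨[31,10],[],[0,0],511⟩,
 ⟨[31,13],[],[0,0],1501⟩,
 ⟨[31,39],[],[0,0],1903⟩,
 ⟨[31,47],[],[0,0],2287⟩,
 ⟨[33,26],[],[0,0],1281⟩,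
 ⟨[33,45],[],[0,0],2193⟩,
 ⟨[33,47],[],[0,0],2289⟩,
 ⟨[34,46],[],[0,0],2242⟩,
 ⟨[35,30],[],[0,0],1475⟩,
 ⟨[35,32],[],[0,0],1571⟩,
 ⟨[36,43],[],[0,0],2100⟩,
 ⟨[36,44],[],[0,0],2148⟩,
 ⟨[36,45],[],[0,0],2196⟩,
 ⟨[36,47],[],[0,0],2292⟩,
 ⟨[37,0],[],[0,0],37⟩,
 ⟨[37,44],[],[0,0],2149⟩,
 ⟨[37,47],[],[0,0],2293⟩,
 ⟨[38,41],[],[0,0],2006⟩,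
 ⟨[38,43],[],[0,0],2102⟩,
 ⟨[38,46],[],[0,0],2246⟩,
 ⟨[38,47],[],[0,0],2294⟩,
 ⟨[39,24],[],[0,0],1896⟩,
 ⟨[39,46],[],[0,0],2247⟩,
 ⟨[40,6],[],[0,0],1926⟩,
 ⟨[40,24],[],[0,0],1944⟩,
 ⟨[40,26],[],[0,0],1946⟩,
 ⟨[40,47],[],[0,0],2296⟩,
 ⟨[41,9],[],[0,0],1977⟩,
 ⟨[41,46],[],[0,0],2249⟩,
 ⟨[42,8],[],[0,0],426⟩,
 ⟨[42,22],[],[0,0],2038⟩,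
 ⟨[42,37],[],[0,0],2053⟩,
 ⟨[45,28],[],[0,0],2188⟩,
 ⟨[45,39],[],[0,0],2199⟩,
 ⟨[46,47],[],[0,0],2302⟩,
 ⟨[0,6,33],[0,1,0],[1,0,1,2,3],816⟩,
 ⟨[17,0],[],[0,0],17⟩,
 ⟨[0,34,6],[0,1,0],[1,0,1,2,3],1056⟩,
 ⟨[22,0],[],[0,0],22⟩,
 ⟨[6,0,35],[0,1,0],[1,0,3,2,1],25⟩,
 ⟨[25,0],[],[0,0],1200⟩,
 ⟨[0,6,36],[0,1,0],[1,0,3,2,1],305⟩,
 ⟨[17,6],[],[0,0],822⟩,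
 ⟨[0,6,37],[0,1,0],[1,0,1,2,3],1440⟩,
 ⟨[30,0],[],[0,0],30⟩,
 ⟨[0,6,38],[0,1,0],[1,0,3,2,1],310⟩,
 ⟨[6,22],[],[0,0],1062⟩,
 ⟨[6,39,0],[0,1,0],[1,0,1,2,3],1206⟩,
 ⟨[25,6],[],[0,0],313⟩,
 ⟨[0,6,40],[0,1,0],[1,0,3,2,1],318⟩,
 ⟨[6,30],[],[0,0],1446⟩,
 ⟨[0,10,30],[0,1,0],[1,0,1,2,3],288⟩,
 ⟨[6,0],[],[0,0],6⟩,
 ⟨[10,0,38],[0,1,0,3,2],[1,0,1],488⟩,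
 ⟨[10,8],[],[0,0],394⟩,
 ⟨[10,0,39],[0,1,0],[1,0,1,2,3],442⟩,
 ⟨[10,9],[],[0,0],489⟩,
 ⟨[12,0,36],[0,1,0],[1,0,1,2,3],348⟩,
 ⟨[7,12],[],[0,0],583⟩,
 ⟨[40,12,0],[0,1,0],[1,0,3,2,1],587⟩,
 ⟨[12,11],[],[0,0],540⟩,
 ⟨[0,13,36],[0,1,0],[1,0,3,2,1],631⟩,
 ⟨[13,7],[],[0,0],349⟩,
 ⟨[13,0,40],[0,1,0],[1,0,1,2,3],541⟩,
 ⟨[11,13],[],[0,0],635⟩,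
 ⟨[0,38,14],[0,3,2,1,0],[1,0,1],680⟩,
 ⟨[14,8],[],[0,0],398⟩,
 ⟨[39,14,0],[0,1,0],[1,0,3,2,1],681⟩,
 ⟨[14,9],[],[0,0],446⟩,
 ⟨[0,17,37],[0,1,0],[1,0,1,2,3],1968⟩,
 ⟨[41,0],[],[0,0],41⟩,
 ⟨[17,38,0],[0,1,0,3],[1,0,1,2],838⟩,
 ⟨[22,17],[],[0,0],1073⟩,
 ⟨[39,17,0],[0,1,0],[1,0,3,2,1],841⟩,
 ⟨[25,17],[],[0,0],1217⟩,
 ⟨[17,0,44],[0,1,0,3],[1,0,1,2],857⟩,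
 ⟨[17,41],[],[0,0],1985⟩,
 ⟨[0,19,29],[0,1,0],[1,0,3,2,1],915⟩,
 ⟨[19,3],[],[0,0],163⟩,
 ⟨[0,19,44],[0,1,0],[1,0,3,2,1],930⟩,
 ⟨[19,18],[],[0,0],883⟩,
 ⟨[20,29,0],[0,1,0,3,2],[1,0,1],963⟩,
 ⟨[20,3],[],[0,0],164⟩,
 ⟨[44,20,0],[0,1,0],[1,0,3,2,1],978⟩,
 ⟨[20,18],[],[0,0],884⟩,
 ⟨[40,22,0],[0,1,0],[1,0,3,2,1],1086⟩,
 ⟨[22,30],[],[0,0],1462⟩,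
 ⟨[44,22,0],[0,1,0],[1,0,3,2,1],1097⟩,
 ⟨[22,41],[],[0,0],1990⟩,
 ⟨[0,25,40],[0,1,0],[1,0,3,2,1],1230⟩,
 ⟨[30,25],[],[0,0],1465⟩,
 ⟨[0,25,44],[0,1,0],[1,0,3,2,1],1241⟩,
 ⟨[25,41],[],[0,0],1993⟩,
 ⟨[29,0,27],[0,3,2,1,0],[1,0,1],1299⟩,
 ⟨[3,27],[],[0,0],171⟩,
 ⟨[0,27,44],[0,1,0],[1,0,3,2,1],1314⟩,
 ⟨[18,27],[],[0,0],891⟩,
 ⟨[0,28,29],[0,1,0],[1,0,3,2,1],1347⟩,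
 ⟨[28,3],[],[0,0],172⟩,
 ⟨[44,0,28],[0,3,2,1,0],[1,0,1],1362⟩,
 ⟨[28,18],[],[0,0],892⟩,
 ⟨[30,0,44],[0,1,0],[1,0,1,2,3],1998⟩,
 ⟨[30,41],[],[0,0],1481⟩,
 ⟨[33,38,0],[0,1,0],[1,0,1,2,3],417⟩,
 ⟨[8,33],[],[0,0],1592⟩,
 ⟨[0,33,39],[0,1,0],[1,0,3,2,1],1593⟩,
 ⟨[9,33],[],[0,0],465⟩,
 ⟨[34,0,36],[0,1,0],[1,0,1,2,3],370⟩,
 ⟨[7,34],[],[0,0],1639⟩,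
 ⟨[0,34,40],[0,1,0],[1,0,3,2,1],1643⟩,
 ⟨[11,34],[],[0,0],562⟩,
 ⟨[0,36,35],[0,3,2,1,0],[1,0,1],1687⟩,
 ⟨[35,7],[],[0,0],371⟩,
 ⟨[35,0,40],[0,1,0],[1,0,1,2,3],563⟩,
 ⟨[35,11],[],[0,0],1691⟩,
 ⟨[37,0,38],[0,1,0],[1,0,1,2,3],421⟩,
 ⟨[8,37],[],[0,0],1784⟩,
 ⟨[0,37,39],[0,1,0],[1,0,3,2,1],1785⟩,
 ⟨[37,9],[],[0,0],469⟩,
 ⟨[1,5,33],[0,1,0],[1,0,1,2,3],769⟩,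
 ⟨[1,16],[],[0,0],64⟩,
 ⟨[1,34,5],[0,1,0],[1,0,1,2,3],1009⟩,
 ⟨[21,1],[],[0,0],69⟩,
 ⟨[1,5,35],[0,1,0],[1,0,3,2,1],256⟩,
 ⟨[16,5],[],[0,0],773⟩,
 ⟨[1,5,36],[0,1,0],[1,0,1,2,3],1249⟩,
 ⟨[26,1],[],[0,0],74⟩,
 ⟨[5,1,37],[0,1,0],[1,0,1,2,3],1013⟩,
 ⟨[21,5],[],[0,0],261⟩,
 ⟨[5,1,38],[0,1,0],[1,0,3,2,1],79⟩,
 ⟨[31,1],[],[0,0],1489⟩,
 ⟨[39,5,1],[0,1,0],[1,0,3,2,1],266⟩,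
 ⟨[26,5],[],[0,0],1253⟩,
 ⟨[40,5,1],[0,1,0],[1,0,3,2,1],271⟩,
 ⟨[31,5],[],[0,0],1493⟩,
 ⟨[1,31,9],[0,1,0],[1,0,1,2,3],241⟩,
 ⟨[5,1],[],[0,0],53⟩,
 ⟨[1,9,37],[0,1,0],[1,0,3,2,1],440⟩,
 ⟨[9,8],[],[0,0],393⟩,
 ⟨[1,11,35],[0,1,0],[1,0,3,2,1],535⟩,
 ⟨[7,11],[],[0,0],347⟩,
 ⟨[13,40,1],[0,1,0],[1,0,1,2,3],589⟩,
 ⟨[13,12],[],[0,0],636⟩,
 ⟨[14,1,39],[0,1,0],[1,0,1,2,3],494⟩,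
 ⟨[14,10],[],[0,0],682⟩,
 ⟨[1,16,37],[0,1,0],[1,0,3,2,1],789⟩,
 ⟨[16,21],[],[0,0],1024⟩,
 ⟨[16,38,1],[0,3,2,1,0],[1,0,1],90⟩,
 ⟨[42,1],[],[0,0],2017⟩,
 ⟨[16,1,39],[0,1,0,3,2],[1,0,1],794⟩,
 ⟨[16,26],[],[0,0],1264⟩,
 ⟨[44,16,1],[0,1,0],[1,0,3,2,1],810⟩,
 ⟨[16,42],[],[0,0],2032⟩,
 ⟨[1,28,18],[0,3,2,1,0],[1,0,1],867⟩,
 ⟨[18,3],[],[0,0],162⟩,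
 ⟨[20,1,44],[0,1,0],[1,0,1,2,3],932⟩,
 ⟨[19,20],[],[0,0],979⟩,
 ⟨[21,40,1],[0,1,0],[1,0,1,2,3],1509⟩,
 ⟨[31,21],[],[0,0],1039⟩,
 ⟨[21,1,44],[0,1,0],[1,0,1,2,3],2037⟩,
 ⟨[42,21],[],[0,0],1050⟩,
 ⟨[26,1,40],[0,1,0],[1,0,1,2,3],1514⟩,
 ⟨[26,31],[],[0,0],1279⟩,
 ⟨[26,1,44],[0,1,0],[1,0,1,2,3],2042⟩,
 ⟨[26,42],[],[0,0],1290⟩,
 ⟨[27,1,44],[0,1,0],[1,0,1,2,3],939⟩,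
 ⟨[27,19],[],[0,0],1315⟩,
 ⟨[28,29,1],[0,1,0],[1,0,3,2,1],1395⟩,
 ⟨[3,29],[],[0,0],173⟩,
 ⟨[1,29,44],[0,1,0],[1,0,3,2,1],1411⟩,
 ⟨[29,19],[],[0,0],941⟩,
 ⟨[31,1,44],[0,1,0],[1,0,1,2,3],2047⟩,
 ⟨[31,42],[],[0,0],1530⟩,
 ⟨[1,33,39],[0,1,0],[1,0,3,2,1],1594⟩,
 ⟨[10,33],[],[0,0],513⟩,
 ⟨[34,40,1],[0,1,0],[1,0,1,2,3],610⟩,
 ⟨[12,34],[],[0,0],1644⟩,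
 ⟨[35,1,36],[0,3,2,1,0],[1,0,1],1735⟩,
 ⟨[36,7],[],[0,0],372⟩,
 ⟨[40,36,1],[0,1,0],[1,0,3,2,1],1740⟩,
 ⟨[12,36],[],[0,0],612⟩,
 ⟨[38,37,1],[0,1,0],[1,0,1,2,3],422⟩,
 ⟨[38,8],[],[0,0],1832⟩,
 ⟨[38,39,1],[0,1,0,3,2],[1,0,1],1834⟩,
 ⟨[10,38],[],[0,0],518⟩,
 ⟨[2,33,4],[0,1,0],[1,0,1,2,3],722⟩,
 ⟨[15,2],[],[0,0],111⟩,
 ⟨[4,34,2],[0,1,0,3,2],[1,0,1],207⟩,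
 ⟨[15,4],[],[0,0],724⟩,
 ⟨[2,4,35],[0,1,0],[1,0,1,2,3],1106⟩,
 ⟨[23,2],[],[0,0],119⟩,
 ⟨[2,4,36],[0,1,0],[1,0,1,2,3],1154⟩,
 ⟨[24,2],[],[0,0],120⟩,
 ⟨[2,37,4],[0,3,2,1,0],[1,0,1],215⟩,
 ⟨[23,4],[],[0,0],1108⟩,
 ⟨[4,2,38],[0,1,0],[1,0,1,2,3],1156⟩,
 ⟨[24,4],[],[0,0],216⟩,
 ⟨[2,4,39],[0,1,0],[1,0,1,2,3],1538⟩,
 ⟨[32,2],[],[0,0],128⟩,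
 ⟨[4,40,2],[0,1,0,3],[1,0,1,2],224⟩,
 ⟨[32,4],[],[0,0],1540⟩,
 ⟨[2,8,32],[0,1,0],[1,0,1,2,3],194⟩,
 ⟨[4,2],[],[0,0],100⟩,
 ⟨[2,37,15],[0,3,2,1,0],[1,0,1],743⟩,
 ⟨[15,23],[],[0,0],1119⟩,
 ⟨[15,38,2],[0,1,0],[1,0,1,2,3],1167⟩,
 ⟨[24,15],[],[0,0],744⟩,
 ⟨[2,15,39],[0,1,0],[1,0,1,2,3],2066⟩,
 ⟨[43,2],[],[0,0],139⟩,
 ⟨[15,2,44],[0,1,0],[1,0,1,2,3],2079⟩,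
 ⟨[43,15],[],[0,0],763⟩,
 ⟨[40,2,23],[0,3,2,1,0],[1,0,1],1136⟩,
 ⟨[23,32],[],[0,0],1559⟩,
 ⟨[23,44,2],[0,1,0,3],[1,0,1,2],1147⟩,
 ⟨[43,23],[],[0,0],2087⟩,
 ⟨[40,24,2],[0,1,0],[1,0,3,2,1],1184⟩,
 ⟨[24,32],[],[0,0],1560⟩,
 ⟨[24,2,44],[0,1,0],[1,0,1,2,3],2088⟩,
 ⟨[24,43],[],[0,0],1195⟩,
 ⟨[28,2,44],[0,1,0,3],[1,0,1,2],988⟩,
 ⟨[28,20],[],[0,0],1364⟩,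
 ⟨[29,2,44],[0,1,0],[1,0,1,2,3],989⟩,
 ⟨[29,20],[],[0,0],1412⟩,
 ⟨[32,44,2],[0,1,0,3],[1,0,1,2],1579⟩,
 ⟨[32,43],[],[0,0],2096⟩,
 ⟨[35,40,2],[0,1,0,3,2],[1,0,1],1693⟩,
 ⟨[35,13],[],[0,0],659⟩,
 ⟨[40,36,2],[0,1,0],[1,0,3,2,1],1741⟩,
 ⟨[13,36],[],[0,0],660⟩,
 ⟨[2,39,37],[0,1,0],[1,0,3,2,1],1881⟩,
 ⟨[9,39],[],[0,0],471⟩,
 ⟨[38,2,39],[0,3,2,1,0],[1,0,1],1882⟩,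
 ⟨[39,10],[],[0,0],519⟩,
 ⟨[27,3,46],[0,1,0,3],[1,0,1,2],1371⟩,
 ⟨[27,28],[],[0,0],1324⟩,
 ⟨[27,47,3],[0,1,0],[1,0,1,2,3],1419⟩,
 ⟨[27,29],[],[0,0],1325⟩,
 ⟨[47,28,3],[0,1,0],[1,0,3,2,1],1373⟩,
 ⟨[28,29],[],[0,0],1420⟩,
 ⟨[15,4,40],[0,1,0],[1,0,3,2,1],237⟩,
 ⟨[4,45],[],[0,0],2164⟩,
 ⟨[15,4,44],[0,1,0],[1,0,1,2,3],2175⟩,
 ⟨[15,45],[],[0,0],765⟩,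
 ⟨[4,23,44],[0,1,0],[1,0,3,2,1],1149⟩,
 ⟨[23,45],[],[0,0],2183⟩,
 ⟨[4,24,44],[0,1,0],[1,0,3,2,1],1197⟩,
 ⟨[24,45],[],[0,0],2184⟩,
 ⟨[4,32,44],[0,1,0],[1,0,3,2,1],1581⟩,
 ⟨[45,32],[],[0,0],2192⟩,
 ⟨[4,35,40],[0,3,2,1,0],[1,0,1],1931⟩,
 ⟨[11,40],[],[0,0],568⟩,
 ⟨[36,40,4],[0,1,0],[1,0,3,2,1],1932⟩,
 ⟨[12,40],[],[0,0],616⟩,
 ⟨[39,37,4],[0,1,0],[1,0,3,2,1],1790⟩,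
 ⟨[37,14],[],[0,0],709⟩,
 ⟨[38,39,4],[0,1,0,3],[1,0,1,2],710⟩,
 ⟨[14,38],[],[0,0],1838⟩,
 ⟨[5,16,40],[0,1,0],[1,0,1,2,3],2213⟩,
 ⟨[5,46],[],[0,0],286⟩,
 ⟨[16,44,5],[0,1,0],[1,0,1,2,3],2224⟩,
 ⟨[46,16],[],[0,0],814⟩,
 ⟨[21,44,5],[0,1,0],[1,0,1,2,3],2229⟩,
 ⟨[21,46],[],[0,0],1054⟩,
 ⟨[26,44,5],[0,1,0],[1,0,1,2,3],2234⟩,
 ⟨[26,46],[],[0,0],1294⟩,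
 ⟨[31,44,5],[0,1,0],[1,0,1,2,3],2239⟩,
 ⟨[31,46],[],[0,0],1534⟩,
 ⟨[40,5,36],[0,1,0],[1,0,1,2,3],664⟩,
 ⟨[13,40],[],[0,0],1933⟩,
 ⟨[5,38,39],[0,3,2,1,0],[1,0,1],1886⟩,
 ⟨[14,39],[],[0,0],711⟩,
 ⟨[6,40,17],[0,1,0],[1,0,1,2,3],2262⟩,
 ⟨[6,47],[],[0,0],335⟩,
 ⟨[44,17,6],[0,1,0],[1,0,3,2,1],863⟩,
 ⟨[47,17],[],[0,0],2273⟩,
 ⟨[44,6,22],[0,3,2,1,0],[1,0,1],1103⟩,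
 ⟨[22,47],[],[0,0],2278⟩,
 ⟨[44,25,6],[0,1,0],[1,0,3,2,1],1247⟩,
 ⟨[25,47],[],[0,0],2281⟩,
 ⟨[30,44,6],[0,1,0,3,2],[1,0,1],1487⟩,
 ⟨[30,47],[],[0,0],2286⟩,
 ⟨[34,46,7],[0,1,0,3,2],[1,0,1],1667⟩,
 ⟨[35,34],[],[0,0],1714⟩,
 ⟨[34,7,47],[0,1,0],[1,0,1,2,3],1762⟩,
 ⟨[34,36],[],[0,0],1668⟩,
 ⟨[35,47,7],[0,1,0,3],[1,0,1,2],1763⟩,
 ⟨[36,35],[],[0,0],1716⟩]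

/-- The steps are valid. -/
theorem chk_elims5 : chkElims wTab tTab 0x3c8d01187400b93b62946a00d76ce86c5900efcfc5e38000d7ae361f2680bbde291e95807dbe18bd8980fee1f2e04030ff1976932064ff15ed6a9052ff0dd2e58831fec3a75b8446fea356b78225fe62c9ef8113fe1c07ff8087d1f0fe107e68b1f579485d5871e5b8a47b38edd1c7427476eba9c6816a75e765c1e0d97399d1331a76cc59bb34956eac95d6a45a75ca53ae5a356ba93576a92cdd9a336e58ccdb99ce9b0783a6e7ae56856395d7ee2e42e38bb71cde251db78e1abe129eaf8d167e087f1f8be101ffe0387fc881f793467fa441ed6ac57fe221dae5c37f8c11275bb0ffca0956b7a8ffe204c9ef98fffe0207ff877f11d1bd187fbe11a97a947fdd1164f86c7febefe3c7e3fff711fa361f7feb91fe39deffdd7ddfadbdffbe elims5 =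
    some 0x7dffff5a7440bbfffeb56a20d7fff9ecd910efffc7e38000d7ff379fa684bbfead7f95827dfe5aff8b81fee1ffe07870ff19f7936664ff15ed6ad552ff0ddae5cb31fecfa75bb4c6feb756b7aaa5fe7ac9ef9993fe1c07ff8787f9f8ff907e7cf5f57d687d7af3edbae47b79edd1df5a747eeba9eeb56a7de765f1ecd97bdddbb31b76eedbbb74976eedbdd7ac5af5de7baf5a35ebbdb776e92edddb776ed8cddbbbce9b378fa6efae56ad7795dfee2e5afb8bbf9ede275db7cf5ebe16beafaf3e7e09ff1f9fe1e1ffe03f7fc999f7935effa555ed6aedffe32ddae5f3ff8cd3a75bf3ffcaab56b7edffe666c9efdefffe1e07ffbf7f91d1ff5a7fbf51a9feb57fdf3165f9ecffefefe3fffffff719fb379ffffb95febdfffffd7ffffffffffe := by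
  decide +kernel

end Cfsg.Agent.H46.F4Two
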