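import Cfsg.Agent.H46.F4Two.Table

/-!
# Elimination steps, part 6 (generated file)
-/

set_option autoImplicit false
set_option maxRecDepth 100000

namespace Cfsg.Agent.H46.F4Two

/-- Steps. -/
def elims6 : List Elim := [
 ⟨[46,33,8],[0,1,0],[1,0,3,2,1],1621⟩,
 ⟨[33,37],[],[0,0],1809⟩,
 ⟨[47,33,8],[0,1,0],[1,0,3,2,1],1622⟩,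
 ⟨[38,33],[],[0,0],1857⟩,
 ⟨[37,8,47],[0,1,0],[1,0,1,2,3],1861⟩,
 ⟨[37,38],[],[0,0],1814⟩,
 ⟨[9,33,47],[0,1,0],[1,0,3,2,1],1623⟩,
 ⟨[33,39],[],[0,0],1905⟩,
 ⟨[37,47,9],[0,1,0,3,2],[1,0,1],1815⟩,
 ⟨[39,37],[],[0,0],1909⟩,
 ⟨[46,38,10],[0,1,0],[1,0,3,2,1],1863⟩,
 ⟨[38,39],[],[0,0],1910⟩,
 ⟨[11,47,34],[0,3,2,1,0],[1,0,1],1672⟩,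
 ⟨[34,40],[],[0,0],1954⟩,
 ⟨[47,35,11],[0,1,0],[1,0,3,2,1],1720⟩,
 ⟨[35,40],[],[0,0],1955⟩,
 ⟨[36,46,12],[0,1,0],[1,0,1,2,3],1956⟩,
 ⟨[36,40],[],[0,0],1768⟩,
 ⟨[15,44,28],[0,1,0],[1,0,3,2,1],2130⟩,
 ⟨[18,44],[],[0,0],908⟩,
 ⟨[15,44,29],[0,1,0],[1,0,3,2,1],2131⟩,
 ⟨[19,44],[],[0,0],956⟩,
 ⟨[15,45,39],[0,1,0],[1,0,3,2,1],2203⟩,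
 ⟨[45,43],[],[0,0],2109⟩,
 ⟨[44,29,16],[0,1,0],[1,0,1,2,3],1004⟩,
 ⟨[20,44],[],[0,0],2132⟩,
 ⟨[46,38,16],[0,1,0],[1,0,1,2,3],2062⟩,
 ⟨[42,46],[],[0,0],2250⟩,
 ⟨[47,37,17],[0,1,0],[1,0,1,2,3],2015⟩,
 ⟨[41,47],[],[0,0],2297⟩,
 ⟨[47,27,18],[0,1,0],[1,0,3,2,1],1340⟩,
 ⟨[27,44],[],[0,0],2139⟩,
 ⟨[28,47,18],[0,1,0],[1,0,1,2,3],2140⟩,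
 ⟨[28,44],[],[0,0],1388⟩,
 ⟨[46,29,19],[0,1,0],[1,0,3,2,1],1436⟩,
 ⟨[29,44],[],[0,0],2141⟩,
 ⟨[32,0,17],[0,2,1,0],[1,0,2,1,3],821⟩,
 ⟨[32,0,22],[0,2,1,0],[1,0,2,1,3],1061⟩,
 ⟨[24,41,0],[0,2,1,0],[1,0,2,1,3],1969⟩,
 ⟨[26,41,0],[0,2,1,0],[1,0,2,1,3],1970⟩,
 ⟨[41,5,1],[0,2,1,0],[1,0,2,1,3],255⟩,
 ⟨[43,31,1],[0,2,1,0],[1,0,2,1,3],1505⟩,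
 ⟨[2,22,30],[0,2,1,0],[1,0,2,1,3],1441⟩,
 ⟨[2,22,41],[0,2,1,0],[1,0,2,1,3],1072⟩,
 ⟨[35,19,3],[0,2,1,0],[1,0,2,1,3],921⟩,
 ⟨[36,27,3],[0,2,1,0],[1,0,2,1,3],1306⟩,
 ⟨[15,6,30],[0,2,1,0],[1,0,2,1,3],309⟩,
 ⟨[7,27,29],[0,2,1,0],[1,0,2,1,3],1400⟩,
 ⟨[13,19,18],[0,2,1,0],[1,0,2,1,3],874⟩,
 ⟨[13,19,27],[0,2,1,0],[1,0,2,1,3],926⟩,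
 ⟨[15,26,31],[0,2,1,0],[1,0,2,1,3],1270⟩,
 ⟨[0,45,6],[0,2,1,0],[1,0,1,3,2,4],1488⟩,
 ⟨[2,21,31],[0,2,1,0],[1,0,2,1,3],1014⟩,
 ⟨[6,46,0],[0,2,1,0],[1,0,1,3,2,4],1110⟩,
 ⟨[1,23,32],[0,2,1,0],[1,0,2,1,3],1536⟩,
 ⟨[16,4,32],[0,2,1,0],[1,0,2,1,3],217⟩,
 ⟨[17,46,0],[0,2,1,0],[1,0,1,3,2,4],1121⟩,
 ⟨[1,43,23],[0,2,1,0],[1,0,2,1,3],2064⟩,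
 ⟨[26,23,15],[0,2,1,0],[1,0,2,1,3],745⟩,
 ⟨[5,45,1],[0,2,1,0],[1,0,1,3,2,4],78⟩,
 ⟨[42,2,31],[0,2,1,0],[1,0,1,3,2,4],330⟩,
 ⟨[18,36,3],[0,2,1,0],[1,0,1,3,2,4],498⟩,
 ⟨[11,10,33],[0,2,1,0],[1,0,2,1,3],1587⟩,
 ⟨[3,40,19],[0,2,1,0],[1,0,1,3,2,4],1827⟩,
 ⟨[7,38,14],[0,2,1,0],[1,0,2,1,3],691⟩,
 ⟨[36,14,8],[0,2,1,0],[1,0,2,1,3],413⟩,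
 ⟨[40,8,10],[0,2,1,0],[1,0,2,1,3],507⟩,
 ⟨[28,36,3],[0,2,1,0],[1,0,1,3,2,4],508⟩,
 ⟨[24,16,4],[0,2,1,0],[1,0,1,3,2,4],209⟩,
 ⟨[16,4,42],[0,2,1,0],[1,0,1,3,2,4],2016⟩,
 ⟨[5,24,16],[0,2,1,0],[1,0,1,3,2,4],774⟩,
 ⟨[4,26,16],[0,2,1,0],[1,0,2,1,3],1248⟩,
 ⟨[0,24,25],[0,2,1,0],[1,0,1,3,2,4],1201⟩,
 ⟨[1,43,5],[0,2,1,0],[1,0,1,3,2,4],257⟩,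
 ⟨[6,21,25],[0,2,1,0],[1,0,1,3,2,4],1204⟩,
 ⟨[30,1,25],[0,2,1,0],[1,0,1,3,2,4],126⟩,
 ⟨[37,7,14],[0,2,1,0],[1,0,1,3,2,4],690⟩,
 ⟨[8,13,33],[0,2,1,0],[1,0,1,3,2,4],968⟩,
 ⟨[8,36,9],[0,2,1,0],[1,0,1,3,2,4],451⟩,
 ⟨[18,12,28],[0,2,1,0],[1,0,1,3,2,4],1352⟩,
 ⟨[7,28,27],[0,2,1,0],[1,0,2,1,3],1305⟩,
 ⟨[3,35,27],[0,2,1,0],[1,0,1,3,2,4],1779⟩,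
 ⟨[13,8,37],[0,2,1,0],[1,0,2,1,3],412⟩,
 ⟨[17,21,25],[0,2,1,0],[1,0,1,3,2,4],1215⟩,
 ⟨[15,46,2],[0,2,1,0],[1,0,1,3,2,4],137⟩,
 ⟨[17,23,22],[0,2,1,0],[1,0,1,3,2,4],1025⟩,
 ⟨[0,41,31],[0,1,0,2,4],[1,0,2,1,4,3],1972⟩,
 ⟨[0,41,32],[0,1,0,2,4],[1,0,2,1,4,3],1973⟩,
 ⟨[2,41,30],[0,2,1,0],[1,0,2,1,3],1456⟩,
 ⟨[5,45,16],[0,2,1,0],[1,0,1,3,2,4],798⟩,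
 ⟨[32,16,21],[0,2,1,0],[1,0,2,1,3],1033⟩,
 ⟨[43,5,21],[0,2,1,0],[1,0,2,1,3],281⟩,
 ⟨[42,1,32],[0,1,0,2,4],[1,0,2,1,4,3],2022⟩,
 ⟨[46,21,2],[0,1,0,2,4],[1,0,2,1,4,3],2208⟩,
 ⟨[3,29,35],[0,1,0,2,4],[1,0,2,1,4,3],1401⟩,
 ⟨[11,20,29],[0,2,1,0],[1,0,2,1,3],974⟩,
 ⟨[3,40,20],[0,2,1,0],[1,0,1,3,2,4],1875⟩,
 ⟨[7,14,39],[0,2,1,0],[1,0,2,1,3],692⟩,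
 ⟨[12,9,39],[0,2,1,0],[1,0,2,1,3],461⟩,
 ⟨[29,3,37],[0,1,0,2,4],[1,0,2,1,4,3],1403⟩,
 ⟨[9,29,27],[0,2,1,0],[1,0,2,1,3],1309⟩,
 ⟨[10,28,27],[0,2,1,0],[1,0,2,1,3],1356⟩,
 ⟨[8,9,40],[0,1,0,2,4],[1,0,2,1,4,3],459⟩,
 ⟨[25,22,25,15,5],[2,1,0,1,4,3,2,1,2,1,0,0,3,2,1,0,3,2,1,0,4,3,2,1],[3,2,1,0,2,1,0,2,1,3,2,1,2,5,4,3,2,3,2,1,1,4,3,2],208⟩,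
 ⟨[41,2,4],[0,2,1,0],[1,0,2,1,3],117⟩,
 ⟨[16,6,21],[0,2,1,0],[1,0,1,3,2,4],1010⟩,
 ⟨[2,22,23],[0,2,1,0],[1,0,1,3,2,4],1105⟩,
 ⟨[6,15,23],[0,2,1,0],[1,0,2,1,3],725⟩,
 ⟨[1,30,16],[0,2,1,0],[1,0,1,3,2,4],772⟩,
 ⟨[7,32,30],[0,3,2,1,0,4],[1,0,3,2,1,4,3,5],1442⟩,
 ⟨[16,6,30],[0,2,1,0],[1,0,2,1,3],311⟩,
 ⟨[7,31,47],[0,3,2,1,0,4],[1,0,3,2,1,4,3,5],2257⟩,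
 ⟨[4,17,47],[0,2,1,0],[1,0,2,1,3],847⟩,
 ⟨[13,22,42],[0,3,2,1,0,4],[1,0,3,2,1,4,3,5],1082⟩,
 ⟨[33,14,33,4,41],[2,1,0,1,2,5,4,3,2,1,4,3,2,1,2,1,3,2,1,0,1,0,0,3,2,1,0,3,2,1,0,4,3,2,1,0,5,4,3,2,1,4,3,2,1],[3,2,1,0,2,1,0,3,2,1,0,3,2,1,2,1,3,2,1,2,3,6,5,4,3,2,5,4,3,2,3,2,4,3,2,1,2,1,1,4,3,2],1455⟩,
 ⟨[22,16,30],[0,2,1,0],[1,0,1,3,2,4],1126⟩,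
 ⟨[42,23,4],[0,2,1,0],[1,0,2,1,3],233⟩,
 ⟨[33,14,33,30,15],[2,1,0,1,2,5,4,3,2,1,4,3,2,1,2,1,3,2,1,0,1,0,0,3,2,1,0,3,2,1,0,4,3,2,1,0,5,4,3,2,1,4,3,2,1],[3,2,1,0,2,1,0,3,2,1,0,3,2,1,2,1,3,2,1,2,3,6,5,4,3,2,5,4,3,2,3,2,4,3,2,1,2,1,1,4,3,2],750⟩,
 ⟨[27,20,27,16,22],[2,1,0,1,2,5,4,3,2,1,4,3,2,1,2,1,3,2,1,0,1,0,0,3,2,1,0,3,2,1,0,4,3,2,1,0,5,4,3,2,1,4,3,2,1],[3,2,1,0,2,1,0,3,2,1,0,3,2,1,2,1,3,2,1,2,3,6,5,4,3,2,5,4,3,2,3,2,4,3,2,1,2,1,1,4,3,2],837⟩,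
 ⟨[21,24,16],[0,2,1,0],[1,0,1,3,2,4],790⟩,
 ⟨[45,16,1],[0,2,1,0],[1,0,2,1,3],89⟩,
 ⟨[27,20,27,16,30],[2,1,0,1,2,5,4,3,2,1,4,3,2,1,2,1,3,2,1,0,1,0,0,3,2,1,0,3,2,1,0,4,3,2,1,0,5,4,3,2,1,4,3,2,1],[3,2,1,0,2,1,0,3,2,1,0,3,2,1,2,1,3,2,1,2,3,6,5,4,3,2,5,4,3,2,3,2,4,3,2,1,2,1,1,4,3,2],1221⟩,
 ⟨[25,22,25,19,9],[2,1,0,1,2,5,4,3,2,1,3,2,1,0,1,0,2,1,2,1,4,3,2,1,3,2,1,0,3,2,1,0,4,3,2,1,3,2,1,5,4,3,2,1],[3,2,1,0,2,1,0,2,1,1,3,2,1,3,2,1,2,3,6,5,4,3,2,4,3,2,1,2,1,3,2,3,2,5,4,3,2,4,3,2],404⟩,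
 ⟨[24,23,24,9,29],[2,1,0,1,2,5,4,3,2,1,3,2,1,0,1,0,2,1,2,1,4,3,2,1,3,2,1,0,3,2,1,0,4,3,2,1,3,2,1,5,4,3,2,1],[3,2,1,0,2,1,0,2,1,1,3,2,1,3,2,1,2,3,6,5,4,3,2,4,3,2,1,2,1,3,2,3,2,5,4,3,2,4,3,2],1354⟩,
 ⟨[14,33,14,17,4],[2,1,0,1,0,2,1,0,5,4,3,2,1,4,3,2,1,0,2,1,0,3,2,1,1,0,0,3,2,1,0,3,2,1,4,3,2,5,4,3,2,1,4,3,2,1,0],[3,2,1,0,2,1,3,2,3,2,1,2,1,0,3,2,1,2,1,3,2,1,6,5,4,3,2,5,4,3,2,1,3,2,1,4,3,2,2,1,1,4,3,2],726⟩,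
 ⟨[5,15,24],[0,2,1,0],[1,0,2,1,3],1152⟩,
 ⟨[0,42,6],[0,2,1,0],[1,0,1,3,2,4],303⟩,
 ⟨[0,31,17],[0,2,1,0],[1,0,1,3,2,4],820⟩,
 ⟨[5,17,22],[0,2,1,0],[1,0,2,1,3],1058⟩,
 ⟨[25,22,25,0,32],[2,1,0,3,2,1,0,4,3,2,1,0,5,4,3,2,1,2,3],[3,2,1,0,2,1,0,2,1,3,2,1,4,3,2,4,3,2,4,3],262⟩,
 ⟨[22,25,22,0,45],[2,1,0,3,2,1,0,4,3,2,1,3,5,4,3,2,1,0,2],[3,2,1,0,2,1,2,1,0,3,2,1,4,3,2,4,3,4,3,2],2160⟩,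
 ⟨[1,40,28],[0,3,2,1,0,4],[1,0,3,2,1,4,3,5,6,5],1923⟩,
 ⟨[8,40,13],[0,2,1,0],[1,0,2,1,3],651⟩,
 ⟨[38,13,11],[0,2,1,0],[1,0,2,1,3],557⟩,
 ⟨[22,25,22,28,12],[2,1,0,1,0,2,5,4,3,2,1,0,3,2,1,0,1,0,2,1,2,1,4,3,2,1,3,2,1,0,3,2,1,4,3,2,1,0,3,2,5,4,3,2],[3,2,1,0,2,1,2,1,0,1,3,2,1,3,2,1,2,1,3,6,5,4,3,2,1,4,3,2,1,2,1,3,2,3,2,5,4,3,2,4,3,2],604⟩,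
 ⟨[44,1,35],[0,3,2,1,0],[1,0,1,4,3,2,4,6,5,4,3],1699⟩,
 ⟨[35,36,8],[0,1,0,2,4],[1,0,2,1,4,3],1746⟩,
 ⟨[18,10,44],[0,2,1,0],[1,0,1,3,2,4],2119⟩,
 ⟨[25,22,25,19,35],[2,1,0,1,2,5,4,3,2,1,3,2,1,0,1,0,2,1,2,1,4,3,2,1,3,2,1,0,3,2,1,0,4,3,2,1,3,2,1,5,4,3,2,1],[3,2,1,0,2,1,0,2,1,1,3,2,1,3,2,1,2,3,6,5,4,3,2,4,3,2,1,2,1,3,2,3,2,5,4,3,2,4,3,2],1652⟩,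
 ⟨[20,38,18],[0,2,1,0],[1,0,1,3,2,4],900⟩,
 ⟨[39,18,19],[0,2,1,0],[1,0,2,1,3],947⟩,
 ⟨[37,20,19],[0,2,1,0],[1,0,2,1,3],994⟩,
 ⟨[18,8,32],[0,1,0,3,2,4,5,4],[1,0,3,2,1,5,4,3,6,5],878⟩,
 ⟨[23,10,41],[0,3,2,1,0],[1,0,1,4,3,2,5,4,3,5,6],839⟩,
 ⟨[23,12,41],[0,3,2,1,0],[1,0,1,4,3,2,5,4,3,5,6],1079⟩,
 ⟨[0,2,38],[0,1,0,3,5,6],[1,0,3,2,1,5,4,3,2,6,5,4],118⟩,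
 ⟨[22,25,22,0,24],[2,1,0,3,2,1,0,4,3,2,1,3,5,4,3,2,1,0,2],[3,2,1,0,2,1,2,1,0,3,2,1,4,3,2,4,3,4,3,2],73⟩,
 ⟨[6,5,33],[0,1,0,3,5,6],[1,0,3,2,1,5,4,3,2,6,5,4],304⟩,
 ⟨[29,0,37],[0,3,2,1,0],[1,0,2,1,4,3,5,6,5],1782⟩,
 ⟨[25,34,1],[0,3,2,1,0,6,7],[1,0,2,1,4,3,6,5,7],1634⟩,
 ⟨[25,22,25,1,35],[2,1,0,1,4,3,2,1,2,1,0,0,3,2,1,0,3,2,1,0,5,4,3,2,1,4,3,2,1,3,4,7,6,5,4,3,2,1,2,3,4],[3,2,1,0,2,1,0,2,1,1,3,2,1,3,2,1,2,5,4,3,2,3,2,1,1,4,3,2,5,4,3,5,4,3,5,4],1681⟩,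
 ⟨[46,8,2],[0,3,2,1,0,6,7],[1,0,2,1,4,3,6,5,7],409⟩,
 ⟨[27,2,39],[0,3,2,1,0],[1,0,2,1,4,3,5,6,5],1876⟩,
 ⟨[30,2,33],[0,2,1,0,4,6,7],[1,0,3,2,1,3,6,5,7],1589⟩,
 ⟨[41,31,3],[0,2,1,0,4,6,7],[1,0,3,2,1,3,6,5,7],1506⟩,
 ⟨[37,26,0],[0,3,2,1,0,6,7],[1,0,1,4,3,2,5,4,6],142⟩,
 ⟨[46,6,16],[0,2,1,0],[1,0,1,3,2,4],800⟩,
 ⟨[2,32,41],[0,1,0,2,4],[1,0,2,1,4,3],1552⟩,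
 ⟨[0,32,43],[0,2,1,0],[1,0,2,1,3],2069⟩,
 ⟨[6,23,43],[0,2,1,0],[1,0,2,1,3],1130⟩,
 ⟨[16,47,5],[0,2,1,0],[1,0,1,3,2,4],283⟩,
 ⟨[5,17,46],[0,2,1,0],[1,0,1,3,2,4],2210⟩,
 ⟨[11,26,43],[0,3,2,1,0,4],[1,0,3,2,1,4,3,5],1271⟩,
 ⟨[10,46,0],[0,3,2,1,0,6,7],[1,0,1,4,3,2,5,4,6],1114⟩,
 ⟨[17,14,23],[0,3,2,1,0,6,7],[1,0,2,1,4,3,6,5,7],688⟩,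
 ⟨[15,14,25],[0,3,2,1,0,6,7],[1,0,2,1,4,3,6,5,7],1208⟩,
 ⟨[1,44,9],[0,3,2,1,0],[1,0,1,4,3,2,5,4,6,7,6],474⟩,
 ⟨[38,25,1],[0,3,2,1,0,6,7],[1,0,1,4,3,2,5,4,6],143⟩,
 ⟨[43,31,2],[0,2,1,0],[1,0,1,3,2,4],331⟩,
 ⟨[46,17,6],[0,2,1,0],[1,0,2,1,3],848⟩,
 ⟨[42,6,25],[0,2,1,0],[1,0,2,1,3],1224⟩,
 ⟨[17,47,5],[0,1,0,2,4],[1,0,2,1,4,3],2258⟩,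
 ⟨[25,1,47],[0,2,1,0],[1,0,1,3,2,4],1177⟩,
 ⟨[25,22,25,6,43],[2,1,0,3,2,1,0,4,3,2,1,0,5,4,3,2,1,2,3],[3,2,1,0,2,1,0,2,1,3,2,1,4,3,2,4,3,2,4,3],2070⟩,
 ⟨[1,32,43],[0,2,1,0],[1,0,2,1,3],1553⟩,
 ⟨[27,20,27,39,4],[2,1,0,1,4,3,2,1,2,1,0,0,3,2,1,0,3,2,1,0,5,4,3,2,1,0,5,7,6,5,4,3,2,1,3,4,5,4,3,2,1],[3,2,1,0,2,1,0,3,2,1,0,3,2,1,2,1,3,2,1,2,5,4,3,2,3,2,1,1,4,3,2,4,3,2,4,3,5,4,3],231⟩,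
 ⟨[22,25,22,37,1],[2,1,0,3,2,1,0,5,4,3,2,1,4,3,5,8,7,6,5,4,3,2,1,0,3,2,2,3,4],[3,2,1,0,2,1,2,1,0,3,2,1,4,3,2,4,3,4,3,2,3,5,4,3,5,4,3,5,4,5,4,3],454⟩,
 ⟨[22,25,22,10,21],[2,1,0,3,2,1,0,5,4,3,2,1,4,3,5,8,7,6,5,4,3,2,1,0,3,2,2,3,4],[3,2,1,0,2,1,2,1,0,3,2,1,4,3,2,4,3,4,3,2,3,5,4,3,5,4,3,5,4,5,4,3],1018⟩,
 ⟨[17,14,21],[0,3,2,1,0,6,7],[1,0,2,1,4,3,6,5,7],687⟩,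
 ⟨[16,14,22],[0,3,2,1,0,6,7],[1,0,2,1,4,3,6,5,7],1065⟩,
 ⟨[2,37,22],[0,3,2,1,0,6,7],[1,0,2,1,4,3,6,5,7],1777⟩,
 ⟨[24,37,0],[0,3,2,1,0,6,7],[1,0,2,1,4,3,6,5,7],93⟩,
 ⟨[47,21,1],[0,2,1,0],[1,0,2,1,3],1032⟩,
 ⟨[23,24,23,1,37],[2,1,0,1,0,4,3,2,1,0,2,1,0,0,3,2,1,0,3,2,1,5,4,3,2,1,0,4,3,2,1,3,7,6,5,4,3,2,1,2,3],[3,2,1,0,2,1,2,1,0,1,3,2,1,3,2,1,2,1,5,4,3,2,1,3,2,1,1,4,3,2,5,4,3,5,4,5,4,3],1824⟩,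
 ⟨[41,31,1],[0,2,1,0],[1,0,2,1,3],1503⟩,
 ⟨[42,0,31],[0,2,1,0],[1,0,1,3,2,4],234⟩,
 ⟨[17,4,45],[0,2,1,0],[1,0,2,1,3],2161⟩,
 ⟨[24,30,15],[0,2,1,0],[1,0,1,3,2,4],751⟩,
 ⟨[1,42,30],[0,1,0,2,4],[1,0,2,1,4,3],2020⟩,
 ⟨[4,41,24],[0,2,1,0],[1,0,1,3,2,4],1173⟩,
 ⟨[31,0,33],[0,2,1,0,4,6,7],[1,0,3,2,1,3,6,5,7],1588⟩,
 ⟨[14,42,0],[0,3,2,1,0,6,7],[1,0,1,4,3,2,5,4,6],734⟩,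
 ⟨[42,30,3],[0,2,1,0,4,6,7],[1,0,3,2,1,3,6,5,7],1459⟩,
 ⟨[31,7,41],[0,3,2,1,0,6,7],[1,0,2,1,4,3,6,5,7],1980⟩,
 ⟨[22,9,43],[0,3,2,1,0,6,7],[1,0,2,1,4,3,6,5,7],2072⟩,
 ⟨[5,19,35],[0,3,2,1,0],[1,0,1,4,3,2,5,4,6,7,6],1683⟩,
 ⟨[14,7,35],[0,2,1,0],[1,0,2,1,3],364⟩,
 ⟨[5,44,7],[0,3,2,1,0],[1,0,1,4,3,2,5,4,6,7,6],1612⟩,
 ⟨[40,33,9],[0,2,1,0],[1,0,2,1,3],476⟩,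
 ⟨[37,36,9],[0,2,1,0],[1,0,1,3,2,4],997⟩,
 ⟨[34,20,28],[0,2,1,0],[1,0,2,1,3],1377⟩,
 ⟨[39,11,33],[0,2,1,0],[1,0,1,3,2,4],903⟩,
 ⟨[18,40,20],[0,2,1,0],[1,0,1,3,2,4],1890⟩,
 ⟨[37,33,13],[0,1,0,2,4],[1,0,2,1,4,3],1796⟩,
 ⟨[2,37,44],[0,3,2,1,0],[1,0,3,2,1,4,3,5,6,5,4],2121⟩,
 ⟨[7,42,28],[0,1,0,3,2,4,7,6,5,4],[1,0,2,1,5,4,3,5,7,6,5],2025⟩,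
 ⟨[11,10,35],[0,2,1,0],[1,0,1,3,2,4],971⟩,
 ⟨[33,14,33,11,20],[2,1,0,1,4,3,2,1,2,1,0,0,3,2,1,0,3,2,1,0,4,3,2,1],[3,2,1,0,2,1,0,2,1,3,2,1,2,5,4,3,2,3,2,1,1,4,3,2],642⟩,
 ⟨[7,37,13],[0,2,1,0],[1,0,1,3,2,4],1351⟩,
 ⟨[20,8,28],[0,2,1,0],[1,0,1,3,2,4],548⟩,
 ⟨[33,14,33,13,18],[2,1,0,1,4,3,2,1,2,1,0,0,3,2,1,0,3,2,1,0,4,3,2,1],[3,2,1,0,2,1,0,2,1,3,2,1,2,5,4,3,2,3,2,1,1,4,3,2],877⟩,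
 ⟨[27,2,35],[0,3,2,1,0],[1,0,2,1,4,3,5,6,5],1684⟩,
 ⟨[18,26,14],[0,3,2,1,0],[1,0,2,1,4,3,5,6,5],1259⟩,
 ⟨[3,7,46],[0,1,0,3,2,4,5,4],[1,0,3,2,1,5,4,3,6,5],179⟩,
 ⟨[30,20,8],[0,3,2,1,0],[1,0,1,4,3,2,5,4,6,7,6],366⟩,
 ⟨[45,7,5],[0,3,2,1,0,6,7],[1,0,2,1,4,3,6,5,7],274⟩,
 ⟨[31,23,7],[0,2,1,0,4,6,7],[1,0,3,2,1,3,6,5,7],1116⟩,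
 ⟨[41,14,7],[0,3,2,1,0],[1,0,1,4,3,2,5,4,6,7,6],373⟩,
 ⟨[27,35,7],[0,2,1,0],[1,0,2,1,3],1688⟩,
 ⟨[21,10,35],[0,3,2,1,0],[1,0,1,4,3,2,5,4,6,7,6],981⟩,
 ⟨[4,20,41],[0,3,2,1,0,6,7],[1,0,2,1,4,3,6,5,7],1971⟩,
 ⟨[3,46,15],[0,3,2,1,0,6,7],[1,0,1,4,3,2,5,4,6],748⟩,
 ⟨[25,22,25,21,20],[2,1,0,1,4,3,2,1,2,1,0,0,3,2,1,0,3,2,1,0,5,4,3,2,1,4,3,2,1,3,4,7,6,5,4,3,2,1,2,3,4],[3,2,1,0,2,1,0,2,1,1,3,2,1,3,2,1,2,5,4,3,2,3,2,1,1,4,3,2,5,4,3,5,4,3,5,4],935⟩,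
 ⟨[3,35,34],[0,2,1,0],[1,0,2,1,3],1641⟩,
 ⟨[33,5,27],[0,3,2,1,0],[1,0,2,1,4,3,5,6,5],1312⟩,
 ⟨[25,22,25,15,28],[2,1,0,1,4,3,2,1,2,1,0,0,3,2,1,0,3,2,1,0,5,4,3,2,1,4,3,2,1,3,4,7,6,5,4,3,2,1,2,3,4],[3,2,1,0,2,1,0,2,1,1,3,2,1,3,2,1,2,5,4,3,2,3,2,1,1,4,3,2,5,4,3,5,4,3,5,4],1359⟩,
 ⟨[42,28,0],[0,3,2,1,0,6,7],[1,0,2,1,4,3,6,5,7],766⟩,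
 ⟨[47,23,15],[0,2,1,0],[1,0,2,1,3],1146⟩,
 ⟨[42,25,21],[0,2,1,0],[1,0,1,3,2,4],1051⟩,
 ⟨[23,45,17],[0,1,0,2,4],[1,0,2,1,4,3],2176⟩,
 ⟨[43,23,22],[0,1,0,2,4],[1,0,2,1,4,3],2085⟩,
 ⟨[21,47,16],[0,2,1,0],[1,0,1,3,2,4],813⟩,
 ⟨[30,16,42],[0,2,1,0],[1,0,2,1,3],2039⟩,
 ⟨[46,42,0],[0,1,0,2,4],[1,0,2,1,4,3],2223⟩,
 ⟨[19,11,35],[0,2,1,0],[1,0,2,1,3],561⟩,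
 ⟨[33,3,37],[0,2,1,0],[1,0,1,3,2,4],1783⟩,
 ⟨[19,37,9],[0,2,1,0],[1,0,2,1,3],466⟩,
 ⟨[33,9,27],[0,1,0,2,4],[1,0,2,1,4,3],1595⟩,
 ⟨[28,8,33],[0,2,1,0],[1,0,2,1,3],419⟩,
 ⟨[12,16,30],[0,3,2,1,0,6,7],[1,0,1,4,3,2,5,4,6],1447⟩,
 ⟨[15,13,30],[0,3,2,1,0,6,7],[1,0,2,1,4,3,6,5,7],645⟩,
 ⟨[21,39,3],[0,3,2,1,0],[1,0,1,4,3,2,5,4,6,7,6],661⟩,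
 ⟨[8,46,13],[0,3,2,1,0],[1,0,2,1,4,3,5,6,5],2211⟩,
 ⟨[6,18,46],[0,3,2,1,0,6,7],[1,0,2,1,4,3,6,5,7],896⟩,
 ⟨[47,18,5],[0,3,2,1,0,6,7],[1,0,2,1,4,3,6,5,7],1577⟩,
 ⟨[16,45,32],[0,2,1,0],[1,0,2,1,3],2185⟩,
 ⟨[41,31,25],[0,2,1,0],[1,0,1,3,2,4],1245⟩,
 ⟨[42,25,30],[0,2,1,0],[1,0,2,1,3],1483⟩,
 ⟨[45,26,23],[0,2,1,0],[1,0,1,3,2,4],1151⟩,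
 ⟨[32,42,23],[0,2,1,0],[1,0,1,3,2,4],2000⟩,
 ⟨[5,47,41],[0,2,1,0],[1,0,2,1,3],2279⟩,
 ⟨[33,14,33,30,43],[2,1,0,1,2,5,4,3,2,1,4,3,2,1,2,1,3,2,1,0,1,0,0,3,2,1,0,3,2,1,0,4,3,2,1,0,5,4,3,2,1,4,3,2,1],[3,2,1,0,2,1,0,3,2,1,0,3,2,1,2,1,3,2,1,2,3,6,5,4,3,2,5,4,3,2,3,2,4,3,2,1,2,1,1,4,3,2],2094⟩,
 ⟨[18,40,13],[0,2,1,0],[1,0,2,1,3],1929⟩,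
 ⟨[3,35,40],[0,2,1,0],[1,0,2,1,3],1694⟩,
 ⟨[29,11,35],[0,2,1,0],[1,0,2,1,3],567⟩,
 ⟨[39,27,9],[0,2,1,0],[1,0,1,3,2,4],472⟩,
 ⟨[13,44,11],[0,2,1,0],[1,0,1,3,2,4],1789⟩,
 ⟨[37,20,14],[0,2,1,0],[1,0,1,3,2,4],707⟩,
 ⟨[39,37,3],[0,1,0,2,4],[1,0,2,1,4,3],1883⟩,
 ⟨[3,43,30],[0,3,2,1,0,6,7],[1,0,1,4,3,2,5,4,6],1460⟩,
 ⟨[16,12,37],[0,3,2,1,0],[1,0,1,4,3,2,5,4,6,7,6],1303⟩,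
 ⟨[33,27,3],[0,2,1,0],[1,0,2,1,3],178⟩,
 ⟨[9,19,27],[0,2,1,0],[1,0,2,1,3],923⟩,
 ⟨[14,19,18],[0,2,1,0],[1,0,2,1,3],876⟩,
 ⟨[19,37,3],[0,2,1,0],[1,0,1,3,2,4],547⟩,
 ⟨[22,20,11],[0,3,2,1,0],[1,0,1,4,3,2,5,4,6,7,6],545⟩,
 ⟨[12,37,7],[0,2,1,0],[1,0,1,3,2,4],363⟩,
 ⟨[27,20,27,9,22],[2,1,0,1,4,3,2,1,2,1,0,0,3,2,1,0,3,2,1,0,5,4,3,2,1,0,5,7,6,5,4,3,2,1,3,4,5,4,3,2,1],[3,2,1,0,2,1,0,3,2,1,0,3,2,1,2,1,3,2,1,2,5,4,3,2,3,2,1,1,4,3,2,4,3,2,4,3,5,4,3],827⟩,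
 ⟨[27,20,27,10,21],[2,1,0,1,4,3,2,1,2,1,0,0,3,2,1,0,3,2,1,0,5,4,3,2,1,0,5,7,6,5,4,3,2,1,3,4,5,4,3,2,1],[3,2,1,0,2,1,0,3,2,1,0,3,2,1,2,1,3,2,1,2,5,4,3,2,3,2,1,1,4,3,2,4,3,2,4,3,5,4,3],780⟩,
 ⟨[10,16,27],[0,1,0,3,2,4,7,6,5,4],[1,0,2,1,5,4,3,5,7,6,5],501⟩,
 ⟨[7,14,34],[0,2,1,0],[1,0,1,3,2,4],1635⟩,
 ⟨[20,4,34],[0,3,2,1,0],[1,0,2,1,4,3,5,6,5],225⟩,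
 ⟨[20,27,20,34,2],[2,1,0,1,0,4,3,2,1,0,2,1,0,0,3,2,1,0,3,2,1,5,4,3,2,5,4,7,6,5,4,3,2,1,3,5,4,3,2,1,0],[3,2,1,0,2,1,3,2,3,2,1,2,1,0,3,2,1,2,1,5,4,3,2,1,3,2,1,1,4,3,2,4,3,4,3,2,5,4,3],130⟩,
 ⟨[25,22,25,33,5],[2,1,0,3,2,1,0,5,4,3,2,1,0,4,8,7,6,5,4,3,2,1,3,2,4,3,3,5,4,4],[3,2,1,0,2,1,0,2,1,3,2,1,4,3,2,4,3,2,4,3,3,5,4,3,5,4,3,5,4,3,5,4],273⟩,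
 ⟨[33,14,33,21,20],[2,1,0,3,2,1,0,5,4,3,2,1,0,4,8,7,6,5,4,3,2,1,3,2,4,5,4,3,4,3,5,4,4],[3,2,1,0,2,1,0,2,1,3,2,1,4,3,2,4,3,2,4,3,5,4,3,5,4,3,6,5,4,3,6,5,4,5,4],782⟩,
 ⟨[4,39,16],[0,3,2,1,0,6,7],[1,0,2,1,4,3,6,5,7],1872⟩,
 ⟨[30,16,10],[0,2,1,0,4,6,7],[1,0,3,2,1,3,6,5,7],503⟩,
 ⟨[24,23,24,39,1],[2,1,0,3,2,1,0,5,4,3,2,1,0,4,8,7,6,5,4,3,2,1,3,2,4,3,3,5,4,4],[3,2,1,0,2,1,0,2,1,3,2,1,4,3,2,4,3,2,4,3,3,5,4,3,5,4,3,5,4,3,5,4],456⟩,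
 ⟨[9,12,34],[0,2,1,0],[1,0,2,1,3],594⟩,
 ⟨[12,21,20],[0,1,0,3,2,4,7,6,5,4],[1,0,2,1,5,4,3,5,7,6,5],592⟩,
 ⟨[25,22,25,15,13],[2,1,0,1,4,3,2,1,2,1,0,0,3,2,1,0,3,2,1,0,5,4,3,2,1,4,3,2,1,3,4,7,6,5,4,3,2,1,2,3,4],[3,2,1,0,2,1,0,2,1,1,3,2,1,3,2,1,2,5,4,3,2,3,2,1,1,4,3,2,5,4,3,5,4,3,5,4],639⟩,
 ⟨[42,13,0],[0,3,2,1,0,6,7],[1,0,2,1,4,3,6,5,7],746⟩,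
 ⟨[26,8,43],[0,3,2,1,0],[1,0,1,4,3,2,5,4,3,5,6],2065⟩,
 ⟨[15,6,43],[0,2,1,0],[1,0,1,3,2,4],1263⟩,
 ⟨[0,42,26],[0,2,1,0],[1,0,2,1,3],2018⟩,
 ⟨[25,42,1],[0,2,1,0],[1,0,2,1,3],91⟩,
 ⟨[47,1,16],[0,2,1,0],[1,0,2,1,3],792⟩,
 ⟨[24,23,24,0,36],[2,1,0,1,4,3,2,1,2,1,0,0,3,2,1,0,3,2,1,0,5,4,3,2,1,4,3,2,1,3,4,7,6,5,4,3,2,1,2,3,4],[3,2,1,0,2,1,0,2,1,1,3,2,1,3,2,1,2,5,4,3,2,3,2,1,1,4,3,2,5,4,3,5,4,3,5,4],1728⟩,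
 ⟨[43,22,2],[0,2,1,0],[1,0,1,3,2,4],138⟩,
 ⟨[2,41,24],[0,2,1,0],[1,0,1,3,2,4],1168⟩,
 ⟨[3,41,36],[0,3,2,1,0],[1,0,2,1,4,3,5,6,5],1978⟩,
 ⟨[21,10,43],[0,3,2,1,0,6,7],[1,0,2,1,4,3,6,5,7],521⟩,
 ⟨[41,29,7],[0,3,2,1,0],[1,0,1,4,3,2,5,4,6,7,6],524⟩,
 ⟨[34,39,10],[0,2,1,0],[1,0,2,1,3],1891⟩,
 ⟨[33,40,10],[0,2,1,0],[1,0,1,3,2,4],1425⟩,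
 ⟨[7,44,29],[0,2,1,0],[1,0,2,1,3],2122⟩,
 ⟨[35,29,19],[0,2,1,0],[1,0,2,1,3],951⟩,
 ⟨[40,19,20],[0,2,1,0],[1,0,2,1,3],998⟩,
 ⟨[38,13,33],[0,2,1,0],[1,0,1,3,2,4],1613⟩,
 ⟨[20,34,29],[0,2,1,0],[1,0,1,3,2,4],1844⟩]

/-- The steps are valid. -/
theorem chk_elims6 : chkElims wTab tTab 0x7dffff5a7440bbfffeb56a20d7fff9ecd910efffc7e38000d7ff379fa684bbfead7f95827dfe5aff8b81fee1ffe07870ff19f7936664ff15ed6ad552ff0ddae5cb31fecfa75bb4c6feb756b7aaa5fe7ac9ef9993fe1c07ff8787f9f8ff907e7cf5f57d687d7af3edbae47b79edd1df5a747eeba9eeb56a7de765f1ecd97bdddbb31b76eedbbb74976eedbdd7ac5af5de7baf5a35ebbdb776e92edddb776ed8cddbbbce9b378fa6efae56ad7795dfee2e5afb8bbf9ede275db7cf5ebe16beafaf3e7e09ff1f9fe1e1ffe03f7fc999f7935effa555ed6aedffe32ddae5f3ff8cd3a75bf3ffcaab56b7edffe666c9efdefffe1e07ffbf7f91d1ff5a7fbf51a9feb57fdf3165f9ecffefefe3fffffff719fb379ffffb95febdfffffd7ffffffffffe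 elims6 =
    some 0x7fffffda7446bffffeb5ea2ddffffbedd913efffffff8680f7ff77bfa7e7fbfeadff97d7fdff5aff9fbffefdffe07a78ff7bf79f6e7dffb7ed7ad55bffcfdaf5ebfbffcfa75fb4c7ffb756bfebbfff7ac9ff9b9ffefc37ff8fbffbf8ff937e7df5f57d6efd7bfbedbafdfbfffdd3df5a7f7efbabeeb5fffdf765f1edfffbdddbb3dbfeeffbbb75b7efffbdd7ae7bf5dfffaf5e77ffffb776edafdfff7f6edbcfdfffdeff37afefefbedeadf7dfdffebf5afbffbf9edfa7fdbfff7ebf57feffff7e7edfff5fffe1e9fffdbf7fc9b9ffb7deffa555fd6fedffe3affafff3ff9ed3bffff3ffdfaf7fffedffe66efbffdefffe3e5fffbf7f9dd1fffbffbf5baffef7ffdf37e7fbefffefefeffffffff7dfff77fffffbbffefffffffd7ffffffffffe := by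
  decide +kernel

end Cfsg.Agent.H46.F4Two
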