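import Cfsg.Agent.H46.F4Two.Table

/-!
# The relation of the distinguished kernel element (generated file)
-/

set_option autoImplicit false
set_option maxRecDepth 100000

namespace Cfsg.Agent.H46.F4Two

/-- The final mask. -/
def knownF : ℕ := 0xffffffffffff7ffffffffffebffffffffffddffffffffffbeffffffffff7f7ffffffffeffbffffffffdffdffffffffbffeffffffff7fff7ffffffeffffbffffffdffffdffffffbffffeffffff7fffff7ffffeffffffbffffdffffffdffffbffffffeffff7fffffff7ffeffffffffbffdffffffffdffbffffffffeff7fffffffff7effffffffffbdffffffffffdbffffffffffe7ffffffffffe7ffffffffffdbffffffffffbdffffffffff7efffffffffeff7ffffffffdffbffffffffbffdffffffff7ffefffffffeffff7ffffffdffffbffffffbffffdffffff7ffffefffffeffffff7ffffdffffffbffffbffffffdffff7ffffffefffeffffffff7ffdffffffffbffbffffffffdff7ffffffffefeffffffffff7dffffffffffbbffffffffffd7ffffffffffe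

/-- Twice the distinguished element vanishes. -/
theorem chk_relation :
    chkRelation wTab tTab knownF [(10,2),(16,-2),(26,2)] [4,35] [] [0,0,3,2,2] = true := by
  decide +kernel

end Cfsg.Agent.H46.F4Two
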