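import Cfsg.Agent.H46.F4Two.Rewrite

/-!
# Tables for the commutation rules of F4(2) (generated file)
-/

set_option autoImplicit false
set_option maxRecDepth 100000

namespace Cfsg.Agent.H46.F4Two

/-- The products in the commutator formula. -/
def wTree : BTree (List ℕ) :=
 (.node (.node (.node (.node (.node (.node (.node (.node (.node (.node (.node (.node (.leaf [])
 (.leaf [47]))
 (.leaf []))
 (.node (.leaf [])
 (.node (.leaf [5])
 (.leaf []))))
 (.leaf []))
 (.node (.node (.node (.node (.leaf [])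
 (.leaf [41]))
 (.node (.leaf [1])
 (.leaf [])))
 (.node (.leaf [])
 (.node (.leaf [40,45])
 (.leaf []))))
 (.node (.node (.leaf [])
 (.node (.leaf [20,26])
 (.leaf [])))
 (.node (.node (.leaf [28,23])
 (.leaf []))
 (.node (.leaf [11,30])
 (.leaf []))))))
 (.node (.node (.node (.node (.node (.leaf [])
 (.leaf [18,41]))
 (.node (.leaf [31])
 (.leaf [])))
 (.leaf []))
 (.leaf []))
 (.node (.node (.leaf [])
 (.node (.leaf [])
 (.node (.leaf [7,17])
 (.leaf []))))
 (.leaf []))))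
 (.node (.node (.node (.node (.node (.node (.leaf [5])
 (.leaf []))
 (.leaf []))
 (.leaf []))
 (.node (.node (.leaf [])
 (.node (.leaf [18,21])
 (.leaf [])))
 (.node (.node (.leaf [25])
 (.leaf []))
 (.node (.leaf [8,22])
 (.leaf [])))))
 (.node (.node (.node (.node (.leaf [])
 (.leaf [23]))
 (.leaf []))
 (.leaf []))
 (.node (.node (.node (.leaf [14,4])
 (.leaf []))
 (.leaf []))
 (.leaf []))))
 (.node (.leaf [])
 (.node (.node (.node (.node (.leaf [])
 (.leaf [43]))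
 (.node (.leaf [2])
 (.leaf [])))
 (.leaf []))
 (.node (.leaf [])
 (.node (.leaf [])
 (.node (.leaf [15])
 (.leaf []))))))))
 (.node (.node (.node (.node (.node (.node (.node (.leaf [])
 (.leaf [16]))
 (.node (.leaf [30])
 (.leaf [])))
 (.node (.leaf [])
 (.node (.leaf [25])
 (.leaf []))))
 (.leaf []))
 (.node (.node (.node (.leaf [])
 (.node (.leaf [17])
 (.leaf [])))
 (.leaf []))
 (.node (.leaf [])
 (.node (.leaf [])
 (.node (.leaf [35,46])
 (.leaf []))))))
 (.node (.node (.node (.node (.node (.leaf [6])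
 (.leaf []))
 (.leaf []))
 (.node (.node (.leaf [7,1])
 (.leaf []))
 (.node (.leaf [39,43])
 (.leaf []))))
 (.node (.leaf [])
 (.node (.node (.leaf [26])
 (.leaf []))
 (.node (.leaf [9,25])
 (.leaf [])))))
 (.node (.node (.node (.node (.leaf [0])
 (.leaf []))
 (.leaf []))
 (.leaf []))
 (.node (.node (.leaf [])
 (.node (.leaf [4])
 (.leaf [])))
 (.node (.leaf [])
 (.node (.leaf [46])
 (.leaf [])))))))
 (.node (.node (.node (.node (.node (.leaf [])
 (.node (.leaf [15])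
 (.leaf [])))
 (.leaf []))
 (.node (.node (.node (.leaf [2])
 (.leaf []))
 (.leaf []))
 (.node (.leaf [])
 (.node (.leaf [33,42])
 (.leaf [])))))
 (.node (.node (.leaf [])
 (.node (.node (.leaf [9,5])
 (.leaf []))
 (.leaf [])))
 (.node (.node (.leaf [])
 (.node (.leaf [23])
 (.leaf [])))
 (.node (.node (.leaf [29,24])
 (.leaf []))
 (.leaf [])))))
 (.node (.node (.node (.node (.node (.leaf [])
 (.leaf [21]))
 (.leaf []))
 (.leaf []))
 (.node (.node (.node (.leaf [13,2])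
 (.leaf []))
 (.node (.leaf [3,6])
 (.leaf [])))
 (.leaf [])))
 (.leaf [])))))
 (.node (.node (.node (.node (.node (.node (.node (.leaf [])
 (.node (.leaf [22])
 (.leaf [])))
 (.node (.node (.leaf [29])
 (.leaf []))
 (.node (.leaf [14,4])
 (.leaf []))))
 (.node (.node (.node (.leaf [6])
 (.leaf []))
 (.leaf []))
 (.node (.leaf [])
 (.node (.leaf [38,45])
 (.leaf [])))))
 (.node (.node (.node (.node (.leaf [13,32])
 (.leaf []))
 (.leaf []))
 (.leaf []))
 (.node (.leaf [])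
 (.node (.node (.leaf [37])
 (.leaf []))
 (.node (.leaf [27])
 (.leaf []))))))
 (.node (.node (.node (.node (.node (.leaf [])
 (.leaf [34]))
 (.leaf []))
 (.leaf []))
 (.node (.node (.leaf [])
 (.node (.leaf [11])
 (.leaf [])))
 (.leaf [])))
 (.node (.node (.node (.leaf [])
 (.node (.leaf [26])
 (.leaf [])))
 (.node (.leaf [])
 (.node (.leaf [19])
 (.leaf []))))
 (.node (.node (.node (.leaf [10,2])
 (.leaf []))
 (.leaf []))
 (.node (.node (.leaf [7])
 (.leaf []))
 (.node (.leaf [42])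
 (.leaf [])))))))
 (.node (.node (.node (.node (.node (.node (.leaf [11,30])
 (.leaf []))
 (.leaf []))
 (.node (.node (.leaf [12,4])
 (.leaf []))
 (.leaf [])))
 (.node (.leaf [])
 (.node (.node (.leaf [35,46])
 (.leaf []))
 (.leaf []))))
 (.node (.node (.node (.node (.leaf [])
 (.leaf [37,21]))
 (.leaf []))
 (.node (.leaf [])
 (.node (.leaf [36,43])
 (.leaf []))))
 (.node (.node (.node (.leaf [27])
 (.leaf []))
 (.leaf []))
 (.leaf []))))
 (.node (.leaf [])
 (.node (.node (.node (.leaf [])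
 (.node (.leaf [10,1])
 (.leaf [])))
 (.leaf []))
 (.node (.leaf [])
 (.node (.node (.leaf [39])
 (.leaf []))
 (.leaf [])))))))
 (.node (.node (.node (.node (.node (.node (.node (.leaf [1])
 (.leaf [33,15]))
 (.leaf []))
 (.leaf []))
 (.node (.leaf [])
 (.node (.node (.leaf [17])
 (.leaf []))
 (.leaf []))))
 (.node (.node (.leaf [])
 (.node (.leaf [])
 (.node (.leaf [18])
 (.leaf []))))
 (.leaf [])))
 (.node (.node (.node (.node (.node (.leaf [12,31])
 (.leaf []))
 (.leaf []))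
 (.node (.leaf [])
 (.node (.leaf [44])
 (.leaf []))))
 (.node (.node (.leaf [])
 (.node (.leaf [29,32])
 (.leaf [])))
 (.node (.node (.leaf [36,47])
 (.leaf []))
 (.leaf []))))
 (.node (.node (.node (.node (.leaf [])
 (.leaf [38,22]))
 (.leaf []))
 (.leaf []))
 (.node (.node (.node (.leaf [28])
 (.leaf []))
 (.leaf []))
 (.leaf [])))))
 (.node (.node (.leaf [])
 (.node (.node (.node (.node (.leaf [14])
 (.leaf [47]))
 (.node (.leaf [9,0])
 (.leaf [])))
 (.leaf []))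
 (.node (.node (.leaf [])
 (.node (.leaf [31])
 (.leaf [])))
 (.node (.node (.leaf [38])
 (.leaf []))
 (.leaf [])))))
 (.node (.node (.node (.leaf [])
 (.node (.node (.leaf [3])
 (.leaf []))
 (.leaf [])))
 (.node (.node (.leaf [])
 (.node (.leaf [12])
 (.leaf [])))
 (.node (.node (.leaf [19,15])
 (.leaf []))
 (.leaf []))))
 (.node (.node (.leaf [])
 (.node (.node (.leaf [34,45])
 (.leaf []))
 (.leaf [])))
 (.leaf [])))))))
 (.node (.node (.node (.node (.node (.node (.node (.node (.leaf [])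
 (.node (.leaf [18,16])
 (.leaf [])))
 (.leaf []))
 (.node (.leaf [])
 (.node (.node (.leaf [0])
 (.leaf []))
 (.node (.leaf [35])
 (.leaf [])))))
 (.node (.node (.node (.node (.leaf [])
 (.leaf [44,43]))
 (.leaf []))
 (.leaf []))
 (.node (.leaf [])
 (.node (.node (.leaf [33])
 (.leaf []))
 (.leaf [])))))
 (.node (.node (.node (.node (.node (.leaf [])
 (.leaf [27,45]))
 (.leaf []))
 (.leaf []))
 (.leaf []))
 (.node (.node (.leaf [])
 (.node (.node (.leaf [29])
 (.leaf []))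
 (.node (.leaf [12,24])
 (.leaf []))))
 (.node (.node (.leaf [])
 (.node (.leaf [40,47])
 (.leaf [])))
 (.node (.node (.leaf [3,2])
 (.leaf []))
 (.leaf []))))))
 (.node (.node (.node (.node (.node (.node (.leaf [7,17])
 (.leaf []))
 (.leaf []))
 (.node (.node (.leaf [9])
 (.leaf []))
 (.leaf [])))
 (.leaf []))
 (.node (.node (.node (.node (.leaf [])
 (.leaf [30]))
 (.leaf []))
 (.leaf []))
 (.node (.node (.node (.leaf [19])
 (.leaf []))
 (.leaf []))
 (.leaf []))))
 (.node (.node (.leaf [])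
 (.node (.node (.leaf [])
 (.node (.leaf [39])
 (.leaf [])))
 (.leaf [])))
 (.node (.node (.node (.node (.leaf [12,24])
 (.leaf []))
 (.node (.leaf [6])
 (.leaf [])))
 (.leaf []))
 (.node (.node (.leaf [])
 (.node (.leaf [29,26])
 (.leaf [])))
 (.node (.leaf [])
 (.node (.leaf [22])
 (.leaf []))))))))
 (.node (.node (.node (.node (.node (.node (.leaf [])
 (.node (.leaf [34,42])
 (.leaf [])))
 (.leaf []))
 (.node (.node (.node (.leaf [13,26])
 (.leaf []))
 (.leaf []))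
 (.node (.leaf [])
 (.node (.leaf [44])
 (.leaf [])))))
 (.node (.node (.leaf [])
 (.node (.leaf [])
 (.node (.leaf [11,23])
 (.leaf []))))
 (.node (.node (.node (.leaf [7])
 (.leaf []))
 (.leaf []))
 (.node (.leaf [])
 (.node (.leaf [39])
 (.leaf []))))))
 (.node (.node (.node (.leaf [])
 (.node (.node (.leaf [10])
 (.leaf []))
 (.leaf [])))
 (.node (.leaf [])
 (.node (.leaf [])
 (.node (.leaf [14,32])
 (.leaf [])))))
 (.node (.node (.node (.node (.leaf [3,2])
 (.leaf [31]))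
 (.leaf []))
 (.leaf []))
 (.node (.node (.node (.leaf [20])
 (.leaf []))
 (.leaf []))
 (.leaf [])))))
 (.node (.node (.node (.node (.node (.leaf [])
 (.node (.leaf [19,17])
 (.leaf [])))
 (.node (.leaf [])
 (.node (.leaf [8,15])
 (.leaf []))))
 (.node (.node (.leaf [])
 (.node (.leaf [38])
 (.leaf [])))
 (.node (.node (.leaf [1])
 (.leaf []))
 (.node (.leaf [36])
 (.leaf [])))))
 (.node (.node (.node (.node (.leaf [10])
 (.leaf []))
 (.node (.leaf [5])
 (.leaf [])))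
 (.node (.node (.leaf [13])
 (.leaf []))
 (.leaf [])))
 (.node (.node (.leaf [])
 (.node (.leaf [28,25])
 (.leaf [])))
 (.node (.leaf [])
 (.node (.leaf [21])
 (.leaf []))))))
 (.node (.node (.node (.node (.leaf [])
 (.node (.leaf [35,43])
 (.leaf [])))
 (.node (.leaf [])
 (.node (.leaf [33])
 (.leaf []))))
 (.leaf []))
 (.leaf [])))))
 (.node (.node (.node (.node (.node (.node (.leaf [])
 (.node (.node (.leaf [36])
 (.leaf []))
 (.leaf [])))
 (.node (.leaf [])
 (.node (.node (.leaf [7,1])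
 (.leaf []))
 (.leaf []))))
 (.node (.node (.node (.node (.leaf [20,43])
 (.leaf []))
 (.leaf []))
 (.leaf []))
 (.leaf [])))
 (.node (.node (.node (.node (.node (.leaf [3,5])
 (.leaf [38]))
 (.leaf []))
 (.node (.leaf [])
 (.node (.leaf [35])
 (.leaf []))))
 (.node (.node (.node (.leaf [29,47])
 (.leaf []))
 (.node (.leaf [14])
 (.leaf [])))
 (.node (.node (.leaf [20,25])
 (.leaf []))
 (.leaf []))))
 (.node (.node (.leaf [])
 (.node (.node (.leaf [40])
 (.leaf []))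
 (.leaf [])))
 (.node (.leaf [])
 (.node (.node (.leaf [10])
 (.leaf []))
 (.leaf []))))))
 (.node (.node (.node (.node (.node (.node (.leaf [18,41])
 (.leaf []))
 (.leaf []))
 (.leaf []))
 (.leaf []))
 (.node (.node (.node (.node (.leaf [])
 (.leaf [40,31]))
 (.leaf []))
 (.leaf []))
 (.node (.node (.node (.leaf [34])
 (.leaf []))
 (.leaf []))
 (.leaf []))))
 (.node (.node (.node (.leaf [])
 (.node (.node (.leaf [38])
 (.leaf []))
 (.leaf [])))
 (.node (.node (.node (.leaf [9])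
 (.leaf []))
 (.leaf []))
 (.node (.node (.leaf [8])
 (.leaf []))
 (.leaf []))))
 (.node (.node (.node (.node (.leaf [27,45])
 (.leaf []))
 (.leaf []))
 (.node (.node (.leaf [18,23])
 (.leaf []))
 (.leaf [])))
 (.leaf [])))))
 (.node (.node (.node (.node (.node (.node (.node (.leaf [])
 (.leaf [36,24]))
 (.leaf []))
 (.leaf []))
 (.node (.node (.node (.leaf [28,46])
 (.leaf []))
 (.leaf []))
 (.leaf [])))
 (.node (.node (.node (.leaf [])
 (.node (.leaf [29,32])
 (.leaf [])))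
 (.node (.node (.leaf [39])
 (.leaf []))
 (.leaf [])))
 (.node (.node (.node (.leaf [11])
 (.leaf []))
 (.leaf []))
 (.leaf []))))
 (.node (.node (.node (.node (.node (.leaf [19,42])
 (.leaf []))
 (.node (.leaf [11,4])
 (.leaf [])))
 (.node (.node (.leaf [14])
 (.leaf []))
 (.leaf [])))
 (.node (.leaf [])
 (.node (.leaf [])
 (.node (.leaf [29])
 (.leaf [])))))
 (.node (.node (.leaf [])
 (.node (.leaf [])
 (.node (.leaf [39])
 (.leaf []))))
 (.node (.node (.node (.leaf [35])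
 (.leaf []))
 (.leaf []))
 (.leaf [])))))
 (.node (.node (.node (.node (.node (.leaf [])
 (.node (.leaf [27,30])
 (.leaf [])))
 (.node (.node (.leaf [37])
 (.leaf []))
 (.node (.leaf [19])
 (.leaf []))))
 (.node (.leaf [])
 (.node (.leaf [])
 (.node (.leaf [40])
 (.leaf [])))))
 (.node (.node (.node (.leaf [])
 (.node (.leaf [13,6])
 (.leaf [])))
 (.leaf []))
 (.node (.node (.node (.leaf [3])
 (.leaf []))
 (.leaf []))
 (.node (.leaf [])
 (.node (.leaf [34,22])
 (.leaf []))))))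
 (.node (.node (.node (.leaf [])
 (.node (.leaf [])
 (.node (.leaf [37])
 (.leaf []))))
 (.node (.node (.node (.leaf [33])
 (.leaf []))
 (.leaf []))
 (.leaf [])))
 (.node (.node (.leaf [])
 (.node (.leaf [])
 (.node (.leaf [27])
 (.leaf []))))
 (.node (.node (.node (.leaf [13])
 (.leaf []))
 (.leaf []))
 (.node (.leaf [])
 (.node (.leaf [44,46])
 (.leaf [])))))))))))
 (.node (.node (.node (.node (.node (.node (.node (.node (.leaf [])
 (.node (.node (.leaf [19])
 (.leaf []))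
 (.leaf [])))
 (.node (.node (.leaf [])
 (.node (.leaf [36,42])
 (.leaf [])))
 (.leaf [])))
 (.node (.node (.node (.node (.leaf [7,15])
 (.leaf []))
 (.leaf []))
 (.node (.node (.leaf [9])
 (.leaf []))
 (.leaf [])))
 (.node (.leaf [])
 (.node (.leaf [])
 (.node (.leaf [13,32])
 (.leaf []))))))
 (.node (.node (.node (.node (.node (.leaf [])
 (.leaf [20,43]))
 (.leaf []))
 (.leaf []))
 (.node (.node (.node (.leaf [12,22])
 (.leaf []))
 (.leaf []))
 (.leaf [])))
 (.node (.node (.leaf [])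
 (.node (.node (.leaf [27])
 (.leaf []))
 (.leaf [])))
 (.leaf []))))
 (.node (.node (.node (.node (.node (.leaf [])
 (.node (.leaf [1])
 (.leaf [])))
 (.node (.leaf [])
 (.node (.leaf [40,45])
 (.leaf []))))
 (.node (.leaf [])
 (.node (.leaf [])
 (.node (.leaf [10,24])
 (.leaf [])))))
 (.node (.node (.node (.node (.leaf [])
 (.leaf [25]))
 (.leaf []))
 (.leaf []))
 (.node (.node (.leaf [])
 (.node (.leaf [5])
 (.leaf [])))
 (.leaf []))))
 (.node (.node (.node (.leaf [])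
 (.node (.leaf [])
 (.node (.leaf [7,15])
 (.leaf []))))
 (.node (.node (.leaf [])
 (.node (.leaf [37])
 (.leaf [])))
 (.node (.leaf [])
 (.node (.leaf [35])
 (.leaf [])))))
 (.node (.node (.node (.node (.leaf [])
 (.leaf [44,41]))
 (.leaf []))
 (.leaf []))
 (.node (.node (.leaf [])
 (.node (.leaf [27,21])
 (.leaf [])))
 (.node (.node (.leaf [33])
 (.leaf []))
 (.node (.leaf [17])
 (.leaf []))))))))
 (.node (.node (.node (.node (.node (.leaf [])
 (.node (.leaf [])
 (.node (.leaf [28,23])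
 (.leaf []))))
 (.node (.node (.node (.leaf [11,21])
 (.leaf []))
 (.node (.leaf [3,4])
 (.leaf [])))
 (.leaf [])))
 (.node (.node (.node (.leaf [])
 (.node (.leaf [19,15])
 (.leaf [])))
 (.leaf []))
 (.node (.node (.leaf [])
 (.node (.leaf [38])
 (.leaf [])))
 (.node (.leaf [])
 (.node (.leaf [37])
 (.leaf []))))))
 (.node (.node (.node (.leaf [])
 (.node (.node (.leaf [8])
 (.leaf []))
 (.leaf [])))
 (.leaf []))
 (.node (.node (.node (.node (.leaf [])
 (.leaf [26]))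
 (.node (.leaf [35,41])
 (.leaf [])))
 (.node (.leaf [])
 (.node (.leaf [33])
 (.leaf []))))
 (.node (.node (.node (.leaf [18])
 (.leaf []))
 (.node (.leaf [6])
 (.leaf [])))
 (.leaf [])))))
 (.node (.node (.node (.leaf [])
 (.node (.node (.node (.leaf [3,0])
 (.leaf []))
 (.leaf []))
 (.node (.leaf [])
 (.node (.leaf [34])
 (.leaf [])))))
 (.node (.node (.node (.node (.leaf [8])
 (.leaf []))
 (.leaf []))
 (.node (.node (.leaf [11])
 (.leaf []))
 (.leaf [])))
 (.node (.leaf [])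
 (.node (.leaf [])
 (.node (.leaf [16])
 (.leaf []))))))
 (.node (.node (.leaf [])
 (.node (.leaf [])
 (.node (.leaf [])
 (.node (.leaf [44])
 (.leaf [])))))
 (.node (.node (.node (.leaf [])
 (.node (.leaf [20,16])
 (.leaf [])))
 (.node (.leaf [])
 (.node (.leaf [9,23])
 (.leaf []))))
 (.node (.node (.node (.leaf [7])
 (.leaf []))
 (.leaf []))
 (.node (.node (.leaf [0])
 (.leaf []))
 (.leaf []))))))))
 (.node (.node (.node (.node (.node (.leaf [])
 (.node (.leaf [])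
 (.node (.leaf [])
 (.node (.leaf [39,46])
 (.leaf [])))))
 (.node (.node (.node (.node (.leaf [17])
 (.leaf [47]))
 (.leaf []))
 (.leaf []))
 (.node (.leaf [])
 (.node (.leaf [])
 (.node (.leaf [29])
 (.leaf []))))))
 (.node (.node (.node (.node (.node (.leaf [])
 (.leaf [36]))
 (.leaf []))
 (.leaf []))
 (.node (.node (.node (.leaf [24])
 (.leaf []))
 (.node (.leaf [13])
 (.leaf [])))
 (.leaf [])))
 (.node (.node (.leaf [])
 (.node (.node (.leaf [38,31])
 (.leaf []))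
 (.leaf [])))
 (.node (.node (.leaf [])
 (.node (.leaf [45])
 (.leaf [])))
 (.node (.leaf [])
 (.node (.leaf [43])
 (.leaf [])))))))
 (.node (.node (.node (.node (.node (.node (.leaf [15])
 (.leaf []))
 (.leaf []))
 (.node (.node (.leaf [13,5])
 (.leaf []))
 (.node (.leaf [47])
 (.leaf []))))
 (.node (.node (.leaf [])
 (.node (.leaf [29,31])
 (.leaf [])))
 (.leaf [])))
 (.node (.node (.node (.node (.leaf [])
 (.leaf [39,26]))
 (.leaf []))
 (.leaf []))
 (.node (.node (.leaf [])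
 (.node (.leaf [14,6])
 (.leaf [])))
 (.leaf []))))
 (.node (.node (.node (.node (.leaf [])
 (.node (.leaf [25])
 (.leaf [])))
 (.node (.leaf [])
 (.node (.leaf [19])
 (.leaf []))))
 (.node (.node (.leaf [])
 (.node (.leaf [44,46])
 (.leaf [])))
 (.node (.node (.leaf [7])
 (.leaf []))
 (.leaf []))))
 (.node (.node (.node (.node (.leaf [22])
 (.leaf []))
 (.leaf []))
 (.node (.node (.leaf [17])
 (.leaf []))
 (.leaf [])))
 (.leaf [])))))
 (.node (.node (.node (.node (.node (.node (.node (.leaf [2])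
 (.leaf []))
 (.leaf []))
 (.node (.node (.leaf [3])
 (.leaf []))
 (.leaf [])))
 (.node (.node (.leaf [])
 (.node (.leaf [12])
 (.leaf [])))
 (.leaf [])))
 (.node (.node (.leaf [])
 (.node (.node (.leaf [36,26])
 (.leaf []))
 (.node (.leaf [20])
 (.leaf []))))
 (.node (.node (.node (.leaf [10,1])
 (.leaf []))
 (.leaf []))
 (.leaf []))))
 (.node (.node (.node (.node (.leaf [])
 (.node (.leaf [9,2])
 (.leaf [])))
 (.leaf []))
 (.leaf []))
 (.node (.node (.node (.node (.leaf [6])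
 (.leaf []))
 (.node (.leaf [43])
 (.leaf [])))
 (.leaf []))
 (.node (.node (.node (.leaf [33,16])
 (.leaf []))
 (.leaf []))
 (.leaf [])))))
 (.node (.node (.node (.node (.node (.leaf [])
 (.node (.leaf [24])
 (.leaf [])))
 (.node (.node (.leaf [34,21])
 (.leaf []))
 (.leaf [])))
 (.leaf []))
 (.node (.node (.node (.node (.leaf [19,1])
 (.leaf []))
 (.leaf []))
 (.leaf []))
 (.node (.node (.leaf [])
 (.node (.leaf [32])
 (.leaf [])))
 (.node (.leaf [])
 (.node (.leaf [33,17])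
 (.leaf []))))))
 (.node (.node (.node (.node (.node (.leaf [])
 (.leaf [38,24]))
 (.node (.leaf [41])
 (.leaf [])))
 (.node (.leaf [])
 (.node (.leaf [36,42])
 (.leaf []))))
 (.node (.leaf [])
 (.node (.node (.leaf [20,16])
 (.leaf []))
 (.leaf []))))
 (.node (.leaf [])
 (.node (.leaf [])
 (.node (.node (.leaf [8,1])
 (.leaf []))
 (.leaf [])))))))))
 (.node (.node (.node (.node (.node (.node (.leaf [])
 (.node (.node (.node (.leaf [4])
 (.leaf []))
 (.leaf []))
 (.node (.node (.leaf [2])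
 (.leaf []))
 (.leaf []))))
 (.node (.node (.node (.node (.leaf [10,24])
 (.leaf []))
 (.leaf []))
 (.node (.node (.leaf [12,6])
 (.leaf []))
 (.leaf [])))
 (.node (.leaf [])
 (.node (.node (.leaf [34])
 (.leaf []))
 (.leaf [])))))
 (.node (.node (.node (.node (.node (.leaf [])
 (.leaf [29,47]))
 (.leaf []))
 (.leaf []))
 (.leaf []))
 (.node (.leaf [])
 (.node (.node (.node (.leaf [8,0])
 (.leaf []))
 (.leaf []))
 (.leaf [])))))
 (.node (.node (.node (.node (.node (.node (.leaf [8,22])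
 (.leaf [42]))
 (.leaf []))
 (.leaf []))
 (.node (.leaf [])
 (.node (.node (.leaf [33,42])
 (.leaf []))
 (.leaf []))))
 (.node (.node (.node (.node (.leaf [])
 (.leaf [32]))
 (.leaf []))
 (.node (.leaf [])
 (.node (.leaf [34,41])
 (.leaf []))))
 (.leaf [])))
 (.node (.node (.node (.node (.leaf [])
 (.node (.leaf [21])
 (.leaf [])))
 (.node (.leaf [])
 (.node (.leaf [12,22])
 (.leaf []))))
 (.node (.node (.leaf [])
 (.node (.leaf [40])
 (.leaf [])))
 (.node (.node (.leaf [3,0])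
 (.leaf []))
 (.node (.leaf [38,47])
 (.leaf [])))))
 (.node (.leaf [])
 (.node (.leaf [])
 (.node (.node (.leaf [36])
 (.leaf []))
 (.node (.leaf [24])
 (.leaf []))))))))
 (.node (.node (.node (.node (.node (.node (.node (.leaf [])
 (.leaf [26]))
 (.leaf []))
 (.node (.leaf [])
 (.node (.leaf [31])
 (.leaf []))))
 (.node (.node (.node (.leaf [14,31])
 (.leaf []))
 (.leaf []))
 (.node (.node (.leaf [15])
 (.leaf []))
 (.leaf []))))
 (.node (.node (.leaf [])
 (.node (.node (.leaf [29])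
 (.leaf []))
 (.node (.leaf [13,25])
 (.leaf []))))
 (.leaf [])))
 (.node (.node (.node (.node (.leaf [])
 (.node (.leaf [5])
 (.leaf [])))
 (.leaf []))
 (.node (.node (.leaf [])
 (.node (.leaf [27,30])
 (.leaf [])))
 (.leaf [])))
 (.node (.node (.node (.leaf [])
 (.node (.leaf [39,47])
 (.leaf [])))
 (.node (.node (.leaf [1])
 (.leaf []))
 (.leaf [])))
 (.node (.leaf [])
 (.node (.node (.leaf [19,17])
 (.leaf []))
 (.leaf []))))))
 (.node (.node (.node (.node (.leaf [])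
 (.node (.node (.leaf [27])
 (.leaf []))
 (.node (.leaf [10,17])
 (.leaf []))))
 (.leaf []))
 (.node (.node (.node (.node (.leaf [12])
 (.leaf [45]))
 (.leaf []))
 (.node (.leaf [])
 (.node (.leaf [44])
 (.leaf []))))
 (.leaf [])))
 (.node (.node (.node (.node (.node (.leaf [1])
 (.leaf [31]))
 (.node (.leaf [37,45])
 (.leaf [])))
 (.leaf []))
 (.node (.node (.node (.leaf [19])
 (.leaf []))
 (.leaf []))
 (.leaf [])))
 (.node (.node (.node (.leaf [])
 (.node (.leaf [24])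
 (.leaf [])))
 (.node (.leaf [])
 (.node (.leaf [14,30])
 (.leaf []))))
 (.node (.leaf [])
 (.node (.node (.leaf [4])
 (.leaf []))
 (.leaf []))))))))
 (.node (.node (.node (.node (.node (.node (.leaf [])
 (.node (.node (.leaf [39,26])
 (.leaf []))
 (.leaf [])))
 (.node (.leaf [])
 (.node (.node (.leaf [9,5])
 (.leaf []))
 (.leaf []))))
 (.node (.node (.node (.node (.leaf [25])
 (.leaf []))
 (.leaf []))
 (.leaf []))
 (.leaf [])))
 (.node (.node (.node (.node (.node (.leaf [4])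
 (.leaf [40]))
 (.node (.leaf [45])
 (.leaf [])))
 (.node (.leaf [])
 (.node (.leaf [37,41])
 (.leaf []))))
 (.node (.node (.node (.leaf [32])
 (.leaf []))
 (.leaf []))
 (.leaf [])))
 (.node (.node (.leaf [])
 (.node (.leaf [])
 (.node (.leaf [29])
 (.leaf []))))
 (.node (.leaf [])
 (.node (.node (.leaf [13])
 (.leaf []))
 (.leaf []))))))
 (.node (.node (.node (.node (.node (.node (.leaf [23])
 (.leaf [46]))
 (.leaf []))
 (.leaf []))
 (.leaf []))
 (.node (.node (.node (.leaf [])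
 (.node (.leaf [47])
 (.leaf [])))
 (.leaf []))
 (.node (.node (.node (.leaf [37,21])
 (.leaf []))
 (.leaf []))
 (.node (.node (.leaf [27,22])
 (.leaf []))
 (.leaf [])))))
 (.node (.node (.node (.leaf [])
 (.node (.node (.leaf [40,31])
 (.leaf []))
 (.node (.leaf [27])
 (.leaf []))))
 (.node (.node (.node (.leaf [11,0])
 (.leaf []))
 (.leaf []))
 (.node (.node (.leaf [11])
 (.leaf []))
 (.leaf []))))
 (.node (.node (.node (.node (.leaf [30])
 (.leaf []))
 (.leaf []))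
 (.node (.node (.leaf [21])
 (.leaf []))
 (.leaf [])))
 (.node (.leaf [])
 (.node (.leaf [])
 (.node (.leaf [38,31])
 (.leaf []))))))))
 (.node (.node (.node (.node (.node (.node (.node (.leaf [])
 (.leaf [39,32]))
 (.leaf []))
 (.leaf []))
 (.node (.leaf [])
 (.node (.node (.leaf [23])
 (.leaf []))
 (.leaf []))))
 (.node (.node (.node (.leaf [])
 (.node (.leaf [31])
 (.leaf [])))
 (.node (.leaf [])
 (.node (.leaf [28])
 (.leaf []))))
 (.node (.leaf [])
 (.node (.node (.leaf [12])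
 (.leaf []))
 (.leaf [])))))
 (.node (.node (.leaf [])
 (.node (.node (.node (.leaf [3])
 (.leaf []))
 (.leaf []))
 (.node (.node (.leaf [43])
 (.leaf []))
 (.leaf []))))
 (.node (.node (.leaf [])
 (.node (.node (.leaf [8,4])
 (.leaf []))
 (.node (.leaf [40,47])
 (.leaf []))))
 (.node (.leaf [])
 (.node (.node (.leaf [28,25])
 (.leaf []))
 (.leaf []))))))
 (.node (.node (.node (.leaf [])
 (.node (.leaf [])
 (.node (.node (.leaf [10,6])
 (.leaf []))
 (.leaf []))))
 (.node (.node (.node (.node (.leaf [28,5])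
 (.leaf []))
 (.leaf []))
 (.leaf []))
 (.node (.leaf [])
 (.node (.node (.leaf [44,42])
 (.leaf []))
 (.node (.leaf [37,30])
 (.leaf []))))))
 (.node (.node (.node (.node (.node (.leaf [5])
 (.leaf []))
 (.leaf []))
 (.leaf []))
 (.node (.node (.node (.leaf [35,16])
 (.leaf []))
 (.leaf []))
 (.leaf [])))
 (.node (.node (.node (.leaf [])
 (.node (.leaf [32])
 (.leaf [])))
 (.node (.node (.leaf [41])
 (.leaf []))
 (.leaf [])))
 (.node (.node (.node (.leaf [14,6])
 (.leaf []))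
 (.leaf []))
 (.node (.leaf [])
 (.node (.leaf [45])
 (.leaf []))))))))))))
 (.node (.node (.node (.node (.node (.node (.node (.node (.node (.node (.leaf [])
 (.node (.leaf [15])
 (.leaf [])))
 (.node (.leaf [])
 (.node (.leaf [6])
 (.leaf []))))
 (.node (.node (.node (.leaf [2])
 (.leaf []))
 (.leaf []))
 (.node (.leaf [])
 (.node (.leaf [33,41])
 (.leaf [])))))
 (.node (.node (.node (.node (.leaf [])
 (.leaf [42]))
 (.leaf []))
 (.leaf []))
 (.node (.leaf [])
 (.node (.leaf [])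
 (.node (.leaf [12,31])
 (.leaf []))))))
 (.node (.node (.node (.node (.node (.leaf [])
 (.leaf [19,42]))
 (.leaf []))
 (.leaf []))
 (.node (.node (.node (.leaf [10,17])
 (.leaf []))
 (.node (.leaf [3,5])
 (.leaf [])))
 (.leaf [])))
 (.node (.leaf [])
 (.node (.node (.leaf [])
 (.node (.leaf [37,41])
 (.leaf [])))
 (.leaf [])))))
 (.node (.node (.node (.node (.leaf [])
 (.node (.node (.leaf [7,0])
 (.leaf []))
 (.node (.leaf [39,43])
 (.leaf []))))
 (.node (.node (.leaf [])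
 (.node (.leaf [19,22])
 (.leaf [])))
 (.leaf [])))
 (.node (.leaf [])
 (.node (.node (.leaf [])
 (.node (.leaf [4])
 (.leaf [])))
 (.node (.leaf [])
 (.node (.leaf [44])
 (.leaf []))))))
 (.node (.node (.node (.node (.leaf [])
 (.node (.leaf [16])
 (.leaf [])))
 (.node (.node (.leaf [19])
 (.leaf []))
 (.leaf [])))
 (.node (.node (.leaf [])
 (.node (.leaf [35])
 (.leaf [])))
 (.leaf [])))
 (.node (.node (.node (.node (.leaf [8,15])
 (.leaf []))
 (.leaf []))
 (.leaf []))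
 (.node (.node (.leaf [])
 (.node (.leaf [24])
 (.leaf [])))
 (.leaf []))))))
 (.node (.node (.node (.node (.node (.node (.node (.leaf [])
 (.leaf [17]))
 (.leaf []))
 (.node (.leaf [])
 (.node (.leaf [26])
 (.leaf []))))
 (.node (.node (.node (.leaf [9,16])
 (.leaf []))
 (.leaf []))
 (.leaf [])))
 (.node (.node (.leaf [])
 (.node (.node (.leaf [20])
 (.leaf []))
 (.node (.leaf [7,16])
 (.leaf []))))
 (.node (.node (.leaf [])
 (.node (.leaf [36])
 (.leaf [])))
 (.node (.leaf [])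
 (.node (.leaf [36,47])
 (.leaf []))))))
 (.node (.node (.node (.node (.leaf [])
 (.node (.leaf [0])
 (.leaf [])))
 (.leaf []))
 (.node (.node (.leaf [])
 (.node (.leaf [20,25])
 (.leaf [])))
 (.node (.leaf [])
 (.node (.leaf [10,26])
 (.leaf [])))))
 (.node (.node (.node (.node (.leaf [1])
 (.leaf [24]))
 (.leaf []))
 (.leaf []))
 (.leaf []))))
 (.node (.node (.node (.node (.leaf [])
 (.node (.node (.leaf [18])
 (.leaf []))
 (.leaf [])))
 (.node (.node (.leaf [])
 (.node (.leaf [34])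
 (.leaf [])))
 (.leaf [])))
 (.node (.node (.node (.node (.leaf [7])
 (.leaf [43]))
 (.node (.leaf [2])
 (.leaf [])))
 (.node (.node (.leaf [10,6])
 (.leaf []))
 (.leaf [])))
 (.node (.leaf [])
 (.node (.leaf [])
 (.node (.leaf [15])
 (.leaf []))))))
 (.node (.node (.node (.node (.node (.leaf [])
 (.leaf [22]))
 (.leaf []))
 (.leaf []))
 (.leaf []))
 (.node (.node (.leaf [])
 (.node (.leaf [])
 (.node (.leaf [8,21])
 (.leaf []))))
 (.node (.node (.leaf [])
 (.node (.leaf [38,42])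
 (.leaf [])))
 (.leaf [])))))))
 (.node (.node (.node (.node (.node (.node (.node (.leaf [])
 (.node (.leaf [23])
 (.leaf [])))
 (.node (.node (.leaf [33,17])
 (.leaf []))
 (.leaf [])))
 (.node (.node (.leaf [])
 (.node (.leaf [43])
 (.leaf [])))
 (.leaf [])))
 (.node (.node (.node (.node (.leaf [16])
 (.leaf [46]))
 (.node (.leaf [10,2])
 (.leaf [])))
 (.leaf []))
 (.node (.leaf [])
 (.node (.leaf [])
 (.node (.leaf [28])
 (.leaf []))))))
 (.node (.node (.node (.node (.node (.leaf [2])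
 (.leaf [35]))
 (.leaf []))
 (.node (.node (.leaf [3])
 (.leaf []))
 (.leaf [])))
 (.leaf []))
 (.node (.node (.leaf [])
 (.node (.node (.leaf [37,30])
 (.leaf []))
 (.node (.leaf [20])
 (.leaf []))))
 (.leaf []))))
 (.node (.node (.node (.node (.node (.leaf [])
 (.node (.leaf [8,0])
 (.leaf [])))
 (.node (.leaf [])
 (.node (.leaf [46])
 (.leaf []))))
 (.node (.node (.leaf [])
 (.node (.leaf [28,30])
 (.leaf [])))
 (.leaf [])))
 (.node (.node (.node (.leaf [])
 (.node (.leaf [42])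
 (.leaf [])))
 (.leaf []))
 (.node (.leaf [])
 (.node (.node (.leaf [20,17])
 (.leaf []))
 (.leaf [])))))
 (.node (.node (.node (.leaf [])
 (.node (.node (.leaf [34,22])
 (.leaf []))
 (.node (.leaf [18])
 (.leaf []))))
 (.leaf []))
 (.node (.node (.node (.node (.leaf [21])
 (.leaf []))
 (.leaf []))
 (.node (.node (.leaf [16])
 (.leaf []))
 (.leaf [])))
 (.node (.node (.leaf [])
 (.node (.leaf [32])
 (.leaf [])))
 (.node (.leaf [])
 (.node (.leaf [33,16])
 (.leaf []))))))))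
 (.node (.node (.node (.node (.leaf [])
 (.node (.node (.node (.leaf [23])
 (.leaf []))
 (.node (.leaf [11])
 (.leaf [])))
 (.leaf [])))
 (.node (.node (.node (.leaf [])
 (.node (.leaf [26])
 (.leaf [])))
 (.node (.node (.leaf [35,25])
 (.leaf []))
 (.leaf [])))
 (.node (.node (.node (.leaf [9,0])
 (.leaf []))
 (.node (.leaf [44,47])
 (.leaf [])))
 (.node (.node (.leaf [7])
 (.leaf []))
 (.leaf [])))))
 (.node (.node (.node (.node (.node (.leaf [15])
 (.leaf []))
 (.leaf []))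
 (.node (.node (.leaf [13,6])
 (.leaf []))
 (.leaf [])))
 (.leaf []))
 (.node (.node (.node (.node (.leaf [5])
 (.leaf [39,25]))
 (.leaf []))
 (.leaf []))
 (.node (.node (.leaf [])
 (.node (.leaf [14,5])
 (.leaf [])))
 (.leaf [])))))
 (.node (.node (.node (.leaf [])
 (.node (.leaf [])
 (.node (.leaf [])
 (.node (.leaf [39,47])
 (.leaf [])))))
 (.node (.node (.node (.node (.leaf [18,0])
 (.leaf []))
 (.leaf []))
 (.leaf []))
 (.leaf [])))
 (.node (.node (.node (.node (.node (.leaf [])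
 (.leaf [37,23]))
 (.leaf []))
 (.node (.leaf [])
 (.node (.leaf [35,41])
 (.leaf []))))
 (.node (.node (.leaf [])
 (.node (.leaf [13])
 (.leaf [])))
 (.leaf [])))
 (.node (.leaf [])
 (.node (.node (.leaf [])
 (.node (.leaf [45])
 (.leaf [])))
 (.node (.leaf [])
 (.node (.leaf [43])
 (.leaf []))))))))))
 (.node (.node (.node (.node (.node (.node (.leaf [])
 (.node (.node (.leaf [])
 (.node (.leaf [39,46])
 (.leaf [])))
 (.leaf [])))
 (.node (.node (.node (.node (.leaf [9,23])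
 (.leaf []))
 (.node (.leaf [6])
 (.leaf [])))
 (.node (.node (.leaf [11,5])
 (.leaf []))
 (.leaf [])))
 (.node (.node (.leaf [])
 (.node (.leaf [27,31])
 (.leaf [])))
 (.leaf []))))
 (.node (.node (.node (.node (.node (.leaf [])
 (.leaf [28,46]))
 (.leaf []))
 (.leaf []))
 (.node (.node (.node (.leaf [14,30])
 (.leaf []))
 (.leaf []))
 (.node (.node (.leaf [15])
 (.leaf []))
 (.leaf []))))
 (.node (.node (.node (.leaf [])
 (.node (.leaf [23])
 (.leaf [])))
 (.node (.leaf [])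
 (.node (.leaf [13,26])
 (.leaf []))))
 (.leaf []))))
 (.node (.node (.node (.node (.node (.node (.leaf [])
 (.leaf [41]))
 (.node (.leaf [4])
 (.leaf [])))
 (.leaf []))
 (.node (.leaf [])
 (.node (.leaf [])
 (.node (.leaf [14,31])
 (.leaf [])))))
 (.node (.node (.node (.leaf [])
 (.node (.leaf [38,45])
 (.leaf [])))
 (.leaf []))
 (.leaf [])))
 (.node (.node (.node (.leaf [])
 (.node (.node (.leaf [27])
 (.leaf []))
 (.node (.leaf [11,21])
 (.leaf []))))
 (.node (.leaf [])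
 (.node (.leaf [])
 (.node (.leaf [37,46])
 (.leaf [])))))
 (.node (.node (.node (.node (.leaf [])
 (.leaf [45]))
 (.leaf []))
 (.node (.leaf [])
 (.node (.leaf [44])
 (.leaf []))))
 (.node (.leaf [])
 (.node (.node (.leaf [35])
 (.leaf []))
 (.leaf [])))))))
 (.node (.node (.node (.node (.node (.node (.node (.leaf [])
 (.leaf [25]))
 (.leaf []))
 (.node (.leaf [])
 (.node (.leaf [30])
 (.leaf []))))
 (.leaf []))
 (.node (.node (.node (.leaf [])
 (.node (.leaf [22])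
 (.leaf [])))
 (.node (.node (.leaf [28])
 (.leaf []))
 (.leaf [])))
 (.node (.node (.leaf [])
 (.node (.leaf [40])
 (.leaf [])))
 (.node (.node (.leaf [3,1])
 (.leaf []))
 (.leaf [])))))
 (.node (.node (.node (.node (.node (.leaf [8,21])
 (.leaf []))
 (.leaf []))
 (.leaf []))
 (.node (.leaf [])
 (.node (.node (.leaf [33,41])
 (.leaf []))
 (.leaf []))))
 (.node (.node (.node (.node (.leaf [])
 (.leaf [32]))
 (.leaf []))
 (.node (.node (.leaf [0])
 (.leaf []))
 (.node (.leaf [34,42])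
 (.leaf []))))
 (.node (.leaf [])
 (.node (.node (.leaf [18,16])
 (.leaf []))
 (.leaf []))))))
 (.node (.node (.node (.node (.leaf [])
 (.node (.leaf [])
 (.node (.leaf [9,16])
 (.leaf []))))
 (.node (.node (.node (.leaf [4])
 (.leaf []))
 (.leaf []))
 (.node (.node (.leaf [2])
 (.leaf []))
 (.leaf []))))
 (.node (.node (.node (.node (.leaf [11])
 (.leaf []))
 (.leaf []))
 (.leaf []))
 (.node (.leaf [])
 (.node (.node (.leaf [34])
 (.leaf []))
 (.node (.leaf [23])
 (.leaf []))))))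
 (.node (.node (.node (.node (.node (.leaf [0])
 (.leaf [30]))
 (.leaf []))
 (.leaf []))
 (.node (.node (.node (.leaf [18])
 (.leaf []))
 (.leaf []))
 (.leaf [])))
 (.node (.leaf [])
 (.node (.node (.node (.leaf [8,1])
 (.leaf []))
 (.leaf []))
 (.leaf [])))))))
 (.node (.node (.node (.node (.node (.node (.node (.leaf [])
 (.node (.leaf [27,31])
 (.leaf [])))
 (.node (.node (.leaf [38,24])
 (.leaf []))
 (.leaf [])))
 (.node (.node (.leaf [])
 (.node (.leaf [47])
 (.leaf [])))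
 (.node (.leaf [])
 (.node (.leaf [40])
 (.leaf [])))))
 (.node (.leaf [])
 (.node (.node (.node (.leaf [3])
 (.leaf []))
 (.leaf []))
 (.leaf []))))
 (.node (.node (.node (.node (.node (.leaf [])
 (.leaf [39]))
 (.leaf []))
 (.node (.leaf [])
 (.node (.leaf [36])
 (.leaf []))))
 (.node (.node (.node (.leaf [31])
 (.leaf []))
 (.leaf []))
 (.leaf [])))
 (.node (.leaf [])
 (.node (.node (.node (.leaf [13])
 (.leaf []))
 (.leaf []))
 (.node (.leaf [])
 (.node (.leaf [44,47])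
 (.leaf [])))))))
 (.node (.node (.node (.node (.node (.node (.leaf [21])
 (.leaf []))
 (.node (.leaf [12,6])
 (.leaf [])))
 (.node (.node (.leaf [14])
 (.leaf []))
 (.leaf [])))
 (.node (.leaf [])
 (.node (.node (.leaf [41])
 (.leaf []))
 (.node (.leaf [29])
 (.leaf [])))))
 (.node (.node (.leaf [])
 (.node (.leaf [])
 (.node (.leaf [39])
 (.leaf []))))
 (.leaf [])))
 (.node (.node (.node (.node (.leaf [])
 (.node (.leaf [28,32])
 (.leaf [])))
 (.leaf []))
 (.node (.node (.node (.leaf [10])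
 (.leaf []))
 (.leaf []))
 (.node (.node (.leaf [9])
 (.leaf []))
 (.leaf []))))
 (.node (.node (.leaf [])
 (.node (.node (.leaf [19,24])
 (.leaf []))
 (.leaf [])))
 (.node (.leaf [])
 (.node (.node (.leaf [44,43])
 (.leaf []))
 (.node (.leaf [36,26])
 (.leaf []))))))))
 (.node (.node (.node (.node (.node (.node (.node (.leaf [3,6])
 (.leaf []))
 (.leaf []))
 (.leaf []))
 (.node (.node (.node (.leaf [30])
 (.leaf []))
 (.node (.leaf [14])
 (.leaf [])))
 (.node (.node (.leaf [20,26])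
 (.leaf []))
 (.leaf []))))
 (.node (.node (.leaf [])
 (.node (.node (.leaf [40,32])
 (.leaf []))
 (.leaf [])))
 (.node (.node (.node (.leaf [12])
 (.leaf []))
 (.leaf []))
 (.node (.node (.leaf [10])
 (.leaf []))
 (.leaf [])))))
 (.node (.node (.node (.node (.node (.leaf [22])
 (.leaf []))
 (.leaf []))
 (.leaf []))
 (.node (.leaf [])
 (.node (.node (.leaf [42])
 (.leaf []))
 (.leaf []))))
 (.node (.node (.node (.leaf [])
 (.node (.leaf [46])
 (.leaf [])))
 (.node (.node (.leaf [7,2])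
 (.leaf []))
 (.leaf [])))
 (.node (.node (.node (.leaf [37,23])
 (.leaf []))
 (.leaf []))
 (.leaf [])))))
 (.node (.node (.node (.node (.leaf [])
 (.node (.leaf [])
 (.node (.leaf [20])
 (.leaf []))))
 (.leaf []))
 (.node (.node (.node (.node (.leaf [27,4])
 (.leaf []))
 (.leaf []))
 (.leaf []))
 (.node (.leaf [])
 (.node (.leaf [])
 (.node (.leaf [35,25])
 (.leaf []))))))
 (.node (.node (.node (.node (.node (.leaf [])
 (.leaf [40,32]))
 (.leaf []))
 (.node (.leaf [])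
 (.node (.leaf [38])
 (.leaf []))))
 (.node (.node (.node (.leaf [34,15])
 (.leaf []))
 (.leaf []))
 (.leaf [])))
 (.node (.node (.leaf [])
 (.node (.leaf [])
 (.node (.leaf [28])
 (.leaf []))))
 (.node (.leaf [])
 (.node (.node (.leaf [11,5])
 (.leaf []))
 (.leaf []))))))))))
 (.node (.node (.node (.node (.node (.node (.node (.node (.leaf [])
 (.node (.node (.leaf [20])
 (.leaf []))
 (.leaf [])))
 (.node (.node (.node (.leaf [3,1])
 (.leaf []))
 (.leaf []))
 (.node (.leaf [])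
 (.node (.leaf [34])
 (.leaf [])))))
 (.node (.node (.leaf [])
 (.node (.node (.leaf [10])
 (.leaf []))
 (.leaf [])))
 (.node (.leaf [])
 (.node (.leaf [])
 (.node (.leaf [14])
 (.leaf []))))))
 (.node (.node (.node (.node (.leaf [])
 (.node (.leaf [34,41])
 (.leaf [])))
 (.leaf []))
 (.node (.node (.node (.leaf [13,25])
 (.leaf []))
 (.leaf []))
 (.node (.leaf [])
 (.node (.leaf [44])
 (.leaf [])))))
 (.node (.node (.node (.leaf [])
 (.node (.leaf [20,17])
 (.leaf [])))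
 (.node (.node (.leaf [28])
 (.leaf []))
 (.node (.leaf [10])
 (.leaf []))))
 (.node (.node (.node (.leaf [7])
 (.leaf []))
 (.leaf []))
 (.leaf [])))))
 (.node (.node (.node (.node (.leaf [])
 (.node (.node (.leaf [8])
 (.leaf []))
 (.leaf [])))
 (.node (.leaf [])
 (.node (.leaf [])
 (.node (.leaf [12])
 (.leaf [])))))
 (.node (.node (.node (.node (.leaf [])
 (.leaf [28,5]))
 (.node (.leaf [36,43])
 (.leaf [])))
 (.node (.leaf [])
 (.node (.leaf [33])
 (.leaf []))))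
 (.node (.node (.node (.leaf [18])
 (.leaf []))
 (.leaf []))
 (.leaf []))))
 (.node (.node (.node (.node (.leaf [])
 (.node (.leaf [18,15])
 (.leaf [])))
 (.node (.leaf [])
 (.node (.leaf [8])
 (.leaf []))))
 (.node (.leaf [])
 (.node (.leaf [])
 (.node (.leaf [36])
 (.leaf [])))))
 (.node (.node (.node (.node (.leaf [11,23])
 (.leaf []))
 (.leaf []))
 (.leaf []))
 (.node (.leaf [])
 (.node (.leaf [])
 (.node (.leaf [19,1])
 (.leaf []))))))))
 (.node (.node (.node (.node (.node (.node (.node (.leaf [])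
 (.leaf [20,2]))
 (.leaf []))
 (.node (.leaf [])
 (.node (.leaf [29,24])
 (.leaf []))))
 (.leaf []))
 (.node (.node (.leaf [])
 (.node (.leaf [])
 (.node (.leaf [9])
 (.leaf []))))
 (.node (.node (.leaf [])
 (.node (.leaf [39])
 (.leaf [])))
 (.node (.leaf [])
 (.node (.leaf [38])
 (.leaf []))))))
 (.node (.node (.node (.node (.node (.leaf [7,16])
 (.leaf []))
 (.leaf []))
 (.leaf []))
 (.node (.leaf [])
 (.node (.leaf [])
 (.node (.leaf [13])
 (.leaf [])))))
 (.node (.node (.node (.node (.leaf [])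
 (.leaf [29,6]))
 (.leaf []))
 (.leaf []))
 (.leaf []))))
 (.node (.node (.node (.node (.leaf [])
 (.node (.leaf [])
 (.node (.leaf [7])
 (.leaf []))))
 (.node (.node (.leaf [])
 (.node (.leaf [37])
 (.leaf [])))
 (.leaf [])))
 (.node (.node (.node (.node (.leaf [9])
 (.leaf [44,42]))
 (.leaf []))
 (.node (.node (.leaf [12])
 (.leaf []))
 (.leaf [])))
 (.node (.node (.leaf [])
 (.node (.leaf [27,22])
 (.leaf [])))
 (.node (.node (.leaf [33])
 (.leaf []))
 (.node (.leaf [18,0])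
 (.leaf []))))))
 (.node (.node (.node (.node (.node (.leaf [])
 (.leaf [27,4]))
 (.leaf []))
 (.leaf []))
 (.leaf []))
 (.node (.node (.leaf [])
 (.node (.leaf [])
 (.node (.leaf [11])
 (.leaf []))))
 (.node (.node (.leaf [])
 (.node (.leaf [40,46])
 (.leaf [])))
 (.leaf [])))))))
 (.node (.node (.node (.node (.leaf [])
 (.node (.node (.node (.leaf [])
 (.node (.leaf [12,4])
 (.leaf [])))
 (.node (.node (.leaf [14])
 (.leaf []))
 (.leaf [])))
 (.leaf [])))
 (.node (.node (.node (.node (.node (.leaf [])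
 (.leaf [37]))
 (.node (.leaf [42])
 (.leaf [])))
 (.node (.leaf [])
 (.node (.leaf [34])
 (.leaf []))))
 (.node (.node (.node (.leaf [26])
 (.leaf []))
 (.leaf []))
 (.node (.node (.leaf [19,22])
 (.leaf []))
 (.leaf []))))
 (.node (.node (.node (.leaf [])
 (.node (.leaf [28,30])
 (.leaf [])))
 (.node (.node (.leaf [39,32])
 (.leaf []))
 (.leaf [])))
 (.node (.node (.node (.leaf [11])
 (.leaf []))
 (.node (.leaf [46])
 (.leaf [])))
 (.node (.node (.leaf [9])
 (.leaf []))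
 (.leaf []))))))
 (.node (.node (.node (.node (.node (.node (.leaf [16])
 (.leaf [44,45]))
 (.leaf []))
 (.leaf []))
 (.node (.leaf [])
 (.node (.leaf [])
 (.node (.leaf [27])
 (.leaf [])))))
 (.node (.node (.leaf [])
 (.node (.leaf [])
 (.node (.leaf [37])
 (.leaf []))))
 (.node (.node (.node (.leaf [33,15])
 (.leaf []))
 (.leaf []))
 (.leaf []))))
 (.node (.node (.node (.leaf [])
 (.node (.node (.leaf [36,24])
 (.leaf []))
 (.leaf [])))
 (.node (.node (.node (.leaf [8])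
 (.leaf []))
 (.leaf []))
 (.node (.leaf [])
 (.node (.leaf [40])
 (.leaf [])))))
 (.node (.node (.node (.leaf [])
 (.node (.leaf [13,5])
 (.leaf [])))
 (.leaf []))
 (.node (.node (.node (.leaf [3])
 (.leaf []))
 (.leaf []))
 (.node (.leaf [])
 (.node (.leaf [34,21])
 (.leaf []))))))))
 (.node (.node (.node (.node (.node (.node (.node (.leaf [])
 (.leaf [35,23]))
 (.node (.leaf [41])
 (.leaf [])))
 (.leaf []))
 (.node (.node (.node (.leaf [25])
 (.leaf []))
 (.leaf []))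
 (.node (.node (.leaf [18,21])
 (.leaf []))
 (.leaf []))))
 (.node (.leaf [])
 (.node (.leaf [])
 (.node (.node (.leaf [8])
 (.leaf []))
 (.leaf [])))))
 (.node (.node (.node (.node (.node (.leaf [17])
 (.leaf []))
 (.leaf []))
 (.leaf []))
 (.node (.leaf [])
 (.node (.leaf [])
 (.node (.leaf [28])
 (.leaf [])))))
 (.node (.node (.node (.node (.leaf [])
 (.leaf [40,30]))
 (.leaf []))
 (.node (.leaf [])
 (.node (.leaf [38])
 (.leaf []))))
 (.leaf []))))
 (.node (.node (.node (.node (.leaf [])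
 (.node (.node (.leaf [35,23])
 (.leaf []))
 (.node (.leaf [18])
 (.leaf []))))
 (.node (.node (.leaf [])
 (.node (.leaf [44,45])
 (.leaf [])))
 (.node (.node (.leaf [7,0])
 (.leaf []))
 (.leaf []))))
 (.node (.node (.node (.node (.leaf [20,2])
 (.leaf []))
 (.leaf []))
 (.leaf []))
 (.leaf [])))
 (.node (.node (.node (.node (.node (.leaf [3,4])
 (.leaf []))
 (.leaf []))
 (.leaf []))
 (.node (.node (.leaf [])
 (.node (.leaf [14])
 (.leaf [])))
 (.leaf [])))
 (.node (.node (.node (.leaf [])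
 (.node (.leaf [29,31])
 (.leaf [])))
 (.leaf []))
 (.node (.node (.node (.leaf [12])
 (.leaf []))
 (.node (.leaf [47])
 (.leaf [])))
 (.leaf []))))))))
 (.node (.node (.node (.node (.node (.node (.node (.leaf [])
 (.node (.leaf [])
 (.node (.leaf [13,2])
 (.leaf []))))
 (.leaf []))
 (.node (.node (.leaf [])
 (.node (.leaf [])
 (.node (.leaf [44])
 (.leaf []))))
 (.node (.node (.leaf [])
 (.node (.leaf [28,32])
 (.leaf [])))
 (.node (.node (.leaf [35])
 (.leaf []))
 (.leaf [])))))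
 (.node (.node (.node (.node (.node (.leaf [0])
 (.leaf [33]))
 (.node (.leaf [38,47])
 (.leaf [])))
 (.leaf []))
 (.node (.node (.leaf [])
 (.node (.leaf [9])
 (.leaf [])))
 (.node (.node (.leaf [16])
 (.leaf []))
 (.leaf []))))
 (.leaf [])))
 (.node (.node (.node (.node (.node (.node (.leaf [9,25])
 (.leaf []))
 (.leaf []))
 (.leaf []))
 (.node (.leaf [])
 (.node (.leaf [])
 (.node (.leaf [19])
 (.leaf [])))))
 (.node (.node (.node (.node (.leaf [])
 (.leaf [35,16]))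
 (.leaf []))
 (.node (.node (.leaf [3])
 (.leaf []))
 (.leaf [])))
 (.node (.node (.leaf [])
 (.node (.leaf [11,0])
 (.leaf [])))
 (.node (.node (.leaf [18,15])
 (.leaf []))
 (.leaf [])))))
 (.node (.node (.node (.leaf [])
 (.node (.node (.leaf [29])
 (.leaf []))
 (.leaf [])))
 (.leaf []))
 (.node (.node (.node (.node (.leaf [14,32])
 (.leaf [46]))
 (.leaf []))
 (.leaf []))
 (.node (.node (.leaf [])
 (.node (.leaf [30])
 (.leaf [])))
 (.leaf []))))))
 (.node (.node (.node (.node (.node (.node (.leaf [])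
 (.node (.leaf [37,46])
 (.leaf [])))
 (.leaf []))
 (.node (.node (.leaf [])
 (.node (.leaf [8])
 (.leaf [])))
 (.leaf [])))
 (.leaf []))
 (.node (.node (.node (.node (.node (.leaf [10,26])
 (.leaf []))
 (.leaf []))
 (.node (.node (.leaf [11,4])
 (.leaf []))
 (.leaf [])))
 (.node (.leaf [])
 (.node (.leaf [])
 (.node (.leaf [20])
 (.leaf [])))))
 (.node (.node (.node (.node (.leaf [])
 (.leaf [36,17]))
 (.leaf []))
 (.node (.leaf [])
 (.node (.leaf [35,43])
 (.leaf []))))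
 (.node (.node (.leaf [])
 (.node (.leaf [12,1])
 (.leaf [])))
 (.leaf [])))))
 (.node (.node (.node (.node (.node (.leaf [])
 (.node (.leaf [21])
 (.leaf [])))
 (.node (.node (.leaf [28])
 (.leaf []))
 (.leaf [])))
 (.node (.node (.node (.leaf [5])
 (.leaf []))
 (.node (.leaf [40])
 (.leaf [])))
 (.node (.leaf [])
 (.node (.leaf [37,45])
 (.leaf [])))))
 (.node (.node (.node (.node (.leaf [13])
 (.leaf []))
 (.leaf []))
 (.leaf []))
 (.node (.leaf [])
 (.node (.node (.leaf [36])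
 (.leaf []))
 (.leaf [])))))
 (.node (.node (.node (.node (.node (.leaf [])
 (.leaf [34,15]))
 (.leaf []))
 (.leaf []))
 (.node (.node (.node (.leaf [20])
 (.leaf []))
 (.node (.leaf [10])
 (.leaf [])))
 (.leaf [])))
 (.node (.node (.node (.leaf [])
 (.node (.leaf [25])
 (.leaf [])))
 (.node (.node (.leaf [33,43])
 (.leaf []))
 (.node (.leaf [18])
 (.leaf []))))
 (.node (.node (.node (.leaf [9,2])
 (.leaf []))
 (.leaf []))
 (.node (.leaf [])
 (.node (.leaf [41])
 (.leaf [])))))))))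
 (.node (.node (.node (.node (.leaf [])
 (.node (.node (.node (.node (.leaf [26])
 (.leaf []))
 (.leaf []))
 (.leaf []))
 (.node (.leaf [])
 (.node (.node (.leaf [44,41])
 (.leaf []))
 (.node (.leaf [34,45])
 (.leaf []))))))
 (.node (.node (.node (.leaf [])
 (.node (.leaf [])
 (.node (.leaf [38,42])
 (.leaf []))))
 (.node (.node (.leaf [])
 (.node (.leaf [18,23])
 (.leaf [])))
 (.node (.node (.leaf [24])
 (.leaf []))
 (.leaf []))))
 (.node (.node (.node (.leaf [])
 (.node (.leaf [32])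
 (.leaf [])))
 (.leaf []))
 (.node (.node (.node (.leaf [14,5])
 (.leaf []))
 (.leaf []))
 (.node (.leaf [])
 (.node (.leaf [45])
 (.leaf [])))))))
 (.node (.node (.node (.node (.node (.node (.leaf [])
 (.leaf [47]))
 (.leaf []))
 (.leaf []))
 (.node (.node (.node (.leaf [1])
 (.leaf []))
 (.leaf []))
 (.node (.node (.leaf [43])
 (.leaf []))
 (.leaf []))))
 (.node (.node (.node (.node (.leaf [])
 (.leaf [41]))
 (.leaf []))
 (.node (.node (.leaf [8,4])
 (.leaf []))
 (.node (.leaf [40,46])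
 (.leaf []))))
 (.node (.node (.node (.leaf [38,22])
 (.leaf []))
 (.node (.leaf [21])
 (.leaf [])))
 (.leaf []))))
 (.node (.node (.node (.node (.leaf [])
 (.node (.leaf [30])
 (.leaf [])))
 (.leaf []))
 (.node (.node (.node (.leaf [12,1])
 (.leaf []))
 (.leaf []))
 (.leaf [])))
 (.node (.node (.node (.node (.leaf [31])
 (.leaf []))
 (.node (.leaf [17])
 (.leaf [])))
 (.node (.node (.leaf [22])
 (.leaf []))
 (.leaf [])))
 (.leaf [])))))
 (.node (.node (.node (.node (.node (.node (.node (.leaf [4])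
 (.leaf []))
 (.node (.leaf [45])
 (.leaf [])))
 (.leaf []))
 (.node (.node (.node (.leaf [32])
 (.leaf []))
 (.leaf []))
 (.leaf [])))
 (.leaf []))
 (.node (.node (.node (.node (.node (.leaf [24])
 (.leaf []))
 (.leaf []))
 (.leaf []))
 (.node (.leaf [])
 (.node (.leaf [])
 (.node (.leaf [33,43])
 (.leaf [])))))
 (.node (.node (.node (.node (.leaf [])
 (.leaf [42]))
 (.leaf []))
 (.leaf []))
 (.node (.node (.node (.leaf [39,25])
 (.leaf []))
 (.node (.leaf [22])
 (.leaf [])))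
 (.node (.node (.leaf [29,26])
 (.leaf []))
 (.leaf []))))))
 (.node (.node (.node (.node (.leaf [])
 (.node (.node (.leaf [40,30])
 (.leaf []))
 (.leaf [])))
 (.leaf []))
 (.node (.node (.node (.node (.leaf [29,6])
 (.leaf []))
 (.node (.leaf [16])
 (.leaf [])))
 (.leaf []))
 (.leaf [])))
 (.node (.node (.node (.node (.node (.leaf [6])
 (.leaf []))
 (.node (.leaf [46])
 (.leaf [])))
 (.node (.node (.leaf [7,2])
 (.leaf []))
 (.leaf [])))
 (.node (.node (.node (.leaf [36,17])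
 (.leaf []))
 (.node (.leaf [19,24])
 (.leaf [])))
 (.node (.node (.leaf [27,21])
 (.leaf []))
 (.leaf []))))
 (.node (.node (.node (.node (.leaf [0])
 (.leaf []))
 (.leaf []))
 (.node (.node (.leaf [42])
 (.leaf []))
 (.leaf [])))
 (.leaf []))))))))))

/-- The words of the rules. -/
def wTab (r s : ℕ) : List ℕ := wTree.get (uid r s)

/-- The error terms in the basis. -/
def tTree : BTree (List (ℕ × ℤ)) :=
 (.node (.node (.node (.node (.node (.node (.node (.node (.node (.node (.node (.node (.leaf [])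
 (.leaf [(2,1),(4,1),(15,-1),(36,-1),(39,1)]))
 (.node (.leaf [])
 (.leaf [])))
 (.node (.node (.leaf [])
 (.leaf []))
 (.node (.leaf [(4,1)])
 (.leaf []))))
 (.node (.node (.node (.leaf [])
 (.leaf [(14,-2)]))
 (.node (.leaf [])
 (.leaf [])))
 (.node (.node (.leaf [])
 (.leaf []))
 (.node (.leaf [])
 (.leaf [])))))
 (.node (.node (.node (.node (.leaf [])
 (.leaf [(11,1),(14,1),(31,-1)]))
 (.node (.leaf [(0,1)])
 (.leaf [])))
 (.node (.node (.leaf [])
 (.leaf []))
 (.node (.leaf [(3,1),(8,-1),(10,-1),(16,1),(26,-1),(27,1),(34,-1),(37,1),(47,1)])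
 (.leaf []))))
 (.node (.node (.node (.leaf [])
 (.leaf []))
 (.node (.leaf [(1,-1),(18,1),(21,1),(23,-1),(33,1)])
 (.leaf [])))
 (.node (.node (.leaf [(4,-1),(13,1),(35,1)])
 (.leaf []))
 (.node (.leaf [(8,1)])
 (.leaf []))))))
 (.node (.node (.node (.node (.node (.leaf [])
 (.leaf [(11,1)]))
 (.node (.leaf [(10,1),(16,-1),(19,1),(26,1),(28,-1)])
 (.leaf [])))
 (.node (.node (.leaf [])
 (.leaf []))
 (.node (.leaf [])
 (.leaf []))))
 (.node (.node (.node (.leaf [])
 (.leaf []))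
 (.node (.leaf [])
 (.leaf [])))
 (.node (.node (.leaf [])
 (.leaf []))
 (.node (.leaf [])
 (.leaf [])))))
 (.node (.node (.node (.node (.leaf [])
 (.leaf []))
 (.node (.leaf [])
 (.leaf [])))
 (.node (.node (.leaf [])
 (.leaf []))
 (.node (.leaf [(5,1)])
 (.leaf []))))
 (.node (.node (.node (.leaf [])
 (.leaf []))
 (.node (.leaf [])
 (.leaf [])))
 (.node (.node (.leaf [])
 (.leaf []))
 (.node (.leaf [])
 (.leaf [])))))))
 (.node (.node (.node (.node (.node (.node (.leaf [(4,1)])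
 (.leaf []))
 (.node (.leaf [])
 (.leaf [])))
 (.node (.node (.leaf [])
 (.leaf []))
 (.leaf [])))
 (.node (.node (.node (.leaf [])
 (.leaf [(24,-2),(29,2)]))
 (.node (.leaf [(12,1),(14,-1),(31,1)])
 (.leaf [])))
 (.node (.node (.leaf [(7,1),(13,1),(22,-1)])
 (.leaf []))
 (.node (.leaf [(6,1)])
 (.leaf [])))))
 (.node (.node (.node (.node (.leaf [])
 (.leaf [(13,1)]))
 (.node (.leaf [])
 (.leaf [])))
 (.node (.node (.leaf [])
 (.leaf []))
 (.node (.leaf [])
 (.leaf []))))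
 (.node (.node (.node (.leaf [(3,1),(10,-1),(16,1),(26,-1),(30,1)])
 (.leaf []))
 (.node (.leaf [])
 (.leaf [])))
 (.node (.node (.leaf [])
 (.leaf []))
 (.node (.leaf [])
 (.leaf []))))))
 (.node (.node (.node (.node (.node (.leaf [])
 (.leaf []))
 (.node (.leaf [])
 (.leaf [])))
 (.node (.node (.leaf [])
 (.leaf []))
 (.node (.leaf [])
 (.leaf []))))
 (.node (.node (.node (.leaf [])
 (.leaf []))
 (.node (.leaf [])
 (.leaf [])))
 (.node (.node (.leaf [])
 (.leaf []))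
 (.node (.leaf [])
 (.leaf [])))))
 (.node (.node (.node (.node (.leaf [])
 (.leaf [(1,1),(25,1),(33,-1)]))
 (.node (.leaf [(1,1)])
 (.leaf [])))
 (.node (.node (.leaf [])
 (.leaf []))
 (.node (.leaf [])
 (.leaf []))))
 (.node (.node (.node (.leaf [])
 (.leaf []))
 (.leaf []))
 (.node (.node (.leaf [])
 (.leaf []))
 (.node (.leaf [(9,1)])
 (.leaf []))))))))
 (.node (.node (.node (.node (.node (.node (.node (.leaf [])
 (.leaf [(10,1)]))
 (.node (.leaf [(8,1),(10,1),(16,-1),(26,1),(27,-1)])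
 (.leaf [])))
 (.node (.node (.leaf [])
 (.leaf []))
 (.node (.leaf [(7,1),(13,1),(22,-1)])
 (.leaf []))))
 (.node (.node (.node (.leaf [])
 (.leaf [(10,-2)]))
 (.node (.leaf [])
 (.leaf [])))
 (.node (.leaf [])
 (.node (.leaf [])
 (.leaf [])))))
 (.node (.node (.node (.node (.leaf [])
 (.leaf []))
 (.node (.leaf [(5,1),(10,1),(16,-1)])
 (.leaf [])))
 (.node (.node (.leaf [])
 (.leaf []))
 (.node (.leaf [])
 (.leaf []))))
 (.node (.node (.node (.leaf [])
 (.leaf []))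
 (.node (.leaf [])
 (.leaf [])))
 (.node (.node (.leaf [])
 (.leaf []))
 (.node (.leaf [(4,1),(10,-1),(35,-1),(38,1),(42,1)])
 (.leaf []))))))
 (.node (.node (.node (.node (.node (.leaf [(2,1),(4,1),(15,-1)])
 (.leaf []))
 (.node (.leaf [])
 (.leaf [])))
 (.node (.node (.leaf [(0,1),(10,-1),(16,1)])
 (.leaf []))
 (.node (.leaf [(1,1),(7,-1),(13,-1),(22,1),(25,1),(33,-1),(46,1)])
 (.leaf []))))
 (.node (.node (.node (.leaf [])
 (.leaf []))
 (.node (.leaf [])
 (.leaf [])))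
 (.node (.node (.leaf [(18,1),(21,1),(23,-1)])
 (.leaf []))
 (.node (.leaf [(7,1)])
 (.leaf [])))))
 (.node (.node (.node (.node (.leaf [(14,1)])
 (.leaf []))
 (.node (.leaf [])
 (.leaf [])))
 (.node (.node (.leaf [])
 (.leaf []))
 (.node (.leaf [])
 (.leaf []))))
 (.node (.node (.node (.leaf [])
 (.leaf []))
 (.node (.leaf [(3,1)])
 (.leaf [])))
 (.node (.node (.leaf [])
 (.leaf []))
 (.node (.leaf [(4,1),(35,-1),(38,1)])
 (.leaf [])))))))
 (.node (.node (.node (.node (.node (.node (.leaf [])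
 (.leaf []))
 (.node (.leaf [(9,1)])
 (.leaf [])))
 (.node (.node (.leaf [])
 (.leaf []))
 (.node (.leaf [])
 (.leaf []))))
 (.node (.node (.node (.leaf [(1,1)])
 (.leaf []))
 (.node (.leaf [])
 (.leaf [])))
 (.node (.node (.leaf [])
 (.leaf []))
 (.node (.leaf [(0,1),(10,-1),(16,1),(20,1),(26,-1),(32,-1),(40,1)])
 (.leaf [])))))
 (.node (.node (.node (.node (.leaf [])
 (.leaf []))
 (.node (.leaf [])
 (.leaf [])))
 (.node (.node (.leaf [(4,1),(13,-1),(22,1)])
 (.leaf []))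
 (.node (.leaf [])
 (.leaf []))))
 (.node (.node (.node (.leaf [])
 (.leaf []))
 (.node (.leaf [(13,1)])
 (.leaf [])))
 (.node (.node (.leaf [(2,-1),(4,-1),(15,1),(21,1),(36,1)])
 (.leaf []))
 (.node (.leaf [])
 (.leaf []))))))
 (.node (.node (.node (.node (.node (.leaf [])
 (.leaf [(12,1)]))
 (.node (.leaf [])
 (.leaf [])))
 (.node (.node (.leaf [])
 (.leaf []))
 (.node (.leaf [])
 (.leaf []))))
 (.node (.node (.node (.leaf [(1,1),(10,-1),(16,1),(26,-1),(29,1)])
 (.leaf []))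
 (.node (.leaf [(2,1)])
 (.leaf [])))
 (.node (.node (.leaf [])
 (.leaf []))
 (.node (.leaf [])
 (.leaf [])))))
 (.node (.node (.node (.node (.leaf [])
 (.leaf []))
 (.node (.leaf [])
 (.leaf [])))
 (.node (.leaf [])
 (.node (.leaf [])
 (.leaf []))))
 (.node (.node (.node (.leaf [])
 (.leaf []))
 (.node (.leaf [])
 (.leaf [])))
 (.node (.node (.leaf [])
 (.leaf []))
 (.node (.leaf [])
 (.leaf [])))))))))
 (.node (.node (.node (.node (.node (.node (.node (.node (.leaf [])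
 (.leaf []))
 (.node (.leaf [(6,1),(12,1),(17,-1)])
 (.leaf [])))
 (.node (.node (.leaf [(2,-1),(4,-1),(10,1),(15,1),(16,-1),(26,1),(36,1)])
 (.leaf []))
 (.node (.leaf [(3,1),(10,-1),(16,1),(26,-1),(30,1)])
 (.leaf []))))
 (.node (.node (.node (.leaf [(2,1),(4,1),(15,-1)])
 (.leaf [(12,2),(17,-2)]))
 (.node (.leaf [])
 (.leaf [])))
 (.node (.node (.leaf [])
 (.leaf []))
 (.node (.leaf [(3,1),(6,-1),(12,-1),(17,1),(34,-1),(37,1),(45,1)])
 (.leaf [])))))
 (.node (.node (.node (.node (.leaf [(24,1)])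
 (.leaf []))
 (.node (.leaf [])
 (.leaf [])))
 (.node (.node (.leaf [])
 (.leaf []))
 (.node (.leaf [])
 (.leaf []))))
 (.node (.node (.leaf [])
 (.node (.leaf [])
 (.leaf [])))
 (.node (.node (.leaf [(10,1),(12,-1),(16,-1),(26,1),(44,1)])
 (.leaf []))
 (.node (.leaf [(3,-1),(10,1),(16,-1),(26,1),(34,1)])
 (.leaf []))))))
 (.node (.node (.node (.node (.node (.leaf [])
 (.leaf [(9,-1),(10,1),(16,-1),(26,1),(41,1)]))
 (.node (.leaf [])
 (.leaf [])))
 (.node (.node (.leaf [])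
 (.leaf []))
 (.node (.leaf [])
 (.leaf []))))
 (.node (.node (.node (.leaf [])
 (.leaf []))
 (.node (.leaf [(27,1)])
 (.leaf [])))
 (.node (.node (.leaf [])
 (.leaf []))
 (.node (.leaf [])
 (.leaf [])))))
 (.node (.node (.node (.node (.leaf [])
 (.leaf []))
 (.node (.leaf [(18,1),(21,1),(23,-1)])
 (.leaf [])))
 (.node (.node (.leaf [])
 (.leaf []))
 (.node (.leaf [(0,-1),(10,1),(16,-1),(26,1),(32,1)])
 (.leaf []))))
 (.node (.node (.node (.leaf [(1,1),(21,-1),(23,1)])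
 (.leaf []))
 (.node (.leaf [])
 (.leaf [])))
 (.node (.node (.leaf [(26,1)])
 (.leaf []))
 (.node (.leaf [(0,1),(20,1),(32,-1)])
 (.leaf [])))))))
 (.node (.node (.node (.node (.node (.node (.leaf [(8,1)])
 (.leaf []))
 (.node (.leaf [])
 (.leaf [])))
 (.node (.node (.leaf [(3,1),(10,-1),(16,1),(26,-1),(28,1)])
 (.leaf []))
 (.node (.leaf [])
 (.leaf []))))
 (.node (.node (.node (.leaf [])
 (.leaf [(8,2),(27,-2),(47,-2)]))
 (.node (.leaf [])
 (.leaf [])))
 (.node (.node (.leaf [(4,1),(10,-1),(35,-1),(38,1),(42,1)])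
 (.leaf []))
 (.node (.leaf [])
 (.leaf [])))))
 (.node (.node (.node (.node (.leaf [])
 (.leaf [(44,1)]))
 (.node (.leaf [])
 (.leaf [])))
 (.node (.node (.leaf [])
 (.leaf []))
 (.node (.leaf [(1,1),(5,-1),(10,-1),(16,1),(25,1),(33,-1),(43,1)])
 (.leaf []))))
 (.node (.node (.node (.leaf [(3,-1),(10,1),(16,-1),(26,1),(34,1)])
 (.leaf []))
 (.node (.leaf [])
 (.leaf [])))
 (.node (.node (.leaf [])
 (.leaf []))
 (.leaf [])))))
 (.node (.node (.node (.node (.node (.leaf [])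
 (.leaf []))
 (.leaf []))
 (.node (.node (.leaf [])
 (.leaf []))
 (.node (.leaf [])
 (.leaf []))))
 (.node (.node (.node (.leaf [])
 (.leaf []))
 (.node (.leaf [])
 (.leaf [])))
 (.node (.node (.leaf [])
 (.leaf []))
 (.node (.leaf [])
 (.leaf [])))))
 (.node (.node (.node (.node (.leaf [])
 (.leaf []))
 (.node (.leaf [(0,1),(21,-1),(23,1)])
 (.leaf [])))
 (.node (.node (.leaf [])
 (.leaf []))
 (.node (.leaf [])
 (.leaf []))))
 (.node (.node (.node (.leaf [])
 (.leaf []))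
 (.node (.leaf [])
 (.leaf [])))
 (.node (.node (.leaf [(7,-1),(10,1),(13,-1),(16,-1),(22,1),(26,1),(46,1)])
 (.leaf []))
 (.node (.leaf [])
 (.leaf []))))))))
 (.node (.node (.node (.node (.node (.node (.node (.leaf [(0,1)])
 (.leaf [(9,1),(10,-1),(16,1),(26,-1),(40,1)]))
 (.node (.leaf [])
 (.leaf [])))
 (.node (.node (.leaf [])
 (.leaf []))
 (.node (.leaf [])
 (.leaf []))))
 (.node (.node (.node (.leaf [])
 (.leaf [(21,-2)]))
 (.node (.leaf [])
 (.leaf [])))
 (.node (.node (.leaf [(5,1),(10,1),(16,-1)])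
 (.leaf []))
 (.node (.leaf [])
 (.leaf [])))))
 (.node (.node (.node (.node (.leaf [])
 (.leaf []))
 (.leaf []))
 (.node (.node (.leaf [])
 (.leaf []))
 (.node (.leaf [(10,1),(14,-1),(16,-1),(26,1),(31,1)])
 (.leaf []))))
 (.node (.node (.node (.leaf [])
 (.leaf []))
 (.node (.leaf [])
 (.leaf [])))
 (.node (.node (.leaf [])
 (.leaf []))
 (.node (.leaf [])
 (.leaf []))))))
 (.node (.node (.node (.node (.node (.leaf [(19,1)])
 (.leaf []))
 (.node (.leaf [])
 (.leaf [])))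
 (.node (.node (.leaf [])
 (.leaf []))
 (.node (.leaf [(10,1),(11,-1),(14,-1),(16,-1),(26,1),(31,1),(48,1)])
 (.leaf []))))
 (.node (.node (.node (.leaf [])
 (.leaf []))
 (.node (.leaf [(2,-1),(4,-1),(10,1),(15,1),(16,-1),(24,1),(26,1),(29,-1),(36,1)])
 (.leaf [])))
 (.node (.node (.leaf [(2,1),(4,1),(5,-1),(10,-1),(15,-1),(16,1),(36,-1),(39,1),(43,1)])
 (.leaf []))
 (.leaf []))))
 (.node (.node (.node (.node (.leaf [])
 (.leaf [(45,1)]))
 (.node (.leaf [])
 (.leaf [])))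
 (.node (.node (.leaf [])
 (.leaf []))
 (.node (.leaf [])
 (.leaf []))))
 (.node (.node (.node (.leaf [(4,-1),(10,1),(16,-1),(26,1),(35,1)])
 (.leaf []))
 (.node (.leaf [])
 (.leaf [])))
 (.node (.node (.leaf [])
 (.leaf []))
 (.node (.leaf [])
 (.leaf [])))))))
 (.node (.node (.node (.node (.node (.node (.leaf [])
 (.leaf []))
 (.node (.leaf [])
 (.leaf [])))
 (.node (.node (.leaf [])
 (.leaf []))
 (.node (.leaf [])
 (.leaf []))))
 (.node (.node (.node (.leaf [])
 (.leaf []))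
 (.node (.leaf [])
 (.leaf [])))
 (.node (.node (.leaf [])
 (.leaf []))
 (.node (.leaf [])
 (.leaf [])))))
 (.node (.node (.node (.node (.leaf [(30,1)])
 (.leaf [(2,1),(4,1),(15,-1),(36,-1),(39,1)]))
 (.node (.leaf [(13,-1),(14,1),(22,1)])
 (.leaf [])))
 (.node (.node (.leaf [])
 (.leaf []))
 (.node (.leaf [])
 (.leaf []))))
 (.node (.node (.node (.leaf [])
 (.leaf []))
 (.node (.leaf [(10,1),(16,-1),(19,1),(26,1),(28,-1)])
 (.leaf [])))
 (.node (.node (.leaf [(6,-1),(10,1),(12,-1),(16,-1),(17,1),(26,1),(45,1)])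
 (.leaf []))
 (.node (.leaf [])
 (.leaf []))))))
 (.node (.node (.node (.node (.node (.leaf [])
 (.leaf []))
 (.node (.leaf [])
 (.leaf [])))
 (.node (.node (.leaf [(4,-1),(10,1),(15,1),(16,-1),(26,1)])
 (.leaf []))
 (.node (.leaf [])
 (.leaf []))))
 (.node (.node (.leaf [])
 (.node (.leaf [(28,1)])
 (.leaf [])))
 (.node (.node (.leaf [(0,-1),(9,1),(32,1)])
 (.leaf []))
 (.node (.leaf [])
 (.leaf [])))))
 (.node (.node (.node (.node (.leaf [])
 (.leaf []))
 (.node (.leaf [])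
 (.leaf [])))
 (.node (.node (.leaf [(3,1),(9,-1),(34,-1),(37,1),(41,1)])
 (.leaf []))
 (.node (.leaf [])
 (.leaf []))))
 (.node (.node (.node (.leaf [])
 (.leaf []))
 (.node (.leaf [])
 (.leaf [])))
 (.node (.node (.leaf [])
 (.leaf []))
 (.node (.leaf [])
 (.leaf []))))))))))
 (.node (.node (.node (.node (.node (.node (.node (.node (.node (.leaf [])
 (.leaf []))
 (.node (.leaf [(10,1),(14,-1),(31,1)])
 (.leaf [])))
 (.node (.node (.leaf [])
 (.leaf []))
 (.node (.leaf [])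
 (.leaf []))))
 (.node (.node (.node (.leaf [])
 (.leaf [(3,-2)]))
 (.node (.leaf [])
 (.leaf [])))
 (.node (.node (.leaf [(14,1)])
 (.leaf []))
 (.node (.leaf [(16,-1),(26,1),(42,1)])
 (.leaf [])))))
 (.node (.node (.node (.node (.leaf [])
 (.leaf [(1,1),(11,-1),(14,-1),(25,1),(31,1),(33,-1),(48,1)]))
 (.node (.leaf [])
 (.leaf [])))
 (.node (.node (.leaf [])
 (.leaf []))
 (.node (.leaf [])
 (.leaf []))))
 (.node (.node (.node (.leaf [])
 (.leaf []))
 (.node (.leaf [])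
 (.leaf [])))
 (.node (.node (.leaf [(40,1)])
 (.leaf []))
 (.node (.leaf [])
 (.leaf []))))))
 (.node (.node (.node (.node (.node (.leaf [])
 (.leaf [(37,1)]))
 (.node (.leaf [])
 (.leaf [])))
 (.node (.node (.leaf [])
 (.leaf []))
 (.node (.leaf [])
 (.leaf []))))
 (.node (.node (.node (.leaf [])
 (.leaf []))
 (.node (.leaf [])
 (.leaf [])))
 (.node (.node (.leaf [])
 (.leaf []))
 (.node (.leaf [])
 (.leaf [])))))
 (.node (.node (.node (.node (.leaf [])
 (.leaf []))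
 (.node (.leaf [])
 (.leaf [])))
 (.node (.node (.leaf [(2,-1),(4,-1),(10,1),(15,1),(16,-1),(26,1),(36,1)])
 (.leaf []))
 (.node (.leaf [(10,-1),(16,1),(21,1),(26,-1),(28,1)])
 (.leaf []))))
 (.node (.node (.node (.leaf [])
 (.leaf []))
 (.node (.leaf [(2,1),(4,1),(8,-1),(10,-1),(15,-1),(16,1),(26,-1),(27,1),(36,-1),(39,1),(47,1)])
 (.leaf [])))
 (.node (.node (.leaf [(1,1),(4,-1),(15,1)])
 (.leaf []))
 (.node (.leaf [])
 (.leaf [])))))))
 (.node (.node (.node (.node (.node (.node (.leaf [(5,1)])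
 (.leaf []))
 (.node (.leaf [])
 (.leaf [])))
 (.node (.node (.leaf [(10,1),(13,-1),(16,-1),(22,1),(26,1)])
 (.leaf []))
 (.node (.leaf [])
 (.leaf []))))
 (.node (.node (.node (.leaf [])
 (.leaf [(5,2),(26,-2),(43,-2)]))
 (.leaf []))
 (.node (.node (.leaf [])
 (.leaf []))
 (.node (.leaf [])
 (.leaf [])))))
 (.node (.node (.node (.node (.leaf [])
 (.leaf [(8,1),(10,1),(16,-1),(26,1),(27,-1)]))
 (.node (.leaf [])
 (.leaf [])))
 (.node (.node (.leaf [])
 (.leaf []))
 (.node (.leaf [])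
 (.leaf []))))
 (.node (.node (.node (.leaf [(0,-1),(10,1),(16,-1),(26,1),(32,1)])
 (.leaf []))
 (.node (.leaf [])
 (.leaf [])))
 (.node (.node (.leaf [])
 (.leaf []))
 (.node (.leaf [])
 (.leaf []))))))
 (.node (.node (.node (.node (.node (.leaf [])
 (.leaf []))
 (.node (.leaf [])
 (.leaf [])))
 (.node (.node (.leaf [])
 (.leaf []))
 (.node (.leaf [])
 (.leaf []))))
 (.node (.node (.node (.leaf [])
 (.leaf []))
 (.node (.leaf [(7,-1),(10,1),(13,-1),(16,-1),(22,1),(26,1),(46,1)])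
 (.leaf [])))
 (.node (.node (.leaf [])
 (.leaf []))
 (.node (.leaf [])
 (.leaf [])))))
 (.node (.node (.node (.node (.leaf [(10,-1),(16,1),(21,1),(26,-1),(28,1)])
 (.leaf []))
 (.node (.leaf [(2,1),(4,1),(15,-1)])
 (.leaf [])))
 (.node (.node (.leaf [])
 (.leaf []))
 (.leaf [])))
 (.node (.node (.node (.leaf [])
 (.leaf []))
 (.node (.leaf [(2,-1),(4,-1),(15,1),(18,1),(21,1),(23,-1),(36,1)])
 (.leaf [])))
 (.node (.node (.leaf [])
 (.leaf []))
 (.node (.leaf [(6,1),(12,1),(17,-1)])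
 (.leaf []))))))))
 (.node (.node (.node (.node (.node (.node (.node (.leaf [])
 (.leaf []))
 (.node (.leaf [(0,1),(9,-1),(20,1),(32,-1),(41,1)])
 (.leaf [])))
 (.node (.node (.leaf [])
 (.leaf []))
 (.node (.leaf [])
 (.leaf []))))
 (.node (.node (.node (.leaf [(10,-1),(16,1),(18,1),(21,1),(23,-1),(26,-1),(29,1)])
 (.leaf [(1,2),(33,-2)]))
 (.node (.leaf [])
 (.leaf [])))
 (.node (.node (.leaf [])
 (.leaf []))
 (.node (.leaf [(10,1),(11,-1),(14,-1),(16,-1),(26,1),(31,1),(48,1)])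
 (.leaf [])))))
 (.node (.node (.node (.node (.leaf [])
 (.leaf []))
 (.node (.leaf [])
 (.leaf [])))
 (.node (.node (.leaf [])
 (.leaf []))
 (.node (.leaf [(10,-1),(13,1),(16,1),(26,-1),(27,1)])
 (.leaf []))))
 (.node (.node (.node (.leaf [(26,1)])
 (.leaf []))
 (.node (.leaf [])
 (.leaf [])))
 (.node (.node (.leaf [])
 (.leaf []))
 (.node (.leaf [(7,-1),(10,1),(13,-1),(16,-1),(22,1),(26,1),(46,1)])
 (.leaf []))))))
 (.node (.node (.node (.node (.node (.leaf [])
 (.leaf []))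
 (.node (.leaf [])
 (.leaf [])))
 (.node (.node (.leaf [(10,1),(16,-1),(21,-1),(23,1),(26,1)])
 (.leaf []))
 (.node (.leaf [])
 (.leaf []))))
 (.node (.node (.node (.leaf [])
 (.leaf []))
 (.node (.leaf [])
 (.leaf [])))
 (.node (.node (.leaf [])
 (.leaf []))
 (.node (.leaf [(24,1),(29,-1),(30,1)])
 (.leaf [])))))
 (.node (.node (.node (.node (.leaf [(1,1),(4,-1),(15,1)])
 (.leaf [(10,1),(16,-1),(19,1),(26,1),(28,-1)]))
 (.node (.leaf [])
 (.leaf [])))
 (.node (.node (.leaf [])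
 (.leaf []))
 (.node (.leaf [])
 (.leaf []))))
 (.node (.node (.node (.leaf [(1,-1),(10,1),(16,-1),(26,1),(33,1)])
 (.leaf []))
 (.node (.leaf [])
 (.leaf [])))
 (.node (.leaf [])
 (.node (.leaf [])
 (.leaf [])))))))
 (.node (.node (.node (.node (.node (.node (.leaf [])
 (.leaf []))
 (.node (.leaf [(0,-1),(5,1),(10,1),(16,-1),(32,1)])
 (.leaf [])))
 (.node (.leaf [])
 (.node (.leaf [(9,1),(12,-1),(17,1)])
 (.leaf []))))
 (.node (.node (.node (.leaf [])
 (.leaf []))
 (.node (.leaf [(6,-1),(10,1),(12,-1),(16,-1),(17,1),(26,1),(45,1)])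
 (.leaf [])))
 (.node (.node (.leaf [(0,1)])
 (.leaf []))
 (.node (.leaf [(5,-1),(26,1),(43,1)])
 (.leaf [])))))
 (.node (.node (.node (.node (.leaf [(10,1),(16,-1),(21,-1),(23,1),(26,1)])
 (.leaf []))
 (.node (.leaf [(4,1)])
 (.leaf [])))
 (.node (.node (.leaf [(29,1)])
 (.leaf []))
 (.node (.leaf [])
 (.leaf []))))
 (.node (.node (.node (.leaf [])
 (.leaf []))
 (.node (.leaf [(4,-1),(7,1),(13,1),(22,-1),(35,1)])
 (.leaf [])))
 (.node (.node (.leaf [])
 (.leaf []))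
 (.node (.leaf [(12,1)])
 (.leaf []))))))
 (.node (.node (.node (.node (.node (.leaf [])
 (.leaf []))
 (.node (.leaf [(1,1),(10,-1),(25,1),(33,-1),(42,1)])
 (.leaf [])))
 (.node (.node (.leaf [])
 (.leaf []))
 (.node (.leaf [(40,1)])
 (.leaf []))))
 (.node (.node (.node (.leaf [])
 (.leaf []))
 (.node (.leaf [])
 (.leaf [])))
 (.node (.node (.leaf [])
 (.leaf []))
 (.node (.leaf [])
 (.leaf [])))))
 (.node (.node (.node (.node (.leaf [])
 (.leaf []))
 (.node (.leaf [])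
 (.leaf [])))
 (.node (.node (.leaf [])
 (.leaf []))
 (.node (.leaf [])
 (.leaf []))))
 (.node (.node (.node (.leaf [])
 (.leaf []))
 (.node (.leaf [])
 (.leaf [])))
 (.node (.node (.leaf [])
 (.leaf []))
 (.node (.leaf [])
 (.leaf [])))))))))
 (.node (.node (.node (.node (.node (.node (.node (.node (.leaf [])
 (.leaf []))
 (.node (.leaf [])
 (.leaf [])))
 (.node (.node (.leaf [(5,-1),(26,1),(43,1)])
 (.leaf []))
 (.node (.leaf [])
 (.leaf []))))
 (.node (.node (.node (.leaf [])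
 (.leaf [(28,-2)]))
 (.node (.leaf [])
 (.leaf [])))
 (.node (.node (.leaf [(0,1),(10,-1),(16,1)])
 (.leaf []))
 (.node (.leaf [])
 (.leaf [])))))
 (.node (.node (.node (.node (.leaf [(25,1)])
 (.leaf []))
 (.node (.leaf [])
 (.leaf [])))
 (.node (.node (.leaf [])
 (.leaf []))
 (.node (.leaf [])
 (.leaf []))))
 (.node (.node (.node (.leaf [])
 (.leaf []))
 (.node (.leaf [])
 (.leaf [])))
 (.node (.node (.leaf [])
 (.leaf []))
 (.node (.leaf [])
 (.leaf []))))))
 (.node (.node (.node (.node (.node (.leaf [(15,1)])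
 (.leaf [(6,-1),(10,1),(12,-1),(16,-1),(17,1),(26,1),(45,1)]))
 (.node (.leaf [])
 (.leaf [])))
 (.node (.leaf [])
 (.node (.leaf [(16,-1),(26,1),(42,1)])
 (.leaf []))))
 (.node (.node (.node (.leaf [(39,1)])
 (.leaf []))
 (.node (.leaf [(30,1)])
 (.leaf [])))
 (.node (.node (.leaf [(1,-1),(7,1),(13,1),(22,-1),(33,1)])
 (.leaf []))
 (.node (.leaf [])
 (.leaf [])))))
 (.node (.node (.node (.node (.leaf [])
 (.leaf []))
 (.node (.leaf [])
 (.leaf [])))
 (.node (.node (.leaf [(8,-1),(27,1),(47,1)])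
 (.leaf []))
 (.node (.leaf [])
 (.leaf []))))
 (.node (.node (.node (.leaf [])
 (.leaf []))
 (.node (.leaf [])
 (.leaf [])))
 (.node (.node (.leaf [(10,1),(16,-1),(21,-1),(23,1),(26,1)])
 (.leaf []))
 (.node (.leaf [])
 (.leaf [])))))))
 (.node (.node (.node (.node (.node (.node (.leaf [(11,1)])
 (.leaf []))
 (.node (.leaf [])
 (.leaf [])))
 (.node (.node (.leaf [])
 (.leaf []))
 (.node (.leaf [])
 (.leaf []))))
 (.node (.node (.node (.leaf [])
 (.leaf [(11,2),(14,2),(31,-2),(48,-2)]))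
 (.node (.leaf [])
 (.leaf [])))
 (.node (.node (.leaf [])
 (.leaf []))
 (.node (.leaf [])
 (.leaf [])))))
 (.node (.node (.node (.node (.leaf [])
 (.leaf [(8,-1),(19,1),(27,1),(28,-1),(47,1)]))
 (.node (.leaf [])
 (.leaf [])))
 (.node (.node (.leaf [])
 (.leaf []))
 (.node (.leaf [])
 (.leaf []))))
 (.node (.node (.node (.leaf [(9,-1),(10,1),(16,-1),(26,1),(41,1)])
 (.leaf []))
 (.node (.leaf [])
 (.leaf [])))
 (.node (.leaf [])
 (.node (.leaf [])
 (.leaf []))))))
 (.node (.node (.node (.node (.node (.leaf [])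
 (.leaf []))
 (.node (.leaf [])
 (.leaf [])))
 (.node (.node (.leaf [(6,-1),(10,1),(12,-1),(16,-1),(17,1),(26,1),(45,1)])
 (.leaf []))
 (.node (.leaf [])
 (.leaf []))))
 (.node (.node (.node (.leaf [(10,1),(13,-1),(16,-1),(22,1),(26,1)])
 (.leaf []))
 (.node (.leaf [])
 (.leaf [])))
 (.node (.node (.leaf [(10,1),(12,-1),(16,-1),(17,1),(26,1)])
 (.leaf []))
 (.node (.leaf [])
 (.leaf [])))))
 (.node (.node (.node (.node (.leaf [(37,1)])
 (.leaf []))
 (.node (.leaf [])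
 (.leaf [])))
 (.node (.node (.leaf [(13,1),(14,-1),(31,1)])
 (.leaf []))
 (.node (.leaf [])
 (.leaf []))))
 (.node (.node (.node (.leaf [])
 (.leaf []))
 (.node (.leaf [])
 (.leaf [])))
 (.node (.node (.leaf [])
 (.leaf []))
 (.node (.leaf [])
 (.leaf []))))))))
 (.node (.node (.node (.node (.node (.node (.node (.leaf [])
 (.leaf [(5,-1),(10,-1),(16,1),(21,1),(43,1)]))
 (.node (.leaf [])
 (.leaf [])))
 (.node (.node (.leaf [])
 (.leaf []))
 (.node (.leaf [])
 (.leaf []))))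
 (.node (.node (.node (.leaf [(38,1)])
 (.leaf [(4,2),(35,-2)]))
 (.node (.leaf [])
 (.leaf [])))
 (.node (.node (.leaf [])
 (.leaf []))
 (.node (.leaf [])
 (.leaf [])))))
 (.node (.node (.node (.node (.leaf [])
 (.leaf []))
 (.node (.leaf [(2,-1),(4,-1),(10,1),(15,1),(16,-1),(24,1),(26,1),(29,-1),(36,1)])
 (.leaf [])))
 (.node (.node (.leaf [(7,-1),(10,1),(13,-1),(16,-1),(22,1),(26,1),(46,1)])
 (.leaf []))
 (.leaf [])))
 (.node (.node (.node (.leaf [(27,1)])
 (.leaf []))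
 (.node (.leaf [])
 (.leaf [])))
 (.node (.node (.leaf [])
 (.leaf []))
 (.node (.leaf [])
 (.leaf []))))))
 (.node (.node (.node (.node (.node (.leaf [(20,1)])
 (.leaf []))
 (.node (.leaf [(3,1),(10,-1),(16,1),(26,-1),(27,1)])
 (.leaf [])))
 (.node (.node (.leaf [(30,1)])
 (.leaf []))
 (.node (.leaf [])
 (.leaf []))))
 (.node (.node (.node (.leaf [])
 (.leaf []))
 (.leaf []))
 (.node (.node (.leaf [])
 (.leaf []))
 (.node (.leaf [(2,-1),(4,-1),(10,1),(15,1),(16,-1),(26,1),(36,1)])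
 (.leaf [])))))
 (.node (.node (.node (.node (.leaf [])
 (.leaf []))
 (.node (.leaf [])
 (.leaf [])))
 (.node (.node (.leaf [])
 (.leaf []))
 (.node (.leaf [(7,-1),(10,1),(13,-1),(16,-1),(22,1),(26,1),(46,1)])
 (.leaf []))))
 (.node (.node (.node (.leaf [(16,-1),(26,1),(42,1)])
 (.leaf []))
 (.node (.leaf [])
 (.leaf [])))
 (.node (.node (.leaf [])
 (.leaf []))
 (.node (.leaf [])
 (.leaf [])))))))
 (.node (.node (.node (.node (.node (.node (.leaf [])
 (.leaf []))
 (.node (.leaf [(3,-1),(8,1),(10,1),(16,-1),(26,1),(27,-1),(34,1)])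
 (.leaf [])))
 (.node (.node (.leaf [(10,1),(12,-1),(16,-1),(26,1),(44,1)])
 (.leaf []))
 (.node (.leaf [(0,-1),(10,1),(16,-1),(26,1),(32,1)])
 (.leaf []))))
 (.node (.node (.node (.leaf [])
 (.leaf []))
 (.node (.leaf [])
 (.leaf [])))
 (.node (.node (.leaf [])
 (.leaf []))
 (.node (.leaf [(8,-1),(27,1),(47,1)])
 (.leaf [])))))
 (.node (.node (.node (.node (.leaf [])
 (.leaf []))
 (.node (.leaf [(2,1),(4,1),(10,-1),(15,-1),(16,1),(26,-1),(29,1)])
 (.leaf [])))
 (.node (.node (.leaf [])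
 (.leaf []))
 (.node (.leaf [])
 (.leaf []))))
 (.node (.node (.node (.leaf [(4,-1),(10,1),(15,1),(16,-1),(26,1)])
 (.leaf []))
 (.node (.leaf [])
 (.leaf [])))
 (.node (.node (.leaf [])
 (.leaf []))
 (.node (.leaf [(6,1),(9,-1),(12,1),(17,-1),(41,1)])
 (.leaf []))))))
 (.node (.node (.node (.node (.node (.leaf [])
 (.leaf []))
 (.node (.leaf [])
 (.leaf [])))
 (.node (.node (.leaf [])
 (.leaf []))
 (.node (.leaf [(10,1),(12,-1),(16,-1),(26,1),(44,1)])
 (.leaf []))))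
 (.node (.node (.node (.leaf [(40,1)])
 (.leaf []))
 (.node (.leaf [])
 (.leaf [])))
 (.node (.node (.leaf [])
 (.leaf []))
 (.node (.leaf [])
 (.leaf [])))))
 (.node (.node (.node (.node (.leaf [])
 (.leaf []))
 (.node (.leaf [])
 (.leaf [])))
 (.node (.node (.leaf [])
 (.leaf []))
 (.node (.leaf [(3,-1),(10,1),(16,-1),(26,1),(34,1)])
 (.leaf []))))
 (.node (.node (.node (.leaf [(29,1)])
 (.leaf []))
 (.node (.leaf [])
 (.leaf [])))
 (.node (.node (.leaf [])
 (.leaf []))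
 (.node (.leaf [(4,1),(11,-1),(14,-1),(31,1),(35,-1),(38,1),(48,1)])
 (.leaf [])))))))))))
 (.node (.node (.node (.node (.node (.node (.node (.node (.node (.node (.leaf [])
 (.leaf []))
 (.node (.leaf [])
 (.leaf [])))
 (.node (.node (.leaf [(0,-1),(10,1),(16,-1),(26,1),(32,1)])
 (.leaf []))
 (.node (.leaf [])
 (.leaf []))))
 (.node (.node (.node (.leaf [])
 (.leaf [(1,-2)]))
 (.node (.leaf [(0,1),(5,-1),(10,-1),(16,1),(20,1),(32,-1),(43,1)])
 (.leaf [])))
 (.node (.node (.leaf [])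
 (.leaf []))
 (.node (.leaf [])
 (.leaf [])))))
 (.node (.node (.node (.node (.leaf [(9,1),(10,-1),(16,1)])
 (.leaf []))
 (.node (.leaf [])
 (.leaf [])))
 (.node (.node (.leaf [(10,1),(13,-1),(16,-1),(22,1),(26,1)])
 (.leaf []))
 (.leaf [])))
 (.node (.node (.node (.leaf [])
 (.leaf []))
 (.leaf []))
 (.node (.node (.leaf [])
 (.leaf []))
 (.node (.leaf [(24,1)])
 (.leaf []))))))
 (.node (.node (.node (.node (.node (.leaf [])
 (.leaf [(25,1)]))
 (.node (.leaf [])
 (.leaf [])))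
 (.node (.node (.leaf [])
 (.leaf []))
 (.node (.leaf [])
 (.leaf []))))
 (.node (.node (.node (.leaf [(6,1),(10,-1),(12,1),(16,1),(17,-1),(26,-1),(28,1)])
 (.leaf []))
 (.node (.leaf [])
 (.leaf [])))
 (.node (.node (.leaf [])
 (.leaf []))
 (.node (.leaf [])
 (.leaf [])))))
 (.node (.node (.node (.node (.leaf [])
 (.leaf []))
 (.node (.leaf [])
 (.leaf [])))
 (.node (.node (.leaf [(3,-1),(10,1),(16,-1),(26,1),(34,1)])
 (.leaf []))
 (.node (.leaf [])
 (.leaf []))))
 (.node (.node (.node (.leaf [])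
 (.leaf []))
 (.node (.leaf [])
 (.leaf [])))
 (.node (.node (.leaf [])
 (.leaf []))
 (.node (.leaf [])
 (.leaf [])))))))
 (.node (.node (.node (.node (.node (.node (.leaf [])
 (.leaf []))
 (.node (.leaf [(0,1)])
 (.leaf [])))
 (.node (.node (.leaf [])
 (.leaf []))
 (.node (.leaf [(3,1),(8,-1),(10,-1),(16,1),(26,-1),(27,1),(34,-1),(37,1),(47,1)])
 (.leaf []))))
 (.node (.node (.node (.leaf [])
 (.leaf [(9,2),(41,-2)]))
 (.node (.leaf [])
 (.leaf [])))
 (.node (.node (.leaf [])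
 (.leaf []))
 (.node (.leaf [(23,1)])
 (.leaf [])))))
 (.node (.node (.node (.node (.leaf [])
 (.leaf [(7,1),(13,1),(22,-1)]))
 (.node (.leaf [])
 (.leaf [])))
 (.node (.node (.leaf [])
 (.leaf []))
 (.node (.leaf [])
 (.leaf []))))
 (.node (.node (.node (.leaf [])
 (.leaf []))
 (.node (.leaf [(4,1)])
 (.leaf [])))
 (.node (.node (.leaf [])
 (.leaf []))
 (.node (.leaf [])
 (.leaf []))))))
 (.node (.node (.node (.node (.node (.leaf [])
 (.leaf []))
 (.node (.leaf [])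
 (.leaf [])))
 (.node (.node (.leaf [])
 (.leaf []))
 (.node (.leaf [(9,1),(10,-1),(16,1)])
 (.leaf []))))
 (.node (.node (.node (.leaf [])
 (.leaf []))
 (.node (.leaf [(10,1),(12,-1),(16,-1),(26,1),(44,1)])
 (.leaf [])))
 (.node (.node (.leaf [])
 (.leaf []))
 (.node (.leaf [(16,-1),(26,1),(42,1)])
 (.leaf [])))))
 (.node (.node (.node (.node (.leaf [])
 (.leaf [(48,1)]))
 (.node (.leaf [])
 (.leaf [])))
 (.node (.node (.leaf [])
 (.leaf []))
 (.node (.leaf [])
 (.leaf []))))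
 (.node (.node (.node (.leaf [])
 (.leaf []))
 (.node (.leaf [(3,-1),(12,1),(34,1)])
 (.leaf [])))
 (.node (.node (.leaf [(40,1)])
 (.leaf []))
 (.node (.leaf [(5,1),(10,1),(16,-1)])
 (.leaf []))))))))
 (.node (.node (.node (.node (.node (.node (.node (.leaf [])
 (.leaf []))
 (.node (.leaf [])
 (.leaf [])))
 (.node (.node (.leaf [])
 (.leaf []))
 (.node (.leaf [(4,-1),(13,1),(35,1)])
 (.leaf []))))
 (.node (.node (.node (.leaf [(10,-1),(12,1),(16,1),(26,-1),(27,1)])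
 (.leaf [(14,2),(31,-2)]))
 (.node (.leaf [(3,1),(4,-1),(15,1)])
 (.leaf [])))
 (.node (.node (.leaf [])
 (.leaf []))
 (.node (.leaf [])
 (.leaf [])))))
 (.node (.node (.node (.node (.leaf [])
 (.leaf []))
 (.node (.leaf [(0,-1),(9,1),(32,1)])
 (.leaf [])))
 (.node (.leaf [])
 (.node (.leaf [])
 (.leaf []))))
 (.node (.node (.node (.leaf [])
 (.leaf []))
 (.node (.leaf [(6,-1),(10,1),(12,-1),(16,-1),(17,1),(26,1),(45,1)])
 (.leaf [])))
 (.node (.node (.leaf [])
 (.leaf []))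
 (.node (.leaf [(10,1),(12,-1),(16,-1),(26,1),(44,1)])
 (.leaf []))))))
 (.node (.node (.node (.node (.node (.leaf [])
 (.leaf []))
 (.node (.leaf [])
 (.leaf [])))
 (.node (.node (.leaf [(10,1),(12,-1),(16,-1),(17,1),(26,1)])
 (.leaf []))
 (.node (.leaf [])
 (.leaf []))))
 (.node (.node (.node (.leaf [])
 (.leaf []))
 (.node (.leaf [])
 (.leaf [])))
 (.node (.node (.leaf [])
 (.leaf []))
 (.node (.leaf [])
 (.leaf [])))))
 (.node (.node (.node (.node (.leaf [])
 (.leaf [(18,1),(21,1),(23,-1)]))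
 (.node (.leaf [(10,-1),(11,1),(14,1),(31,-1),(42,1)])
 (.leaf [])))
 (.node (.node (.leaf [])
 (.leaf []))
 (.node (.leaf [(40,1)])
 (.leaf []))))
 (.node (.node (.node (.leaf [(10,1),(14,-1),(16,-1),(26,1),(31,1)])
 (.leaf []))
 (.node (.leaf [(2,1),(4,1),(15,-1)])
 (.leaf [])))
 (.node (.node (.leaf [])
 (.leaf []))
 (.node (.leaf [])
 (.leaf [])))))))
 (.node (.node (.node (.node (.node (.node (.leaf [])
 (.leaf []))
 (.node (.leaf [])
 (.leaf [])))
 (.node (.node (.leaf [])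
 (.leaf []))
 (.node (.leaf [])
 (.leaf []))))
 (.node (.node (.node (.leaf [(4,-1),(14,1),(15,1)])
 (.leaf []))
 (.node (.leaf [])
 (.leaf [])))
 (.node (.node (.leaf [])
 (.leaf []))
 (.node (.leaf [(9,-1),(10,1),(16,-1),(26,1),(41,1)])
 (.leaf [])))))
 (.node (.node (.node (.node (.leaf [(10,1),(12,-1),(16,-1),(17,1),(26,1)])
 (.leaf []))
 (.node (.leaf [])
 (.leaf [])))
 (.node (.node (.leaf [(27,1)])
 (.leaf []))
 (.node (.leaf [])
 (.leaf []))))
 (.node (.node (.node (.leaf [])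
 (.leaf []))
 (.node (.leaf [])
 (.leaf [])))
 (.node (.node (.leaf [])
 (.leaf []))
 (.node (.leaf [(10,1)])
 (.leaf []))))))
 (.node (.node (.node (.node (.node (.leaf [])
 (.leaf []))
 (.node (.leaf [])
 (.leaf [])))
 (.node (.node (.leaf [])
 (.leaf []))
 (.node (.leaf [])
 (.leaf []))))
 (.node (.node (.node (.leaf [])
 (.leaf []))
 (.node (.leaf [])
 (.leaf [])))
 (.node (.leaf [])
 (.node (.leaf [(10,1),(11,-1),(14,-1),(16,-1),(26,1),(31,1),(48,1)])
 (.leaf [])))))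
 (.node (.node (.node (.node (.leaf [])
 (.leaf []))
 (.node (.leaf [(1,-1),(10,1),(33,1)])
 (.leaf [])))
 (.node (.node (.leaf [])
 (.leaf []))
 (.node (.leaf [(22,1)])
 (.leaf []))))
 (.node (.node (.node (.leaf [(26,1)])
 (.leaf []))
 (.node (.leaf [])
 (.leaf [])))
 (.node (.node (.leaf [(14,1)])
 (.leaf []))
 (.node (.leaf [])
 (.leaf [])))))))))
 (.node (.node (.node (.node (.node (.node (.node (.node (.leaf [])
 (.leaf []))
 (.leaf []))
 (.node (.node (.leaf [])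
 (.leaf []))
 (.node (.leaf [])
 (.leaf []))))
 (.node (.node (.node (.leaf [])
 (.leaf [(21,2),(23,-2)]))
 (.node (.leaf [])
 (.leaf [])))
 (.node (.node (.leaf [])
 (.leaf []))
 (.node (.leaf [(4,1),(7,-1),(13,-1),(22,1),(35,-1),(38,1),(46,1)])
 (.leaf [])))))
 (.node (.node (.node (.node (.leaf [(5,1),(10,1),(16,-1)])
 (.leaf [(2,1),(4,1),(15,-1),(36,-1),(39,1)]))
 (.node (.leaf [])
 (.leaf [])))
 (.node (.node (.leaf [])
 (.leaf []))
 (.node (.leaf [])
 (.leaf []))))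
 (.node (.node (.node (.leaf [])
 (.leaf []))
 (.node (.leaf [])
 (.leaf [])))
 (.node (.node (.leaf [])
 (.leaf []))
 (.node (.leaf [(2,-1),(4,-1),(10,1),(15,1),(16,-1),(26,1),(36,1)])
 (.leaf []))))))
 (.node (.node (.node (.node (.node (.leaf [])
 (.leaf [(5,-1),(26,1),(43,1)]))
 (.node (.leaf [])
 (.leaf [])))
 (.node (.node (.leaf [])
 (.leaf []))
 (.node (.leaf [])
 (.leaf []))))
 (.node (.node (.node (.leaf [(21,1)])
 (.leaf []))
 (.node (.leaf [(29,1)])
 (.leaf [])))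
 (.node (.node (.leaf [])
 (.leaf []))
 (.node (.leaf [])
 (.leaf [])))))
 (.node (.node (.node (.node (.leaf [])
 (.leaf []))
 (.node (.leaf [])
 (.leaf [])))
 (.node (.node (.leaf [(6,-1),(10,1),(12,-1),(16,-1),(17,1),(19,1),(26,1),(28,-1),(45,1)])
 (.leaf []))
 (.node (.leaf [])
 (.leaf []))))
 (.node (.node (.node (.leaf [])
 (.leaf []))
 (.node (.leaf [(3,1),(34,-1),(37,1)])
 (.leaf [])))
 (.node (.node (.leaf [])
 (.leaf []))
 (.node (.leaf [(1,1),(25,1),(33,-1)])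
 (.leaf [])))))))
 (.node (.node (.node (.node (.node (.node (.leaf [(9,1)])
 (.leaf []))
 (.node (.leaf [])
 (.leaf [])))
 (.node (.node (.leaf [(4,1),(10,-1),(16,1),(26,-1),(29,1)])
 (.leaf []))
 (.node (.leaf [(2,1),(4,1),(15,-1),(36,-1),(39,1)])
 (.leaf []))))
 (.node (.node (.node (.leaf [])
 (.leaf [(0,-2),(20,-2),(32,2)]))
 (.node (.leaf [(2,-1),(4,-1),(10,1),(15,1),(16,-1),(19,1),(26,1),(28,-1),(36,1)])
 (.leaf [])))
 (.node (.node (.leaf [])
 (.leaf []))
 (.node (.leaf [])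
 (.leaf [])))))
 (.node (.node (.node (.node (.leaf [])
 (.leaf [(7,-1),(13,-1),(18,1),(21,1),(22,1),(23,-1),(46,1)]))
 (.node (.leaf [])
 (.leaf [])))
 (.node (.node (.leaf [])
 (.leaf []))
 (.node (.leaf [])
 (.leaf []))))
 (.node (.node (.node (.leaf [])
 (.leaf []))
 (.node (.leaf [(2,1),(4,1),(10,-1),(15,-1),(16,1),(26,-1),(30,1)])
 (.leaf [])))
 (.node (.node (.leaf [])
 (.leaf []))
 (.node (.leaf [])
 (.leaf []))))))
 (.node (.node (.node (.node (.node (.leaf [])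
 (.leaf []))
 (.node (.leaf [(7,1),(13,1),(22,-1)])
 (.leaf [])))
 (.node (.node (.leaf [])
 (.leaf []))
 (.node (.leaf [(0,-1),(10,1),(16,-1),(26,1),(32,1)])
 (.leaf []))))
 (.node (.node (.node (.leaf [])
 (.leaf []))
 (.node (.leaf [(4,1),(11,-1),(14,-1),(31,1),(35,-1),(38,1),(48,1)])
 (.leaf [])))
 (.node (.node (.leaf [(26,1)])
 (.leaf []))
 (.node (.leaf [])
 (.leaf [])))))
 (.node (.node (.node (.node (.leaf [(6,1),(12,1),(17,-1)])
 (.leaf []))
 (.node (.leaf [])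
 (.leaf [])))
 (.node (.node (.leaf [(5,1),(10,1),(16,-1)])
 (.leaf []))
 (.node (.leaf [])
 (.leaf []))))
 (.node (.node (.leaf [])
 (.node (.leaf [])
 (.leaf [])))
 (.node (.node (.leaf [])
 (.leaf []))
 (.node (.leaf [])
 (.leaf []))))))))
 (.node (.node (.node (.node (.node (.node (.node (.leaf [(1,1)])
 (.leaf []))
 (.node (.leaf [])
 (.leaf [])))
 (.node (.node (.leaf [(4,-1),(10,1),(15,1),(16,-1),(26,1)])
 (.leaf []))
 (.node (.leaf [])
 (.leaf []))))
 (.node (.node (.node (.leaf [])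
 (.leaf [(18,-2),(21,-2),(23,2)]))
 (.node (.leaf [(28,1)])
 (.leaf [])))
 (.node (.node (.leaf [])
 (.leaf []))
 (.node (.leaf [])
 (.leaf [])))))
 (.node (.node (.node (.node (.leaf [])
 (.leaf []))
 (.node (.leaf [])
 (.leaf [])))
 (.node (.node (.leaf [(5,-1),(10,-1),(16,1),(18,1),(21,1),(23,-1),(43,1)])
 (.leaf []))
 (.node (.leaf [(1,-1),(10,1),(16,-1),(26,1),(33,1)])
 (.leaf []))))
 (.node (.node (.node (.leaf [(0,1),(21,-1),(23,1)])
 (.leaf []))
 (.node (.leaf [])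
 (.leaf [])))
 (.node (.node (.leaf [])
 (.leaf []))
 (.node (.leaf [])
 (.leaf []))))))
 (.node (.node (.node (.node (.node (.leaf [])
 (.leaf []))
 (.node (.leaf [(1,1),(13,-1),(22,1)])
 (.leaf [])))
 (.node (.node (.leaf [])
 (.leaf []))
 (.node (.leaf [])
 (.leaf []))))
 (.node (.node (.node (.leaf [])
 (.leaf []))
 (.node (.leaf [])
 (.leaf [])))
 (.node (.node (.leaf [])
 (.leaf []))
 (.node (.leaf [])
 (.leaf [])))))
 (.node (.node (.node (.node (.leaf [(2,1),(4,1),(15,-1)])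
 (.leaf []))
 (.node (.leaf [(1,1),(25,1),(33,-1)])
 (.leaf [])))
 (.node (.node (.leaf [])
 (.leaf []))
 (.node (.leaf [])
 (.leaf []))))
 (.node (.node (.node (.leaf [(16,1),(26,-1),(40,1)])
 (.leaf []))
 (.node (.leaf [])
 (.leaf [])))
 (.node (.node (.leaf [])
 (.leaf []))
 (.node (.leaf [])
 (.leaf [])))))))
 (.node (.node (.node (.node (.node (.node (.leaf [])
 (.leaf []))
 (.node (.leaf [(21,1)])
 (.leaf [])))
 (.node (.node (.leaf [(9,-1),(12,1),(41,1)])
 (.leaf []))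
 (.node (.leaf [])
 (.leaf []))))
 (.node (.node (.node (.leaf [])
 (.leaf []))
 (.node (.leaf [])
 (.leaf [])))
 (.node (.node (.leaf [])
 (.leaf []))
 (.node (.leaf [])
 (.leaf [])))))
 (.node (.node (.node (.node (.leaf [(32,1)])
 (.leaf []))
 (.node (.leaf [])
 (.leaf [])))
 (.node (.node (.leaf [])
 (.leaf []))
 (.node (.leaf [])
 (.leaf []))))
 (.node (.node (.node (.leaf [])
 (.leaf []))
 (.node (.leaf [(10,1),(16,-1),(24,1),(26,1),(29,-1)])
 (.leaf [])))
 (.node (.node (.leaf [])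
 (.leaf []))
 (.node (.leaf [(5,1),(26,-1),(40,1)])
 (.leaf []))))))
 (.node (.node (.node (.node (.node (.leaf [])
 (.leaf [(6,-1),(12,-1),(17,1),(21,1),(45,1)]))
 (.node (.leaf [(11,1),(14,1),(31,-1)])
 (.leaf [])))
 (.node (.node (.leaf [])
 (.leaf []))
 (.node (.leaf [(0,1),(5,-1),(10,-1),(16,1),(20,1),(32,-1),(43,1)])
 (.leaf []))))
 (.node (.node (.node (.leaf [])
 (.leaf []))
 (.node (.leaf [])
 (.leaf [])))
 (.node (.node (.leaf [(1,-1),(10,1),(33,1)])
 (.leaf []))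
 (.node (.leaf [])
 (.leaf [])))))
 (.node (.node (.node (.node (.leaf [])
 (.leaf []))
 (.leaf []))
 (.node (.node (.leaf [])
 (.leaf []))
 (.leaf [])))
 (.node (.node (.node (.leaf [])
 (.leaf []))
 (.node (.leaf [])
 (.leaf [])))
 (.node (.node (.leaf [(0,1),(12,-1),(17,1)])
 (.leaf []))
 (.node (.leaf [])
 (.leaf []))))))))))
 (.node (.node (.node (.node (.node (.node (.node (.node (.node (.leaf [])
 (.leaf []))
 (.node (.leaf [])
 (.leaf [])))
 (.node (.node (.leaf [])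
 (.leaf []))
 (.node (.leaf [])
 (.leaf []))))
 (.node (.node (.node (.leaf [(3,1)])
 (.leaf [(2,-2),(4,-2),(15,2)]))
 (.node (.leaf [])
 (.leaf [])))
 (.node (.node (.leaf [(1,1)])
 (.leaf []))
 (.node (.leaf [])
 (.leaf [])))))
 (.node (.node (.node (.node (.leaf [(23,1)])
 (.leaf []))
 (.node (.leaf [])
 (.leaf [])))
 (.node (.node (.leaf [(2,1),(4,1),(10,-1),(15,-1),(16,1),(26,-1),(28,1)])
 (.leaf []))
 (.node (.leaf [])
 (.leaf []))))
 (.node (.node (.node (.leaf [])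
 (.leaf []))
 (.node (.leaf [])
 (.leaf [])))
 (.node (.node (.leaf [(9,-1),(10,1),(16,-1),(26,1),(41,1)])
 (.leaf []))
 (.node (.leaf [])
 (.leaf []))))))
 (.node (.node (.node (.node (.node (.leaf [])
 (.leaf [(39,1)]))
 (.node (.leaf [])
 (.leaf [])))
 (.node (.node (.leaf [])
 (.leaf []))
 (.node (.leaf [])
 (.leaf []))))
 (.node (.node (.node (.leaf [])
 (.leaf []))
 (.node (.leaf [])
 (.leaf [])))
 (.node (.node (.leaf [])
 (.leaf []))
 (.leaf []))))
 (.node (.node (.node (.node (.leaf [])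
 (.leaf []))
 (.leaf []))
 (.node (.node (.leaf [])
 (.leaf []))
 (.node (.leaf [])
 (.leaf []))))
 (.node (.node (.node (.leaf [(12,-1),(14,1),(17,1)])
 (.leaf []))
 (.node (.leaf [])
 (.leaf [])))
 (.node (.node (.leaf [])
 (.leaf []))
 (.node (.leaf [])
 (.leaf [])))))))
 (.node (.node (.node (.node (.node (.node (.leaf [(6,1)])
 (.leaf [(0,1),(20,1),(32,-1)]))
 (.node (.leaf [])
 (.leaf [])))
 (.node (.node (.leaf [])
 (.leaf []))
 (.node (.leaf [])
 (.leaf []))))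
 (.node (.node (.node (.leaf [])
 (.leaf [(6,2),(12,2),(17,-2),(45,-2)]))
 (.node (.leaf [])
 (.leaf [])))
 (.node (.node (.leaf [(0,1),(10,-1),(16,1),(20,1),(26,-1),(32,-1),(40,1)])
 (.leaf []))
 (.node (.leaf [])
 (.leaf [])))))
 (.node (.node (.node (.node (.leaf [])
 (.leaf [(10,1),(16,-1),(24,1),(26,1),(29,-1)]))
 (.node (.leaf [])
 (.leaf [])))
 (.node (.node (.leaf [])
 (.leaf []))
 (.node (.leaf [(9,-1),(11,1),(14,1),(31,-1),(41,1)])
 (.leaf []))))
 (.node (.node (.node (.leaf [])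
 (.leaf []))
 (.node (.leaf [])
 (.leaf [])))
 (.node (.node (.leaf [])
 (.leaf []))
 (.node (.leaf [])
 (.leaf []))))))
 (.node (.node (.node (.node (.node (.leaf [])
 (.leaf []))
 (.node (.leaf [(12,1)])
 (.leaf [])))
 (.node (.node (.leaf [])
 (.leaf []))
 (.node (.leaf [(6,1),(10,-1),(12,1),(16,1),(17,-1),(26,-1),(28,1)])
 (.leaf []))))
 (.node (.node (.node (.leaf [])
 (.leaf []))
 (.node (.leaf [(8,-1),(27,1),(47,1)])
 (.leaf [])))
 (.node (.node (.leaf [(4,-1),(14,1),(15,1)])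
 (.leaf []))
 (.node (.leaf [(2,1),(4,1),(6,-1),(12,-1),(15,-1),(17,1),(36,-1),(39,1),(45,1)])
 (.leaf [])))))
 (.node (.node (.node (.node (.leaf [])
 (.leaf []))
 (.node (.leaf [])
 (.leaf [])))
 (.node (.node (.leaf [])
 (.leaf []))
 (.node (.leaf [])
 (.leaf []))))
 (.node (.node (.node (.leaf [])
 (.leaf []))
 (.node (.leaf [])
 (.leaf [])))
 (.node (.node (.leaf [(5,-1),(26,1),(43,1)])
 (.leaf []))
 (.node (.leaf [(21,1)])
 (.leaf []))))))))
 (.node (.node (.node (.node (.node (.node (.node (.leaf [])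
 (.leaf [(18,1),(21,1),(23,-1)]))
 (.node (.leaf [])
 (.leaf [])))
 (.node (.node (.leaf [])
 (.leaf []))
 (.node (.leaf [(10,1),(16,-1),(19,1),(26,1),(28,-1)])
 (.leaf []))))
 (.node (.node (.node (.leaf [(19,1),(28,-1),(30,1)])
 (.leaf [(6,-2),(12,-2),(17,2)]))
 (.node (.leaf [])
 (.leaf [])))
 (.node (.node (.leaf [(9,1)])
 (.leaf []))
 (.node (.leaf [])
 (.leaf [])))))
 (.node (.node (.node (.node (.leaf [])
 (.leaf []))
 (.node (.leaf [])
 (.leaf [])))
 (.node (.node (.leaf [(2,-1),(4,-1),(10,1),(15,1),(16,-1),(26,1),(36,1)])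
 (.leaf []))
 (.node (.leaf [(7,1),(10,-1),(13,1),(16,1),(22,-1),(26,-1),(29,1)])
 (.leaf []))))
 (.node (.node (.node (.leaf [])
 (.leaf []))
 (.node (.leaf [])
 (.leaf [])))
 (.node (.node (.leaf [])
 (.leaf []))
 (.node (.leaf [])
 (.leaf []))))))
 (.node (.node (.node (.node (.node (.leaf [])
 (.leaf []))
 (.node (.leaf [(4,1)])
 (.leaf [])))
 (.node (.node (.leaf [])
 (.leaf []))
 (.node (.leaf [])
 (.leaf []))))
 (.node (.node (.node (.leaf [])
 (.leaf []))
 (.node (.leaf [(3,-1),(8,1),(10,1),(16,-1),(26,1),(27,-1),(34,1)])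
 (.leaf [])))
 (.node (.node (.leaf [])
 (.leaf []))
 (.node (.leaf [])
 (.leaf [])))))
 (.node (.node (.node (.node (.leaf [])
 (.leaf []))
 (.node (.leaf [(2,1),(4,1),(7,-1),(13,-1),(15,-1),(22,1),(36,-1),(39,1),(46,1)])
 (.leaf [])))
 (.node (.node (.leaf [(0,1)])
 (.leaf []))
 (.node (.leaf [])
 (.leaf []))))
 (.node (.node (.leaf [])
 (.node (.leaf [])
 (.leaf [])))
 (.node (.node (.leaf [(0,-1),(5,1),(10,1),(16,-1),(32,1)])
 (.leaf []))
 (.node (.leaf [])
 (.leaf [])))))))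
 (.node (.node (.node (.node (.node (.node (.leaf [])
 (.leaf []))
 (.leaf []))
 (.node (.node (.leaf [(3,-1),(10,1),(16,-1),(26,1),(34,1)])
 (.leaf []))
 (.node (.leaf [(5,1),(10,1),(16,-1),(21,-1),(23,1)])
 (.leaf []))))
 (.node (.node (.node (.leaf [])
 (.leaf []))
 (.node (.leaf [])
 (.leaf [])))
 (.node (.node (.leaf [])
 (.leaf []))
 (.node (.leaf [])
 (.leaf [])))))
 (.node (.node (.node (.node (.leaf [(28,1)])
 (.leaf [(3,1),(34,-1),(37,1)]))
 (.node (.leaf [])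
 (.leaf [])))
 (.node (.node (.leaf [])
 (.leaf []))
 (.node (.leaf [(10,1),(11,-1),(14,-1),(16,-1),(26,1),(31,1),(48,1)])
 (.leaf []))))
 (.node (.node (.node (.leaf [])
 (.leaf []))
 (.node (.leaf [])
 (.leaf [])))
 (.node (.node (.leaf [])
 (.leaf []))
 (.leaf [])))))
 (.node (.node (.node (.node (.node (.leaf [(0,1)])
 (.leaf [(10,1),(16,-1),(19,1),(26,1),(28,-1)]))
 (.node (.leaf [(3,1),(12,-1),(34,-1),(37,1),(44,1)])
 (.leaf [])))
 (.node (.node (.leaf [])
 (.leaf []))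
 (.node (.leaf [])
 (.leaf []))))
 (.node (.node (.node (.leaf [(0,-1),(10,1),(16,-1),(26,1),(32,1)])
 (.leaf []))
 (.node (.leaf [])
 (.leaf [])))
 (.node (.node (.leaf [])
 (.leaf []))
 (.node (.leaf [])
 (.leaf [])))))
 (.node (.node (.node (.node (.leaf [])
 (.leaf []))
 (.node (.leaf [(21,1)])
 (.leaf [])))
 (.node (.node (.leaf [])
 (.leaf []))
 (.node (.leaf [(8,1),(27,-1),(30,1)])
 (.leaf []))))
 (.node (.node (.node (.leaf [])
 (.leaf []))
 (.node (.leaf [])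
 (.leaf [])))
 (.node (.node (.leaf [(3,1)])
 (.leaf []))
 (.node (.leaf [])
 (.leaf [])))))))))
 (.node (.node (.node (.node (.node (.node (.node (.node (.leaf [])
 (.leaf []))
 (.node (.leaf [])
 (.leaf [])))
 (.node (.node (.leaf [(7,-1),(13,-1),(18,1),(21,1),(22,1),(23,-1),(46,1)])
 (.leaf []))
 (.node (.leaf [])
 (.leaf []))))
 (.node (.node (.node (.leaf [])
 (.leaf [(30,-2)]))
 (.node (.leaf [])
 (.leaf [])))
 (.node (.node (.leaf [(4,1),(13,-1),(22,1)])
 (.leaf []))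
 (.node (.leaf [])
 (.leaf [])))))
 (.node (.node (.node (.node (.leaf [(7,1),(13,1),(22,-1)])
 (.leaf []))
 (.node (.leaf [])
 (.leaf [])))
 (.node (.node (.leaf [])
 (.leaf []))
 (.node (.leaf [])
 (.leaf []))))
 (.node (.node (.node (.leaf [])
 (.leaf []))
 (.node (.leaf [])
 (.leaf [])))
 (.node (.node (.leaf [])
 (.leaf []))
 (.node (.leaf [])
 (.leaf []))))))
 (.node (.node (.node (.node (.node (.leaf [(3,1)])
 (.leaf [(8,-1),(27,1),(47,1)]))
 (.node (.leaf [(3,1),(34,-1),(37,1)])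
 (.leaf [])))
 (.node (.node (.leaf [])
 (.leaf []))
 (.node (.leaf [(11,1),(12,-1),(14,1),(31,-1),(44,1)])
 (.leaf []))))
 (.node (.node (.node (.leaf [(10,1),(16,-1),(24,1),(26,1),(29,-1)])
 (.leaf []))
 (.node (.leaf [])
 (.leaf [])))
 (.node (.leaf [])
 (.node (.leaf [])
 (.leaf [])))))
 (.node (.node (.node (.node (.leaf [])
 (.leaf []))
 (.node (.leaf [])
 (.leaf [])))
 (.node (.node (.leaf [])
 (.leaf []))
 (.node (.leaf [(2,-1),(4,-1),(10,1),(15,1),(16,-1),(26,1),(36,1)])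
 (.leaf []))))
 (.node (.node (.node (.leaf [])
 (.leaf []))
 (.node (.leaf [])
 (.leaf [])))
 (.node (.node (.leaf [(29,1)])
 (.leaf []))
 (.node (.leaf [])
 (.leaf [])))))))
 (.node (.node (.node (.node (.node (.node (.leaf [(13,1)])
 (.leaf [(4,1),(35,-1),(38,1)]))
 (.node (.leaf [])
 (.leaf [])))
 (.node (.node (.leaf [])
 (.leaf []))
 (.node (.leaf [])
 (.leaf []))))
 (.node (.node (.node (.leaf [])
 (.leaf [(4,-2),(35,2),(38,-2)]))
 (.node (.leaf [])
 (.leaf [])))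
 (.node (.node (.leaf [])
 (.leaf []))
 (.node (.leaf [])
 (.leaf [])))))
 (.node (.node (.node (.node (.leaf [])
 (.leaf []))
 (.node (.leaf [(2,1),(4,1),(15,-1),(36,-1),(39,1)])
 (.leaf [])))
 (.node (.leaf [])
 (.node (.leaf [])
 (.leaf []))))
 (.node (.node (.node (.leaf [(44,1)])
 (.leaf []))
 (.node (.leaf [])
 (.leaf [])))
 (.node (.node (.leaf [(3,-1),(6,1),(12,1),(17,-1),(34,1)])
 (.leaf []))
 (.node (.leaf [])
 (.leaf []))))))
 (.node (.node (.node (.node (.node (.leaf [])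
 (.leaf []))
 (.node (.leaf [])
 (.leaf [])))
 (.node (.node (.leaf [(8,-1),(19,1),(27,1),(28,-1),(47,1)])
 (.leaf []))
 (.node (.leaf [(3,-1),(10,1),(16,-1),(26,1),(34,1)])
 (.leaf []))))
 (.node (.node (.node (.leaf [(10,-1),(14,1),(16,1),(26,-1),(27,1)])
 (.leaf []))
 (.node (.leaf [])
 (.leaf [])))
 (.node (.node (.leaf [(27,1)])
 (.leaf []))
 (.node (.leaf [])
 (.leaf [])))))
 (.node (.node (.node (.node (.leaf [(8,1),(10,1),(16,-1),(26,1),(27,-1)])
 (.leaf []))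
 (.node (.leaf [])
 (.leaf [])))
 (.node (.node (.leaf [(12,1)])
 (.leaf []))
 (.node (.leaf [])
 (.leaf []))))
 (.node (.node (.node (.leaf [])
 (.leaf []))
 (.node (.leaf [])
 (.leaf [])))
 (.node (.node (.leaf [])
 (.leaf []))
 (.node (.leaf [(6,-1),(10,1),(12,-1),(16,-1),(17,1),(19,1),(26,1),(28,-1),(45,1)])
 (.leaf []))))))))
 (.node (.node (.node (.node (.node (.node (.node (.leaf [])
 (.leaf [(7,-1),(10,1),(13,-1),(16,-1),(22,1),(24,1),(26,1),(29,-1),(46,1)]))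
 (.node (.leaf [])
 (.leaf [])))
 (.node (.node (.leaf [])
 (.leaf []))
 (.node (.leaf [])
 (.leaf []))))
 (.node (.node (.node (.leaf [])
 (.leaf [(8,-2),(27,2)]))
 (.node (.leaf [])
 (.leaf [])))
 (.node (.node (.leaf [(13,1)])
 (.leaf []))
 (.node (.leaf [])
 (.leaf [])))))
 (.node (.node (.node (.node (.leaf [])
 (.leaf []))
 (.node (.leaf [(10,1),(16,-1),(19,1),(26,1),(28,-1)])
 (.leaf [])))
 (.node (.node (.leaf [])
 (.leaf []))
 (.node (.leaf [(4,-1),(10,1),(16,-1),(26,1),(35,1)])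
 (.leaf []))))
 (.node (.node (.node (.leaf [])
 (.leaf []))
 (.node (.leaf [])
 (.leaf [])))
 (.node (.node (.leaf [(28,1)])
 (.leaf []))
 (.node (.leaf [])
 (.leaf []))))))
 (.node (.node (.node (.node (.node (.leaf [])
 (.leaf []))
 (.node (.leaf [])
 (.leaf [])))
 (.node (.node (.leaf [])
 (.leaf []))
 (.node (.leaf [])
 (.leaf []))))
 (.node (.node (.node (.leaf [(4,-1),(10,1),(15,1),(16,-1),(26,1)])
 (.leaf []))
 (.node (.leaf [])
 (.leaf [])))
 (.node (.node (.leaf [(1,1),(25,1),(33,-1)])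
 (.leaf []))
 (.node (.leaf [])
 (.leaf [])))))
 (.node (.node (.node (.node (.leaf [])
 (.leaf []))
 (.node (.leaf [])
 (.leaf [])))
 (.node (.node (.leaf [(3,1),(12,-1),(17,1)])
 (.leaf []))
 (.node (.leaf [(2,1),(4,1),(8,-1),(10,-1),(15,-1),(16,1),(26,-1),(27,1),(36,-1),(39,1),(47,1)])
 (.leaf []))))
 (.node (.node (.node (.leaf [])
 (.leaf []))
 (.node (.leaf [])
 (.leaf [])))
 (.node (.node (.leaf [(4,-1),(7,1),(13,1),(22,-1),(35,1)])
 (.leaf []))
 (.node (.leaf [])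
 (.leaf [])))))))
 (.node (.node (.node (.node (.node (.node (.leaf [])
 (.leaf []))
 (.node (.leaf [])
 (.leaf [])))
 (.node (.node (.leaf [])
 (.leaf []))
 (.leaf [])))
 (.node (.node (.node (.leaf [])
 (.leaf []))
 (.node (.leaf [])
 (.leaf [])))
 (.node (.node (.leaf [(2,1),(4,1),(15,-1),(21,-1),(23,1)])
 (.leaf []))
 (.node (.leaf [])
 (.leaf [])))))
 (.node (.node (.node (.node (.leaf [(35,1)])
 (.leaf []))
 (.node (.leaf [])
 (.leaf [])))
 (.node (.node (.leaf [])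
 (.leaf []))
 (.node (.leaf [])
 (.leaf []))))
 (.node (.node (.node (.leaf [])
 (.leaf []))
 (.leaf []))
 (.node (.node (.leaf [(0,1),(11,-1),(14,-1),(20,1),(31,1),(32,-1),(48,1)])
 (.leaf []))
 (.node (.leaf [(8,1),(10,1),(12,-1),(16,-1),(26,1),(27,-1),(44,1)])
 (.leaf []))))))
 (.node (.node (.node (.node (.node (.leaf [(4,1)])
 (.leaf []))
 (.node (.leaf [])
 (.leaf [])))
 (.node (.node (.leaf [])
 (.leaf []))
 (.node (.leaf [])
 (.leaf []))))
 (.node (.node (.node (.leaf [(42,1)])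
 (.leaf []))
 (.node (.leaf [])
 (.leaf [])))
 (.node (.node (.leaf [])
 (.leaf []))
 (.node (.leaf [])
 (.leaf [])))))
 (.node (.node (.node (.node (.leaf [])
 (.leaf []))
 (.node (.leaf [(10,1),(16,-1),(24,1),(26,1),(29,-1)])
 (.leaf [])))
 (.node (.node (.leaf [(11,1),(14,1),(31,-1)])
 (.leaf []))
 (.node (.leaf [])
 (.leaf []))))
 (.node (.node (.node (.leaf [(2,1),(4,1),(10,-1),(15,-1),(16,1),(26,-1),(30,1)])
 (.leaf []))
 (.node (.leaf [])
 (.leaf [])))
 (.node (.node (.leaf [])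
 (.leaf []))
 (.node (.leaf [(3,1),(34,-1),(37,1)])
 (.leaf []))))))))))))
 (.node (.node (.node (.node (.node (.node (.node (.node (.node (.node (.node (.leaf [])
 (.leaf []))
 (.node (.leaf [(9,1)])
 (.leaf [])))
 (.node (.node (.leaf [])
 (.leaf []))
 (.node (.leaf [(2,1),(4,1),(15,-1)])
 (.leaf []))))
 (.node (.node (.node (.leaf [(1,1)])
 (.leaf [(0,-2)]))
 (.node (.leaf [])
 (.leaf [])))
 (.node (.node (.leaf [])
 (.leaf []))
 (.node (.leaf [(10,-1),(11,1),(14,1),(16,1),(26,-1),(31,-1),(40,1)])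
 (.leaf [])))))
 (.node (.node (.node (.node (.leaf [])
 (.leaf [(0,1),(20,1),(32,-1)]))
 (.node (.leaf [])
 (.leaf [])))
 (.node (.node (.leaf [])
 (.leaf []))
 (.node (.leaf [])
 (.leaf []))))
 (.node (.node (.node (.leaf [])
 (.leaf []))
 (.node (.leaf [])
 (.leaf [])))
 (.node (.node (.leaf [])
 (.leaf []))
 (.node (.leaf [(19,1)])
 (.leaf []))))))
 (.node (.node (.node (.node (.node (.leaf [])
 (.leaf [(20,1)]))
 (.node (.leaf [])
 (.leaf [])))
 (.node (.node (.leaf [])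
 (.leaf []))
 (.node (.leaf [])
 (.leaf []))))
 (.node (.node (.node (.leaf [(5,1),(10,1),(16,-1),(21,-1),(23,1)])
 (.leaf []))
 (.node (.leaf [(15,1)])
 (.leaf [])))
 (.node (.leaf [])
 (.node (.leaf [])
 (.leaf [])))))
 (.node (.node (.node (.node (.leaf [])
 (.leaf []))
 (.node (.leaf [])
 (.leaf [])))
 (.node (.leaf [])
 (.node (.leaf [])
 (.leaf []))))
 (.node (.node (.node (.leaf [])
 (.leaf []))
 (.node (.leaf [(11,1),(12,-1),(14,1),(31,-1),(44,1)])
 (.leaf [])))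
 (.node (.node (.leaf [])
 (.leaf []))
 (.node (.leaf [])
 (.leaf [])))))))
 (.node (.node (.node (.node (.node (.node (.leaf [])
 (.leaf []))
 (.node (.leaf [])
 (.leaf [])))
 (.node (.node (.leaf [(10,-1),(14,1),(16,1)])
 (.leaf []))
 (.node (.leaf [(1,1),(7,-1),(13,-1),(22,1),(25,1),(33,-1),(46,1)])
 (.leaf []))))
 (.node (.node (.node (.leaf [])
 (.leaf [(40,-2)]))
 (.node (.leaf [(0,-1),(6,1),(12,1),(17,-1),(32,1)])
 (.leaf [])))
 (.node (.node (.leaf [])
 (.leaf []))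
 (.node (.leaf [])
 (.leaf [])))))
 (.node (.node (.node (.node (.leaf [])
 (.leaf []))
 (.node (.leaf [])
 (.leaf [])))
 (.node (.node (.leaf [])
 (.leaf []))
 (.node (.leaf [])
 (.leaf []))))
 (.node (.node (.node (.leaf [])
 (.leaf []))
 (.node (.leaf [(3,1)])
 (.leaf [])))
 (.node (.node (.leaf [])
 (.leaf []))
 (.node (.leaf [(10,1),(11,-1),(14,-1),(16,-1),(26,1),(31,1),(48,1)])
 (.leaf []))))))
 (.node (.node (.node (.node (.node (.leaf [])
 (.leaf []))
 (.node (.leaf [(10,1)])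
 (.leaf [])))
 (.node (.node (.leaf [(0,-1),(10,1),(16,-1),(26,1),(32,1)])
 (.leaf []))
 (.node (.leaf [])
 (.leaf []))))
 (.node (.node (.node (.leaf [])
 (.leaf []))
 (.node (.leaf [(16,-1),(26,1),(42,1)])
 (.leaf [])))
 (.node (.node (.leaf [])
 (.leaf []))
 (.node (.leaf [])
 (.leaf [])))))
 (.node (.node (.node (.node (.leaf [(9,1),(12,-1),(17,1)])
 (.leaf []))
 (.node (.leaf [])
 (.leaf [])))
 (.node (.node (.leaf [])
 (.leaf []))
 (.node (.leaf [])
 (.leaf []))))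
 (.node (.node (.node (.leaf [])
 (.leaf []))
 (.node (.leaf [(21,1)])
 (.leaf [])))
 (.node (.node (.leaf [])
 (.leaf []))
 (.node (.leaf [])
 (.leaf []))))))))
 (.node (.node (.node (.node (.node (.node (.node (.leaf [])
 (.leaf [(5,1),(10,1),(16,-1)]))
 (.node (.leaf [])
 (.leaf [])))
 (.node (.node (.leaf [])
 (.leaf []))
 (.node (.leaf [(18,1),(21,1),(23,-1)])
 (.leaf []))))
 (.node (.node (.node (.leaf [(10,1),(13,-1),(22,1)])
 (.leaf [(5,-2),(26,2)]))
 (.node (.leaf [])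
 (.leaf [])))
 (.node (.node (.leaf [])
 (.leaf []))
 (.node (.leaf [])
 (.leaf [])))))
 (.node (.node (.node (.node (.leaf [])
 (.leaf []))
 (.node (.leaf [])
 (.leaf [])))
 (.node (.node (.leaf [(1,-1),(10,1),(16,-1),(26,1),(33,1)])
 (.leaf []))
 (.node (.leaf [(16,1)])
 (.leaf []))))
 (.node (.node (.node (.leaf [])
 (.leaf []))
 (.node (.leaf [(5,-1),(26,1),(43,1)])
 (.leaf [])))
 (.node (.node (.leaf [])
 (.leaf []))
 (.node (.leaf [(2,1),(4,1),(5,-1),(10,-1),(15,-1),(16,1),(36,-1),(39,1),(43,1)])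
 (.leaf []))))))
 (.node (.node (.node (.node (.node (.leaf [])
 (.leaf []))
 (.node (.leaf [(14,1)])
 (.leaf [])))
 (.node (.node (.leaf [])
 (.leaf []))
 (.leaf [])))
 (.node (.node (.node (.leaf [])
 (.leaf []))
 (.node (.leaf [(1,-1),(7,1),(13,1),(22,-1),(33,1)])
 (.leaf [])))
 (.node (.node (.leaf [])
 (.leaf []))
 (.node (.leaf [(18,1)])
 (.leaf [])))))
 (.node (.node (.node (.node (.leaf [(0,1)])
 (.leaf [(21,1)]))
 (.node (.leaf [])
 (.leaf [])))
 (.node (.node (.leaf [])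
 (.leaf []))
 (.node (.leaf [])
 (.leaf []))))
 (.node (.node (.node (.leaf [])
 (.leaf []))
 (.node (.leaf [])
 (.leaf [])))
 (.node (.node (.leaf [])
 (.leaf []))
 (.node (.leaf [])
 (.leaf [])))))))
 (.node (.node (.node (.node (.node (.node (.leaf [])
 (.leaf []))
 (.node (.leaf [])
 (.leaf [])))
 (.node (.node (.leaf [(10,1),(14,-1),(16,-1),(26,1),(31,1)])
 (.leaf []))
 (.node (.leaf [])
 (.leaf []))))
 (.node (.node (.node (.leaf [])
 (.leaf []))
 (.node (.leaf [(9,-1),(10,1),(16,-1),(26,1),(41,1)])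
 (.leaf [])))
 (.node (.node (.leaf [])
 (.leaf []))
 (.node (.leaf [])
 (.leaf [])))))
 (.node (.node (.node (.node (.leaf [(26,1)])
 (.leaf [(1,1),(25,1),(33,-1)]))
 (.node (.leaf [(1,1)])
 (.leaf [])))
 (.node (.node (.leaf [(2,1),(4,1),(15,-1),(21,-1),(23,1)])
 (.leaf []))
 (.node (.leaf [])
 (.leaf []))))
 (.node (.node (.node (.leaf [])
 (.leaf []))
 (.leaf []))
 (.node (.node (.leaf [])
 (.leaf []))
 (.node (.leaf [(9,1)])
 (.leaf []))))))
 (.node (.node (.node (.node (.node (.leaf [])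
 (.leaf [(6,1),(12,1),(17,-1)]))
 (.node (.leaf [])
 (.leaf [])))
 (.node (.node (.leaf [])
 (.leaf []))
 (.node (.leaf [])
 (.leaf []))))
 (.node (.node (.node (.leaf [])
 (.leaf []))
 (.node (.leaf [])
 (.leaf [])))
 (.node (.node (.leaf [])
 (.leaf []))
 (.node (.leaf [])
 (.leaf [])))))
 (.node (.node (.node (.node (.leaf [])
 (.leaf []))
 (.node (.leaf [])
 (.leaf [])))
 (.node (.node (.leaf [])
 (.leaf []))
 (.node (.leaf [(17,1)])
 (.leaf []))))
 (.node (.node (.node (.leaf [])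
 (.leaf []))
 (.node (.leaf [(0,1),(6,-1),(12,-1),(17,1),(20,1),(32,-1),(45,1)])
 (.leaf [])))
 (.node (.node (.leaf [])
 (.leaf []))
 (.node (.leaf [])
 (.leaf [])))))))))
 (.node (.node (.node (.node (.node (.node (.node (.node (.leaf [])
 (.leaf []))
 (.node (.leaf [(13,1)])
 (.leaf [])))
 (.node (.node (.leaf [(5,1),(26,-1),(40,1)])
 (.leaf []))
 (.node (.leaf [])
 (.leaf []))))
 (.node (.node (.node (.leaf [])
 (.leaf [(13,2),(22,-2)]))
 (.node (.leaf [(1,1),(25,1),(33,-1)])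
 (.leaf [])))
 (.node (.node (.leaf [])
 (.leaf []))
 (.node (.leaf [])
 (.leaf [])))))
 (.node (.node (.node (.node (.leaf [(10,1)])
 (.leaf [(4,1),(35,-1),(38,1)]))
 (.node (.leaf [(1,1),(21,-1),(23,1)])
 (.leaf [])))
 (.node (.node (.leaf [])
 (.leaf []))
 (.node (.leaf [])
 (.leaf []))))
 (.node (.node (.node (.leaf [])
 (.leaf []))
 (.node (.leaf [])
 (.leaf [])))
 (.node (.node (.leaf [])
 (.leaf []))
 (.node (.leaf [(4,-1),(10,1),(16,-1),(26,1),(35,1)])
 (.leaf []))))))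
 (.node (.node (.node (.node (.node (.leaf [(1,1)])
 (.leaf [(16,-1),(26,1),(42,1)]))
 (.node (.leaf [])
 (.leaf [])))
 (.node (.node (.leaf [(4,-1),(10,1),(15,1),(16,-1),(26,1)])
 (.leaf []))
 (.node (.leaf [])
 (.leaf []))))
 (.node (.node (.leaf [])
 (.node (.leaf [])
 (.leaf [])))
 (.node (.node (.leaf [])
 (.leaf []))
 (.node (.leaf [])
 (.leaf [])))))
 (.node (.node (.node (.node (.leaf [])
 (.leaf []))
 (.leaf []))
 (.node (.node (.leaf [(8,1),(10,1),(12,-1),(16,-1),(26,1),(27,-1),(44,1)])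
 (.leaf []))
 (.node (.leaf [(1,-1),(10,1),(16,-1),(26,1),(33,1)])
 (.leaf []))))
 (.node (.node (.node (.leaf [])
 (.leaf []))
 (.node (.leaf [])
 (.leaf [])))
 (.node (.node (.leaf [])
 (.leaf []))
 (.node (.leaf [])
 (.leaf [])))))))
 (.node (.node (.node (.node (.node (.node (.leaf [])
 (.leaf []))
 (.node (.leaf [(12,-1),(14,1),(17,1)])
 (.leaf [])))
 (.node (.node (.leaf [])
 (.leaf []))
 (.node (.leaf [(4,1),(35,-1),(38,1)])
 (.leaf []))))
 (.node (.node (.node (.leaf [])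
 (.leaf [(11,-2),(14,-2),(31,2)]))
 (.node (.leaf [(4,-1),(8,1),(10,1),(16,-1),(26,1),(27,-1),(35,1)])
 (.leaf [])))
 (.node (.node (.leaf [])
 (.leaf []))
 (.leaf []))))
 (.node (.node (.node (.node (.leaf [])
 (.leaf []))
 (.node (.leaf [(0,1),(20,1),(32,-1)])
 (.leaf [])))
 (.node (.node (.leaf [])
 (.leaf []))
 (.node (.leaf [])
 (.leaf []))))
 (.node (.node (.node (.leaf [])
 (.leaf []))
 (.node (.leaf [])
 (.leaf [])))
 (.node (.node (.leaf [(1,-1),(5,1),(10,1),(16,-1),(33,1)])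
 (.leaf []))
 (.node (.leaf [])
 (.leaf []))))))
 (.node (.node (.node (.node (.node (.leaf [])
 (.leaf []))
 (.node (.leaf [])
 (.leaf [])))
 (.node (.node (.leaf [(6,1),(9,-1),(12,1),(17,-1),(41,1)])
 (.leaf []))
 (.node (.leaf [(10,1),(14,-1),(16,-1),(26,1),(31,1)])
 (.leaf []))))
 (.node (.node (.node (.leaf [])
 (.leaf []))
 (.node (.leaf [])
 (.leaf [])))
 (.node (.node (.leaf [])
 (.leaf []))
 (.node (.leaf [])
 (.leaf [])))))
 (.node (.node (.node (.node (.leaf [(12,1)])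
 (.leaf []))
 (.node (.leaf [])
 (.leaf [])))
 (.node (.node (.leaf [(10,1)])
 (.leaf []))
 (.node (.leaf [])
 (.leaf []))))
 (.node (.node (.node (.leaf [])
 (.leaf []))
 (.node (.leaf [(10,1),(16,-1),(24,1),(26,1),(29,-1)])
 (.leaf [])))
 (.node (.node (.leaf [])
 (.leaf []))
 (.node (.leaf [(16,1),(26,-1),(40,1)])
 (.leaf []))))))))
 (.node (.node (.node (.node (.node (.node (.node (.leaf [])
 (.leaf []))
 (.node (.leaf [])
 (.leaf [])))
 (.node (.node (.leaf [])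
 (.leaf []))
 (.node (.leaf [])
 (.leaf []))))
 (.node (.node (.node (.leaf [(13,1)])
 (.leaf [(7,-2),(13,-2),(22,2)]))
 (.node (.leaf [(27,1)])
 (.leaf [])))
 (.node (.node (.leaf [])
 (.leaf []))
 (.node (.leaf [])
 (.leaf [])))))
 (.node (.node (.node (.node (.leaf [])
 (.leaf []))
 (.node (.leaf [(18,1),(21,1),(23,-1)])
 (.leaf [])))
 (.node (.node (.leaf [(7,1),(10,-1),(13,1),(22,-1),(42,1)])
 (.leaf []))
 (.node (.leaf [])
 (.leaf []))))
 (.node (.node (.node (.leaf [(13,-1),(14,1),(22,1)])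
 (.leaf []))
 (.node (.leaf [(2,1),(4,1),(11,-1),(14,-1),(15,-1),(31,1),(36,-1),(39,1),(48,1)])
 (.leaf [])))
 (.node (.node (.leaf [(26,1)])
 (.leaf []))
 (.node (.leaf [])
 (.leaf []))))))
 (.node (.node (.node (.node (.node (.leaf [(9,1)])
 (.leaf []))
 (.node (.leaf [])
 (.leaf [])))
 (.node (.node (.leaf [(2,1),(4,1),(10,-1),(15,-1),(16,1),(26,-1),(29,1)])
 (.leaf []))
 (.node (.leaf [])
 (.leaf []))))
 (.node (.node (.node (.leaf [])
 (.leaf []))
 (.node (.leaf [])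
 (.leaf [])))
 (.node (.node (.leaf [])
 (.leaf []))
 (.node (.leaf [])
 (.leaf [])))))
 (.node (.node (.node (.node (.leaf [(4,1)])
 (.leaf [(46,1)]))
 (.node (.leaf [])
 (.leaf [])))
 (.node (.node (.leaf [])
 (.leaf []))
 (.node (.leaf [])
 (.leaf []))))
 (.node (.node (.node (.leaf [])
 (.leaf []))
 (.node (.leaf [(4,1),(10,-1),(16,1),(26,-1),(30,1)])
 (.leaf [])))
 (.node (.node (.leaf [])
 (.leaf []))
 (.leaf []))))))
 (.node (.node (.node (.node (.node (.node (.leaf [])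
 (.leaf []))
 (.leaf []))
 (.node (.node (.leaf [])
 (.leaf []))
 (.node (.leaf [])
 (.leaf []))))
 (.node (.node (.node (.leaf [])
 (.leaf []))
 (.node (.leaf [])
 (.leaf [])))
 (.node (.node (.leaf [])
 (.leaf []))
 (.node (.leaf [(2,1),(4,1),(7,-1),(13,-1),(15,-1),(22,1),(36,-1),(39,1),(46,1)])
 (.leaf [])))))
 (.node (.node (.node (.node (.leaf [(31,1)])
 (.leaf []))
 (.node (.leaf [])
 (.leaf [])))
 (.node (.node (.leaf [])
 (.leaf []))
 (.node (.leaf [])
 (.leaf []))))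
 (.node (.node (.leaf [])
 (.node (.leaf [])
 (.leaf [])))
 (.node (.node (.leaf [])
 (.leaf []))
 (.node (.leaf [])
 (.leaf []))))))
 (.node (.node (.node (.node (.node (.leaf [])
 (.leaf [(12,-1),(13,1),(44,1)]))
 (.node (.leaf [])
 (.leaf [])))
 (.node (.node (.leaf [])
 (.leaf []))
 (.node (.leaf [(10,-1),(11,1),(14,1),(31,-1),(42,1)])
 (.leaf []))))
 (.node (.node (.node (.leaf [])
 (.leaf []))
 (.node (.leaf [(29,1)])
 (.leaf [])))
 (.node (.node (.leaf [])
 (.leaf []))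
 (.node (.leaf [])
 (.leaf [])))))
 (.node (.node (.node (.node (.leaf [])
 (.leaf []))
 (.node (.leaf [])
 (.leaf [])))
 (.node (.node (.leaf [])
 (.leaf []))
 (.node (.leaf [])
 (.leaf []))))
 (.node (.node (.node (.leaf [])
 (.leaf []))
 (.node (.leaf [(3,1),(34,-1),(37,1)])
 (.leaf [])))
 (.node (.node (.leaf [])
 (.leaf []))
 (.node (.leaf [(1,1),(25,1),(33,-1)])
 (.leaf []))))))))))
 (.node (.node (.node (.node (.node (.node (.node (.node (.node (.leaf [])
 (.leaf []))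
 (.leaf []))
 (.node (.leaf [])
 (.node (.leaf [])
 (.leaf []))))
 (.node (.node (.node (.leaf [])
 (.leaf [(4,-2)]))
 (.node (.leaf [(4,1),(7,-1),(13,-1),(22,1),(35,-1),(38,1),(46,1)])
 (.leaf [])))
 (.node (.node (.leaf [])
 (.leaf []))
 (.node (.leaf [])
 (.leaf [])))))
 (.node (.node (.node (.node (.leaf [(22,1)])
 (.leaf []))
 (.node (.leaf [(2,1),(4,1),(15,-1)])
 (.leaf [])))
 (.node (.node (.leaf [(4,1),(10,-1),(16,1),(26,-1),(27,1)])
 (.leaf []))
 (.node (.leaf [])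
 (.leaf []))))
 (.node (.node (.node (.leaf [])
 (.leaf []))
 (.node (.leaf [(3,-1),(10,1),(16,-1),(19,1),(26,1),(28,-1),(34,1)])
 (.leaf [])))
 (.node (.node (.leaf [])
 (.leaf []))
 (.node (.leaf [])
 (.leaf []))))))
 (.node (.node (.node (.node (.node (.leaf [])
 (.leaf [(38,1)]))
 (.node (.leaf [])
 (.leaf [])))
 (.node (.node (.leaf [])
 (.leaf []))
 (.node (.leaf [])
 (.leaf []))))
 (.node (.node (.node (.leaf [(8,1),(27,-1),(30,1)])
 (.leaf []))
 (.node (.leaf [])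
 (.leaf [])))
 (.node (.node (.leaf [(9,1)])
 (.leaf []))
 (.node (.leaf [])
 (.leaf [])))))
 (.node (.node (.node (.node (.leaf [])
 (.leaf []))
 (.node (.leaf [(13,1)])
 (.leaf [])))
 (.node (.node (.leaf [])
 (.leaf []))
 (.node (.leaf [(10,-1),(16,1),(18,1),(21,1),(23,-1),(26,-1),(29,1)])
 (.leaf []))))
 (.node (.node (.node (.leaf [])
 (.leaf []))
 (.node (.leaf [])
 (.leaf [])))
 (.node (.node (.leaf [])
 (.leaf []))
 (.node (.leaf [])
 (.leaf [])))))))
 (.node (.node (.node (.node (.node (.node (.leaf [])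
 (.leaf [(11,1),(14,1),(31,-1)]))
 (.node (.leaf [(3,1)])
 (.leaf [])))
 (.node (.node (.leaf [])
 (.leaf []))
 (.node (.leaf [])
 (.leaf []))))
 (.node (.node (.node (.leaf [])
 (.leaf [(12,2),(44,-2)]))
 (.node (.leaf [])
 (.leaf [])))
 (.node (.node (.leaf [])
 (.leaf []))
 (.node (.leaf [(19,1),(28,-1),(30,1)])
 (.leaf [])))))
 (.node (.node (.node (.node (.leaf [])
 (.leaf []))
 (.node (.leaf [(3,1),(6,-1),(12,-1),(17,1),(34,-1),(37,1),(45,1)])
 (.leaf [])))
 (.node (.node (.leaf [])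
 (.leaf []))
 (.node (.leaf [])
 (.leaf []))))
 (.node (.node (.node (.leaf [])
 (.leaf []))
 (.node (.leaf [])
 (.leaf [])))
 (.node (.node (.leaf [])
 (.leaf []))
 (.node (.leaf [])
 (.leaf []))))))
 (.node (.node (.node (.node (.node (.leaf [])
 (.leaf []))
 (.node (.leaf [])
 (.leaf [])))
 (.node (.node (.leaf [(3,-1),(10,1),(16,-1),(26,1),(34,1)])
 (.leaf []))
 (.node (.leaf [(10,-1),(12,1),(16,1),(26,-1),(27,1)])
 (.leaf []))))
 (.node (.node (.node (.leaf [])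
 (.leaf []))
 (.node (.leaf [])
 (.leaf [])))
 (.node (.node (.leaf [])
 (.leaf []))
 (.node (.leaf [(4,1),(12,-1),(35,-1),(38,1),(44,1)])
 (.leaf [])))))
 (.node (.node (.node (.node (.leaf [])
 (.leaf [(3,1),(34,-1),(37,1)]))
 (.node (.leaf [])
 (.leaf [])))
 (.node (.node (.leaf [])
 (.leaf []))
 (.node (.leaf [(10,1),(11,-1),(14,-1),(16,-1),(26,1),(31,1),(48,1)])
 (.leaf []))))
 (.node (.node (.node (.leaf [])
 (.leaf []))
 (.node (.leaf [])
 (.leaf [])))
 (.node (.node (.leaf [(16,-1),(26,1),(42,1)])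
 (.leaf []))
 (.leaf [])))))))
 (.node (.node (.node (.node (.node (.node (.node (.leaf [])
 (.leaf [(7,1),(13,1),(22,-1)]))
 (.node (.leaf [])
 (.leaf [])))
 (.node (.node (.leaf [])
 (.leaf []))
 (.node (.leaf [(8,1),(10,1),(16,-1),(26,1),(27,-1)])
 (.leaf []))))
 (.node (.node (.node (.leaf [])
 (.leaf [(12,-2)]))
 (.node (.leaf [])
 (.leaf [])))
 (.node (.node (.leaf [])
 (.leaf []))
 (.leaf []))))
 (.node (.node (.node (.node (.leaf [])
 (.leaf []))
 (.node (.leaf [(6,1),(12,1),(17,-1)])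
 (.leaf [])))
 (.node (.node (.leaf [(4,-1),(10,1),(16,-1),(26,1),(35,1)])
 (.leaf []))
 (.node (.leaf [])
 (.leaf []))))
 (.node (.node (.node (.leaf [])
 (.leaf []))
 (.node (.leaf [(8,-1),(27,1),(47,1)])
 (.leaf [])))
 (.node (.node (.leaf [(0,1),(4,-1),(15,1)])
 (.leaf []))
 (.node (.leaf [])
 (.leaf []))))))
 (.node (.node (.node (.node (.node (.leaf [(17,1)])
 (.leaf []))
 (.node (.leaf [])
 (.leaf [])))
 (.node (.node (.leaf [])
 (.leaf []))
 (.node (.leaf [])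
 (.leaf []))))
 (.node (.node (.node (.leaf [])
 (.leaf []))
 (.node (.leaf [])
 (.leaf [])))
 (.node (.node (.leaf [(10,-1),(11,1),(14,1),(16,1),(26,-1),(31,-1),(40,1)])
 (.leaf []))
 (.node (.leaf [])
 (.leaf [])))))
 (.node (.node (.node (.node (.leaf [])
 (.leaf [(10,1),(16,-1),(24,1),(26,1),(29,-1)]))
 (.node (.leaf [])
 (.leaf [])))
 (.node (.node (.leaf [(14,1)])
 (.leaf []))
 (.node (.leaf [(0,1),(9,-1),(20,1),(32,-1),(41,1)])
 (.leaf []))))
 (.node (.node (.node (.leaf [])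
 (.leaf []))
 (.node (.leaf [])
 (.leaf [])))
 (.node (.node (.leaf [(10,1),(14,-1),(31,1)])
 (.leaf []))
 (.node (.leaf [])
 (.leaf [])))))))
 (.node (.node (.node (.node (.node (.node (.leaf [])
 (.leaf []))
 (.node (.leaf [])
 (.leaf [])))
 (.node (.node (.leaf [])
 (.leaf []))
 (.node (.leaf [(10,1),(13,-1),(22,1)])
 (.leaf []))))
 (.node (.node (.node (.leaf [(3,1)])
 (.leaf []))
 (.node (.leaf [])
 (.leaf [])))
 (.node (.node (.leaf [(1,1)])
 (.leaf []))
 (.node (.leaf [])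
 (.leaf [])))))
 (.node (.node (.node (.node (.leaf [(27,1)])
 (.leaf []))
 (.node (.leaf [])
 (.leaf [])))
 (.node (.node (.leaf [])
 (.leaf []))
 (.node (.leaf [])
 (.leaf []))))
 (.node (.node (.node (.leaf [])
 (.leaf []))
 (.node (.leaf [])
 (.leaf [])))
 (.node (.node (.leaf [(9,-1),(10,1),(16,-1),(26,1),(41,1)])
 (.leaf []))
 (.node (.leaf [(13,1)])
 (.leaf []))))))
 (.node (.node (.node (.node (.node (.leaf [(14,1)])
 (.leaf [(8,1),(10,1),(16,-1),(26,1),(27,-1)]))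
 (.node (.leaf [])
 (.leaf [])))
 (.node (.node (.leaf [])
 (.leaf []))
 (.node (.leaf [])
 (.leaf []))))
 (.node (.node (.node (.leaf [(10,1),(14,-1),(16,-1),(26,1),(31,1)])
 (.leaf []))
 (.node (.leaf [])
 (.leaf [])))
 (.node (.node (.leaf [])
 (.leaf []))
 (.node (.leaf [])
 (.leaf [])))))
 (.node (.node (.node (.node (.leaf [])
 (.leaf []))
 (.leaf []))
 (.node (.node (.leaf [])
 (.leaf []))
 (.node (.leaf [])
 (.leaf []))))
 (.node (.node (.node (.leaf [(0,1),(12,-1),(17,1)])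
 (.leaf []))
 (.node (.leaf [])
 (.leaf [])))
 (.node (.node (.leaf [])
 (.leaf []))
 (.node (.leaf [])
 (.leaf [])))))))))
 (.node (.node (.node (.node (.node (.node (.node (.node (.leaf [])
 (.leaf []))
 (.node (.leaf [(3,-1),(10,1),(16,-1),(19,1),(26,1),(28,-1),(34,1)])
 (.leaf [])))
 (.node (.node (.leaf [(6,-1),(12,-1),(17,1),(21,1),(45,1)])
 (.leaf []))
 (.node (.leaf [])
 (.leaf []))))
 (.node (.node (.node (.leaf [])
 (.leaf [(29,-2)]))
 (.node (.leaf [(2,1),(4,1),(15,-1),(36,-1),(39,1)])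
 (.leaf [])))
 (.node (.node (.leaf [])
 (.leaf []))
 (.node (.leaf [(8,-1),(27,1),(47,1)])
 (.leaf [])))))
 (.node (.node (.node (.node (.leaf [])
 (.leaf []))
 (.node (.leaf [])
 (.leaf [])))
 (.node (.node (.leaf [])
 (.leaf []))
 (.node (.leaf [])
 (.leaf []))))
 (.node (.node (.node (.leaf [(4,-1),(10,1),(15,1),(16,-1),(26,1)])
 (.leaf []))
 (.leaf []))
 (.node (.node (.leaf [])
 (.leaf []))
 (.node (.leaf [])
 (.leaf []))))))
 (.node (.node (.node (.node (.node (.leaf [])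
 (.leaf [(7,-1),(10,1),(13,-1),(16,-1),(22,1),(26,1),(46,1)]))
 (.node (.leaf [])
 (.leaf [])))
 (.node (.node (.leaf [])
 (.leaf []))
 (.node (.leaf [(5,-1),(26,1),(43,1)])
 (.leaf []))))
 (.node (.node (.node (.leaf [(10,1),(16,-1),(19,1),(26,1),(28,-1)])
 (.leaf []))
 (.node (.leaf [])
 (.leaf [])))
 (.node (.node (.leaf [])
 (.leaf []))
 (.node (.leaf [])
 (.leaf [])))))
 (.node (.node (.node (.node (.leaf [])
 (.leaf []))
 (.node (.leaf [])
 (.leaf [])))
 (.node (.node (.leaf [])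
 (.leaf []))
 (.node (.leaf [])
 (.leaf []))))
 (.node (.node (.node (.leaf [(29,1)])
 (.leaf []))
 (.node (.leaf [])
 (.leaf [])))
 (.node (.node (.leaf [])
 (.leaf []))
 (.node (.leaf [(2,1),(4,1),(11,-1),(14,-1),(15,-1),(31,1),(36,-1),(39,1),(48,1)])
 (.leaf [])))))))
 (.node (.node (.node (.node (.node (.node (.leaf [(12,1)])
 (.leaf []))
 (.node (.leaf [(2,1),(4,1),(10,-1),(15,-1),(16,1),(26,-1),(28,1)])
 (.leaf [])))
 (.node (.node (.leaf [(30,1)])
 (.leaf []))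
 (.node (.leaf [])
 (.leaf []))))
 (.node (.node (.node (.leaf [])
 (.leaf [(3,-2),(34,2),(37,-2)]))
 (.node (.leaf [])
 (.leaf [])))
 (.node (.node (.leaf [(11,1),(14,1),(31,-1)])
 (.leaf []))
 (.node (.leaf [(2,-1),(4,-1),(10,1),(15,1),(16,-1),(26,1),(36,1)])
 (.leaf [])))))
 (.node (.node (.node (.node (.leaf [])
 (.leaf []))
 (.node (.leaf [])
 (.leaf [])))
 (.node (.node (.leaf [])
 (.leaf []))
 (.node (.leaf [(7,-1),(10,1),(13,-1),(16,-1),(22,1),(26,1),(46,1)])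
 (.leaf []))))
 (.node (.node (.node (.leaf [])
 (.leaf []))
 (.node (.leaf [])
 (.leaf [])))
 (.node (.node (.leaf [])
 (.leaf []))
 (.node (.leaf [])
 (.leaf []))))))
 (.node (.node (.node (.node (.node (.leaf [])
 (.leaf []))
 (.node (.leaf [(4,-1),(10,1),(16,-1),(24,1),(26,1),(29,-1),(35,1)])
 (.leaf [])))
 (.node (.node (.leaf [])
 (.leaf []))
 (.leaf [])))
 (.node (.node (.node (.leaf [(10,1),(16,-1),(21,-1),(23,1),(26,1)])
 (.leaf []))
 (.node (.leaf [])
 (.leaf [])))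
 (.node (.node (.leaf [(10,1),(13,-1),(16,-1),(22,1),(26,1)])
 (.leaf []))
 (.node (.leaf [])
 (.leaf [])))))
 (.node (.node (.node (.node (.leaf [])
 (.leaf []))
 (.node (.leaf [])
 (.leaf [])))
 (.node (.node (.leaf [(0,-1),(21,1),(32,1)])
 (.leaf []))
 (.node (.leaf [])
 (.leaf []))))
 (.node (.node (.node (.leaf [])
 (.leaf []))
 (.node (.leaf [])
 (.leaf [])))
 (.node (.node (.leaf [(1,1),(11,-1),(14,-1),(25,1),(31,1),(33,-1),(48,1)])
 (.leaf []))
 (.node (.leaf [(5,-1),(10,-1),(16,1),(18,1),(21,1),(23,-1),(43,1)])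
 (.leaf []))))))))
 (.node (.node (.node (.node (.node (.node (.node (.leaf [(2,1)])
 (.leaf []))
 (.node (.leaf [])
 (.leaf [])))
 (.node (.node (.leaf [])
 (.leaf []))
 (.node (.leaf [])
 (.leaf []))))
 (.node (.node (.node (.leaf [(8,1),(10,1),(16,-1),(26,1),(27,-1)])
 (.leaf [(2,2),(4,2),(15,-2),(36,-2)]))
 (.node (.leaf [(30,1)])
 (.leaf [])))
 (.node (.node (.leaf [(1,-1),(18,1),(21,1),(23,-1),(33,1)])
 (.leaf []))
 (.node (.leaf [])
 (.leaf [])))))
 (.node (.node (.node (.node (.leaf [])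
 (.leaf []))
 (.node (.leaf [])
 (.leaf [])))
 (.node (.node (.leaf [(8,-1),(24,1),(27,1),(29,-1),(47,1)])
 (.leaf []))
 (.node (.leaf [])
 (.leaf []))))
 (.node (.node (.node (.leaf [(28,1)])
 (.leaf []))
 (.node (.leaf [])
 (.leaf [])))
 (.node (.node (.leaf [(10,1),(16,-1),(21,-1),(23,1),(26,1)])
 (.leaf []))
 (.node (.leaf [])
 (.leaf []))))))
 (.node (.node (.node (.node (.node (.leaf [(6,1),(12,1),(17,-1)])
 (.leaf []))
 (.node (.leaf [])
 (.leaf [])))
 (.node (.node (.leaf [])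
 (.leaf []))
 (.node (.leaf [])
 (.leaf []))))
 (.node (.node (.node (.leaf [])
 (.leaf []))
 (.node (.leaf [])
 (.leaf [])))
 (.node (.node (.leaf [(0,1),(20,1),(32,-1)])
 (.leaf []))
 (.node (.leaf [])
 (.leaf [])))))
 (.node (.node (.node (.node (.leaf [])
 (.leaf []))
 (.node (.leaf [(4,1),(35,-1),(38,1)])
 (.leaf [])))
 (.node (.node (.leaf [(1,1),(10,-1),(16,1)])
 (.leaf []))
 (.node (.leaf [])
 (.leaf []))))
 (.node (.node (.node (.leaf [(12,-1),(13,1),(44,1)])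
 (.leaf []))
 (.node (.leaf [])
 (.leaf [])))
 (.node (.node (.leaf [])
 (.leaf []))
 (.node (.leaf [])
 (.leaf [])))))))
 (.node (.node (.node (.node (.node (.node (.leaf [])
 (.leaf []))
 (.node (.leaf [])
 (.leaf [])))
 (.node (.node (.leaf [])
 (.leaf []))
 (.node (.leaf [(1,-1),(10,1),(16,-1),(26,1),(33,1)])
 (.leaf []))))
 (.node (.node (.node (.leaf [])
 (.leaf []))
 (.node (.leaf [])
 (.leaf [])))
 (.node (.node (.leaf [])
 (.leaf []))
 (.node (.leaf [])
 (.leaf [])))))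
 (.node (.node (.node (.node (.leaf [(34,1)])
 (.leaf []))
 (.node (.leaf [])
 (.leaf [])))
 (.node (.node (.leaf [])
 (.leaf []))
 (.node (.leaf [])
 (.leaf []))))
 (.node (.node (.node (.leaf [])
 (.leaf []))
 (.node (.leaf [])
 (.leaf [])))
 (.node (.node (.leaf [])
 (.leaf []))
 (.node (.leaf [(7,1),(10,-1),(13,1),(22,-1),(42,1)])
 (.leaf []))))))
 (.node (.node (.node (.node (.node (.leaf [])
 (.leaf [(8,-1),(24,1),(27,1),(29,-1),(47,1)]))
 (.node (.leaf [])
 (.leaf [])))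
 (.node (.leaf [])
 (.node (.leaf [(6,-1),(10,1),(12,-1),(16,-1),(17,1),(26,1),(45,1)])
 (.leaf []))))
 (.node (.node (.node (.leaf [(41,1)])
 (.leaf []))
 (.node (.leaf [])
 (.leaf [])))
 (.node (.leaf [])
 (.node (.leaf [])
 (.leaf [])))))
 (.node (.node (.node (.node (.leaf [])
 (.leaf []))
 (.node (.leaf [])
 (.leaf [])))
 (.node (.node (.leaf [])
 (.leaf []))
 (.node (.leaf [(4,-1),(10,1),(16,-1),(26,1),(35,1)])
 (.leaf []))))
 (.node (.node (.node (.leaf [])
 (.leaf []))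
 (.node (.leaf [])
 (.leaf [])))
 (.node (.node (.leaf [(4,1),(10,-1),(16,1),(26,-1),(27,1)])
 (.leaf []))
 (.node (.leaf [])
 (.leaf [])))))))))))
 (.node (.node (.node (.node (.node (.node (.node (.node (.node (.node (.leaf [])
 (.leaf []))
 (.node (.leaf [])
 (.leaf [])))
 (.node (.node (.leaf [(1,-1),(10,1),(16,-1),(26,1),(33,1)])
 (.leaf []))
 (.node (.leaf [])
 (.leaf []))))
 (.node (.node (.node (.leaf [(0,1),(4,-1),(15,1)])
 (.leaf [(4,2),(15,-2)]))
 (.node (.leaf [])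
 (.leaf [])))
 (.node (.node (.leaf [])
 (.leaf []))
 (.node (.leaf [(9,-1),(10,1),(16,-1),(26,1),(41,1)])
 (.leaf [])))))
 (.node (.node (.node (.node (.leaf [])
 (.leaf []))
 (.node (.leaf [])
 (.leaf [])))
 (.node (.node (.leaf [(10,1),(16,-1),(21,-1),(23,1),(26,1)])
 (.leaf []))
 (.node (.leaf [])
 (.leaf []))))
 (.node (.node (.node (.leaf [])
 (.leaf []))
 (.node (.leaf [])
 (.leaf [])))
 (.node (.node (.leaf [])
 (.leaf []))
 (.node (.leaf [(30,1)])
 (.leaf []))))))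
 (.node (.node (.node (.node (.node (.leaf [])
 (.leaf []))
 (.node (.leaf [(9,-1),(11,1),(14,1),(31,-1),(41,1)])
 (.leaf [])))
 (.node (.node (.leaf [])
 (.leaf []))
 (.node (.leaf [])
 (.leaf []))))
 (.node (.node (.node (.leaf [(7,1),(10,-1),(13,1),(16,1),(22,-1),(26,-1),(29,1)])
 (.leaf []))
 (.node (.leaf [])
 (.leaf [])))
 (.node (.node (.leaf [])
 (.leaf []))
 (.node (.leaf [(10,1),(11,-1),(14,-1),(16,-1),(26,1),(31,1),(48,1)])
 (.leaf [])))))
 (.node (.node (.node (.node (.leaf [])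
 (.leaf []))
 (.node (.leaf [(1,-1),(5,1),(10,1),(16,-1),(33,1)])
 (.leaf [])))
 (.node (.node (.leaf [(4,-1),(10,1),(16,-1),(26,1),(35,1)])
 (.leaf []))
 (.node (.leaf [(10,1),(16,-1),(21,-1),(23,1),(26,1)])
 (.leaf []))))
 (.node (.node (.node (.leaf [(26,1)])
 (.leaf []))
 (.node (.leaf [])
 (.leaf [])))
 (.node (.node (.leaf [])
 (.leaf []))
 (.node (.leaf [])
 (.leaf [])))))))
 (.node (.node (.node (.node (.node (.node (.leaf [])
 (.leaf []))
 (.node (.leaf [])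
 (.leaf [])))
 (.node (.node (.leaf [(10,1),(12,-1),(16,-1),(17,1),(26,1)])
 (.leaf []))
 (.node (.leaf [])
 (.leaf []))))
 (.node (.node (.node (.leaf [])
 (.leaf [(10,2),(42,-2)]))
 (.node (.leaf [])
 (.leaf [])))
 (.node (.node (.leaf [])
 (.leaf []))
 (.node (.leaf [(28,1)])
 (.leaf [])))))
 (.node (.node (.node (.node (.leaf [])
 (.leaf [(35,1)]))
 (.node (.leaf [(1,1),(5,-1),(10,-1),(16,1),(25,1),(33,-1),(43,1)])
 (.leaf [])))
 (.node (.node (.leaf [])
 (.leaf []))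
 (.node (.leaf [(40,1)])
 (.leaf []))))
 (.node (.node (.node (.leaf [(10,1),(14,-1),(16,-1),(26,1),(31,1)])
 (.leaf []))
 (.node (.leaf [])
 (.leaf [])))
 (.node (.leaf [])
 (.node (.leaf [])
 (.leaf []))))))
 (.node (.node (.node (.node (.node (.leaf [])
 (.leaf []))
 (.node (.leaf [(9,1),(14,-1),(31,1)])
 (.leaf [])))
 (.node (.leaf [])
 (.node (.leaf [(10,1),(12,-1),(16,-1),(17,1),(26,1)])
 (.leaf []))))
 (.node (.node (.node (.leaf [])
 (.leaf []))
 (.node (.leaf [])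
 (.leaf [])))
 (.node (.node (.leaf [])
 (.leaf []))
 (.node (.leaf [(5,-1),(26,1),(43,1)])
 (.leaf [])))))
 (.node (.node (.node (.node (.leaf [(10,-1),(13,1),(16,1),(26,-1),(27,1)])
 (.leaf []))
 (.node (.leaf [])
 (.leaf [])))
 (.node (.node (.leaf [])
 (.leaf []))
 (.node (.leaf [])
 (.leaf []))))
 (.node (.node (.node (.leaf [])
 (.leaf []))
 (.node (.leaf [])
 (.leaf [])))
 (.node (.node (.leaf [])
 (.leaf []))
 (.node (.leaf [(32,1)])
 (.leaf []))))))))
 (.node (.node (.node (.node (.node (.node (.node (.leaf [])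
 (.leaf [(33,1)]))
 (.node (.leaf [])
 (.leaf [])))
 (.node (.node (.leaf [])
 (.leaf []))
 (.node (.leaf [(2,-1),(4,-1),(15,1),(21,1),(36,1)])
 (.leaf []))))
 (.node (.node (.node (.leaf [])
 (.leaf [(0,2),(32,-2)]))
 (.node (.leaf [])
 (.leaf [])))
 (.node (.node (.leaf [])
 (.leaf []))
 (.node (.leaf [])
 (.leaf [])))))
 (.node (.node (.node (.node (.leaf [])
 (.leaf []))
 (.node (.leaf [])
 (.leaf [])))
 (.node (.node (.leaf [])
 (.leaf []))
 (.node (.leaf [(10,1),(13,-1),(16,-1),(22,1),(26,1)])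
 (.leaf []))))
 (.node (.node (.node (.leaf [])
 (.leaf []))
 (.node (.leaf [(7,-1),(10,1),(13,-1),(16,-1),(22,1),(26,1),(46,1)])
 (.leaf [])))
 (.node (.node (.leaf [])
 (.leaf []))
 (.node (.leaf [(6,-1),(10,1),(12,-1),(16,-1),(17,1),(26,1),(45,1)])
 (.leaf []))))))
 (.node (.node (.node (.node (.node (.leaf [(16,1)])
 (.leaf []))
 (.node (.leaf [])
 (.leaf [])))
 (.node (.node (.leaf [])
 (.leaf []))
 (.node (.leaf [])
 (.leaf []))))
 (.node (.node (.node (.leaf [])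
 (.leaf []))
 (.leaf []))
 (.node (.node (.leaf [])
 (.leaf []))
 (.node (.leaf [(29,1)])
 (.leaf [])))))
 (.node (.node (.node (.node (.leaf [])
 (.leaf [(36,1)]))
 (.node (.leaf [])
 (.leaf [])))
 (.node (.node (.leaf [])
 (.leaf []))
 (.node (.leaf [])
 (.leaf []))))
 (.node (.node (.node (.leaf [])
 (.leaf []))
 (.node (.leaf [])
 (.leaf [])))
 (.node (.node (.leaf [])
 (.leaf []))
 (.node (.leaf [])
 (.leaf [])))))))
 (.node (.node (.node (.node (.node (.node (.leaf [])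
 (.leaf []))
 (.node (.leaf [])
 (.leaf [])))
 (.node (.node (.leaf [])
 (.leaf []))
 (.node (.leaf [(26,1)])
 (.leaf []))))
 (.node (.node (.node (.leaf [])
 (.leaf []))
 (.node (.leaf [(10,1),(12,-1),(16,-1),(26,1),(44,1)])
 (.leaf [])))
 (.node (.node (.leaf [])
 (.leaf []))
 (.node (.leaf [])
 (.leaf [])))))
 (.node (.node (.node (.node (.leaf [(10,1),(13,-1),(16,-1),(22,1),(26,1)])
 (.leaf [(0,1),(11,-1),(14,-1),(20,1),(31,1),(32,-1),(48,1)]))
 (.node (.leaf [])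
 (.leaf [])))
 (.node (.node (.leaf [(28,1)])
 (.leaf []))
 (.leaf [])))
 (.node (.node (.node (.leaf [])
 (.leaf []))
 (.node (.leaf [(3,-1),(6,1),(12,1),(17,-1),(34,1)])
 (.leaf [])))
 (.node (.node (.leaf [(40,1)])
 (.leaf []))
 (.node (.leaf [(31,1)])
 (.leaf []))))))
 (.node (.node (.node (.node (.node (.leaf [])
 (.leaf [(34,1)]))
 (.node (.leaf [])
 (.leaf [])))
 (.node (.node (.leaf [])
 (.leaf []))
 (.node (.leaf [])
 (.leaf []))))
 (.node (.node (.node (.leaf [])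
 (.leaf []))
 (.node (.leaf [])
 (.leaf [])))
 (.node (.node (.leaf [])
 (.leaf []))
 (.node (.leaf [])
 (.leaf [])))))
 (.node (.node (.node (.node (.leaf [])
 (.leaf []))
 (.node (.leaf [])
 (.leaf [])))
 (.node (.node (.leaf [])
 (.leaf []))
 (.node (.leaf [(27,1)])
 (.leaf []))))
 (.node (.node (.node (.leaf [])
 (.leaf []))
 (.node (.leaf [(4,1),(8,-1),(10,-1),(16,1),(26,-1),(27,1),(35,-1),(38,1),(47,1)])
 (.leaf [])))
 (.node (.node (.leaf [])
 (.leaf []))
 (.node (.leaf [])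
 (.leaf [])))))))))
 (.node (.node (.node (.node (.node (.node (.node (.node (.leaf [])
 (.leaf []))
 (.node (.leaf [])
 (.leaf [])))
 (.node (.node (.leaf [])
 (.leaf []))
 (.node (.leaf [])
 (.leaf []))))
 (.node (.node (.node (.leaf [])
 (.leaf [(27,-2)]))
 (.node (.leaf [])
 (.leaf [])))
 (.node (.node (.leaf [])
 (.leaf []))
 (.node (.leaf [])
 (.leaf [])))))
 (.node (.node (.node (.node (.leaf [])
 (.leaf []))
 (.node (.leaf [(3,1),(10,-1),(16,1),(26,-1),(28,1)])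
 (.leaf [])))
 (.node (.node (.leaf [(30,1)])
 (.leaf []))
 (.node (.leaf [])
 (.leaf []))))
 (.node (.node (.node (.leaf [])
 (.leaf []))
 (.node (.leaf [])
 (.leaf [])))
 (.node (.node (.leaf [])
 (.leaf []))
 (.node (.leaf [])
 (.leaf []))))))
 (.node (.node (.node (.node (.node (.leaf [])
 (.leaf [(10,1),(12,-1),(16,-1),(26,1),(44,1)]))
 (.node (.leaf [(0,1),(20,1),(32,-1)])
 (.leaf [])))
 (.node (.node (.leaf [])
 (.leaf []))
 (.node (.leaf [(9,-1),(10,1),(16,-1),(26,1),(41,1)])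
 (.leaf []))))
 (.node (.node (.node (.leaf [(18,1),(21,1),(23,-1)])
 (.leaf []))
 (.node (.leaf [])
 (.leaf [])))
 (.node (.node (.leaf [(0,-1),(6,1),(12,1),(17,-1),(32,1)])
 (.leaf []))
 (.node (.leaf [])
 (.leaf [])))))
 (.node (.node (.node (.node (.leaf [])
 (.leaf []))
 (.node (.leaf [(4,-1),(8,1),(10,1),(16,-1),(26,1),(27,-1),(35,1)])
 (.leaf [])))
 (.node (.node (.leaf [(7,-1),(10,1),(13,-1),(16,-1),(22,1),(24,1),(26,1),(29,-1),(46,1)])
 (.leaf []))
 (.leaf [])))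
 (.node (.node (.node (.leaf [(27,1)])
 (.leaf []))
 (.node (.leaf [(4,1),(35,-1),(38,1)])
 (.leaf [])))
 (.node (.node (.leaf [(10,1),(13,-1),(16,-1),(22,1),(26,1)])
 (.leaf []))
 (.node (.leaf [])
 (.leaf [])))))))
 (.node (.node (.node (.node (.node (.node (.leaf [(10,1)])
 (.leaf [(3,1),(11,-1),(14,-1),(31,1),(34,-1),(37,1),(48,1)]))
 (.node (.leaf [])
 (.leaf [])))
 (.node (.node (.leaf [])
 (.leaf []))
 (.node (.leaf [])
 (.leaf []))))
 (.node (.node (.node (.leaf [])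
 (.leaf [(1,-2),(25,-2),(33,2)]))
 (.leaf []))
 (.node (.node (.leaf [])
 (.leaf []))
 (.node (.leaf [(3,-1),(10,1),(16,-1),(26,1),(34,1)])
 (.leaf [])))))
 (.node (.node (.node (.node (.leaf [])
 (.leaf []))
 (.node (.leaf [])
 (.leaf [])))
 (.node (.node (.leaf [])
 (.leaf []))
 (.node (.leaf [(10,1),(12,-1),(16,-1),(26,1),(44,1)])
 (.leaf []))))
 (.node (.node (.node (.leaf [(9,1),(10,-1),(16,1),(26,-1),(40,1)])
 (.leaf []))
 (.node (.leaf [])
 (.leaf [])))
 (.node (.node (.leaf [])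
 (.leaf []))
 (.node (.leaf [])
 (.leaf []))))))
 (.node (.node (.node (.node (.node (.leaf [])
 (.leaf []))
 (.node (.leaf [])
 (.leaf [])))
 (.node (.node (.leaf [(5,-1),(10,-1),(16,1),(21,1),(43,1)])
 (.leaf []))
 (.node (.leaf [])
 (.leaf []))))
 (.node (.node (.node (.leaf [(10,1),(12,-1),(16,-1),(17,1),(26,1)])
 (.leaf []))
 (.node (.leaf [])
 (.leaf [])))
 (.node (.node (.leaf [])
 (.leaf []))
 (.node (.leaf [(8,-1),(27,1),(47,1)])
 (.leaf [])))))
 (.node (.node (.node (.node (.leaf [])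
 (.leaf []))
 (.node (.leaf [(4,1),(10,-1),(16,1),(26,-1),(29,1)])
 (.leaf [])))
 (.node (.node (.leaf [])
 (.leaf []))
 (.node (.leaf [])
 (.leaf []))))
 (.node (.node (.node (.leaf [(4,-1),(10,1),(15,1),(16,-1),(26,1)])
 (.leaf []))
 (.node (.leaf [])
 (.leaf [])))
 (.node (.node (.leaf [])
 (.leaf []))
 (.node (.leaf [(9,-1),(12,1),(41,1)])
 (.leaf []))))))))
 (.node (.node (.node (.node (.node (.node (.node (.leaf [])
 (.leaf [(10,-1),(13,1),(42,1)]))
 (.node (.leaf [(11,1),(14,1),(31,-1)])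
 (.leaf [])))
 (.node (.leaf [])
 (.node (.leaf [])
 (.leaf []))))
 (.node (.node (.node (.leaf [(7,1),(13,1),(22,-1)])
 (.leaf [(3,2),(34,-2)]))
 (.node (.leaf [])
 (.leaf [])))
 (.node (.node (.leaf [(12,1),(14,-1),(31,1)])
 (.leaf []))
 (.node (.leaf [])
 (.leaf [])))))
 (.node (.node (.node (.node (.leaf [])
 (.leaf []))
 (.node (.leaf [])
 (.leaf [])))
 (.node (.node (.leaf [])
 (.leaf []))
 (.node (.leaf [])
 (.leaf []))))
 (.node (.node (.node (.leaf [])
 (.leaf []))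
 (.node (.leaf [])
 (.leaf [])))
 (.node (.node (.leaf [(10,1),(12,-1),(16,-1),(17,1),(26,1)])
 (.leaf []))
 (.node (.leaf [])
 (.leaf []))))))
 (.node (.node (.node (.node (.node (.leaf [(5,1),(10,1),(16,-1)])
 (.leaf []))
 (.node (.leaf [])
 (.leaf [])))
 (.node (.node (.leaf [])
 (.leaf []))
 (.node (.leaf [])
 (.leaf []))))
 (.node (.node (.node (.leaf [])
 (.leaf []))
 (.node (.leaf [])
 (.leaf [])))
 (.node (.node (.leaf [])
 (.leaf []))
 (.node (.leaf [(4,-1),(10,1),(16,-1),(26,1),(35,1)])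
 (.leaf [])))))
 (.node (.node (.node (.node (.leaf [])
 (.leaf [(47,1)]))
 (.node (.leaf [])
 (.leaf [])))
 (.node (.node (.leaf [])
 (.leaf []))
 (.node (.leaf [(6,-1),(10,1),(12,-1),(16,-1),(17,1),(26,1),(45,1)])
 (.leaf []))))
 (.node (.node (.node (.leaf [])
 (.leaf []))
 (.node (.leaf [])
 (.leaf [])))
 (.node (.leaf [])
 (.node (.leaf [])
 (.leaf [])))))))
 (.node (.node (.node (.node (.node (.node (.leaf [])
 (.leaf []))
 (.node (.leaf [])
 (.leaf [])))
 (.node (.node (.leaf [(10,-1),(13,1),(42,1)])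
 (.leaf []))
 (.node (.leaf [(10,1),(14,-1),(16,-1),(26,1),(31,1)])
 (.leaf []))))
 (.node (.node (.node (.leaf [])
 (.leaf []))
 (.node (.leaf [(3,1),(11,-1),(14,-1),(31,1),(34,-1),(37,1),(48,1)])
 (.leaf [])))
 (.node (.node (.leaf [(10,-1),(14,1),(16,1)])
 (.leaf []))
 (.node (.leaf [])
 (.leaf [])))))
 (.node (.node (.node (.node (.leaf [(33,1)])
 (.leaf []))
 (.node (.leaf [])
 (.leaf [])))
 (.node (.node (.leaf [])
 (.leaf []))
 (.node (.leaf [])
 (.leaf []))))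
 (.node (.node (.node (.leaf [])
 (.leaf []))
 (.node (.leaf [])
 (.leaf [])))
 (.node (.node (.leaf [])
 (.leaf []))
 (.node (.leaf [])
 (.leaf []))))))
 (.node (.node (.node (.node (.node (.leaf [(3,1),(4,-1),(15,1)])
 (.leaf []))
 (.node (.leaf [])
 (.leaf [])))
 (.node (.node (.leaf [])
 (.leaf []))
 (.node (.leaf [])
 (.leaf []))))
 (.node (.node (.node (.leaf [])
 (.leaf []))
 (.node (.leaf [(30,1)])
 (.leaf [])))
 (.node (.node (.leaf [])
 (.leaf []))
 (.node (.leaf [])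
 (.leaf [])))))
 (.node (.node (.node (.node (.leaf [])
 (.leaf []))
 (.node (.leaf [(2,-1),(4,-1),(10,1),(15,1),(16,-1),(19,1),(26,1),(28,-1),(36,1)])
 (.leaf [])))
 (.node (.node (.leaf [])
 (.leaf []))
 (.node (.leaf [])
 (.leaf []))))
 (.node (.node (.node (.leaf [(28,1)])
 (.leaf []))
 (.node (.leaf [(2,1),(4,1),(15,-1),(36,-1),(39,1)])
 (.leaf [])))
 (.node (.node (.leaf [])
 (.leaf []))
 (.node (.leaf [])
 (.leaf []))))))))))
 (.node (.node (.node (.node (.node (.node (.node (.node (.node (.leaf [])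
 (.leaf []))
 (.node (.leaf [])
 (.leaf [])))
 (.node (.node (.leaf [])
 (.leaf []))
 (.node (.leaf [(1,1),(10,-1),(16,1),(26,-1),(29,1)])
 (.leaf []))))
 (.node (.node (.node (.leaf [])
 (.leaf [(26,-2)]))
 (.node (.leaf [])
 (.leaf [])))
 (.node (.node (.leaf [])
 (.leaf []))
 (.node (.leaf [])
 (.leaf [])))))
 (.node (.node (.node (.node (.leaf [])
 (.leaf []))
 (.node (.leaf [])
 (.leaf [])))
 (.node (.node (.leaf [])
 (.leaf []))
 (.node (.leaf [(10,1),(11,-1),(14,-1),(16,-1),(26,1),(31,1),(48,1)])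
 (.leaf []))))
 (.node (.node (.node (.leaf [])
 (.leaf []))
 (.node (.leaf [(4,-1),(10,1),(16,-1),(24,1),(26,1),(29,-1),(35,1)])
 (.leaf [])))
 (.node (.node (.leaf [(16,-1),(26,1),(42,1)])
 (.leaf []))
 (.leaf [])))))
 (.node (.node (.node (.node (.node (.leaf [(14,1)])
 (.leaf [(40,1)]))
 (.node (.leaf [(2,1),(4,1),(6,-1),(12,-1),(15,-1),(17,1),(36,-1),(39,1),(45,1)])
 (.leaf [])))
 (.node (.node (.leaf [])
 (.leaf []))
 (.node (.leaf [])
 (.leaf []))))
 (.node (.node (.node (.leaf [])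
 (.leaf []))
 (.node (.leaf [(10,1),(13,-1),(16,-1),(22,1),(26,1)])
 (.leaf [])))
 (.node (.node (.leaf [(10,1)])
 (.leaf []))
 (.node (.leaf [])
 (.leaf [])))))
 (.node (.node (.node (.node (.leaf [])
 (.leaf []))
 (.node (.leaf [])
 (.leaf [])))
 (.node (.node (.leaf [])
 (.leaf []))
 (.node (.leaf [])
 (.leaf []))))
 (.node (.node (.node (.leaf [])
 (.leaf []))
 (.node (.leaf [])
 (.leaf [])))
 (.node (.node (.leaf [])
 (.leaf []))
 (.node (.leaf [])
 (.leaf [])))))))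
 (.node (.node (.node (.node (.node (.node (.leaf [(7,1)])
 (.leaf []))
 (.node (.leaf [])
 (.leaf [])))
 (.node (.node (.leaf [])
 (.leaf []))
 (.node (.leaf [])
 (.leaf []))))
 (.node (.node (.node (.leaf [])
 (.leaf [(7,2),(13,2),(22,-2),(46,-2)]))
 (.node (.leaf [])
 (.leaf [])))
 (.node (.node (.leaf [])
 (.leaf []))
 (.node (.leaf [(0,-1),(10,1),(16,-1),(26,1),(32,1)])
 (.leaf [])))))
 (.node (.node (.node (.node (.leaf [])
 (.leaf [(42,1)]))
 (.node (.leaf [])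
 (.leaf [])))
 (.node (.node (.leaf [(4,-1),(10,1),(15,1),(16,-1),(26,1)])
 (.leaf []))
 (.node (.leaf [])
 (.leaf []))))
 (.node (.node (.leaf [])
 (.node (.leaf [(10,-1),(14,1),(16,1),(26,-1),(27,1)])
 (.leaf [])))
 (.node (.node (.leaf [(9,1),(14,-1),(31,1)])
 (.leaf []))
 (.node (.leaf [])
 (.leaf []))))))
 (.node (.node (.node (.node (.node (.leaf [])
 (.leaf []))
 (.leaf []))
 (.node (.node (.leaf [(2,-1),(4,-1),(10,1),(15,1),(16,-1),(26,1),(36,1)])
 (.leaf []))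
 (.node (.leaf [])
 (.leaf []))))
 (.node (.node (.node (.leaf [])
 (.leaf []))
 (.node (.leaf [])
 (.leaf [])))
 (.node (.node (.leaf [])
 (.leaf []))
 (.node (.leaf [])
 (.leaf [])))))
 (.node (.node (.node (.node (.leaf [(24,1),(29,-1),(30,1)])
 (.leaf [(4,1),(35,-1),(38,1)]))
 (.node (.leaf [])
 (.leaf [])))
 (.node (.node (.leaf [])
 (.leaf []))
 (.node (.leaf [])
 (.leaf []))))
 (.node (.node (.node (.leaf [])
 (.leaf []))
 (.node (.leaf [(8,1),(10,1),(16,-1),(26,1),(27,-1)])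
 (.leaf [])))
 (.node (.node (.leaf [])
 (.leaf []))
 (.node (.leaf [])
 (.leaf []))))))))
 (.node (.node (.node (.node (.node (.node (.node (.leaf [])
 (.leaf []))
 (.node (.leaf [(4,1),(12,-1),(35,-1),(38,1),(44,1)])
 (.leaf [])))
 (.node (.node (.leaf [])
 (.leaf []))
 (.node (.leaf [])
 (.leaf []))))
 (.node (.node (.node (.leaf [])
 (.leaf [(13,-2)]))
 (.node (.leaf [(10,1),(12,-1),(16,-1),(17,1),(26,1)])
 (.leaf [])))
 (.node (.node (.leaf [])
 (.leaf []))
 (.node (.leaf [])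
 (.leaf [])))))
 (.node (.node (.node (.node (.leaf [])
 (.leaf []))
 (.leaf []))
 (.node (.node (.leaf [])
 (.leaf []))
 (.node (.leaf [])
 (.leaf []))))
 (.node (.node (.node (.leaf [])
 (.leaf []))
 (.node (.leaf [])
 (.leaf [])))
 (.node (.node (.leaf [])
 (.leaf []))
 (.node (.leaf [])
 (.leaf []))))))
 (.node (.node (.node (.node (.node (.leaf [(18,1)])
 (.leaf []))
 (.node (.leaf [])
 (.leaf [])))
 (.node (.node (.leaf [(3,1),(10,-1),(16,1),(26,-1),(27,1)])
 (.leaf []))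
 (.node (.leaf [])
 (.leaf []))))
 (.node (.node (.leaf [])
 (.node (.leaf [])
 (.leaf [])))
 (.node (.node (.leaf [])
 (.leaf []))
 (.node (.leaf [(1,-1),(10,1),(16,-1),(26,1),(33,1)])
 (.leaf [])))))
 (.node (.node (.node (.node (.leaf [])
 (.leaf [(43,1)]))
 (.node (.leaf [])
 (.leaf [])))
 (.node (.node (.leaf [])
 (.leaf []))
 (.node (.leaf [(1,1),(10,-1),(25,1),(33,-1),(42,1)])
 (.leaf []))))
 (.node (.node (.node (.leaf [])
 (.leaf []))
 (.node (.leaf [(0,1),(10,-1),(16,1),(26,-1),(28,1)])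
 (.leaf [])))
 (.node (.node (.leaf [])
 (.leaf []))
 (.node (.leaf [])
 (.leaf [])))))))
 (.node (.node (.node (.node (.node (.node (.leaf [])
 (.leaf []))
 (.node (.leaf [(12,1)])
 (.leaf [])))
 (.node (.node (.leaf [(4,-1),(10,1),(16,-1),(26,1),(35,1)])
 (.leaf []))
 (.node (.leaf [])
 (.leaf []))))
 (.node (.node (.node (.leaf [(4,1)])
 (.leaf []))
 (.node (.leaf [(8,-1),(27,1),(47,1)])
 (.leaf [])))
 (.node (.node (.leaf [])
 (.leaf []))
 (.node (.leaf [(3,1),(12,-1),(34,-1),(37,1),(44,1)])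
 (.leaf [])))))
 (.node (.node (.node (.node (.leaf [(29,1)])
 (.leaf []))
 (.node (.leaf [])
 (.leaf [])))
 (.node (.node (.leaf [])
 (.leaf []))
 (.node (.leaf [])
 (.leaf []))))
 (.node (.node (.node (.leaf [])
 (.leaf []))
 (.node (.leaf [])
 (.leaf [])))
 (.node (.node (.leaf [(5,-1),(26,1),(43,1)])
 (.leaf []))
 (.node (.leaf [])
 (.leaf []))))))
 (.node (.node (.node (.node (.node (.leaf [])
 (.leaf [(41,1)]))
 (.node (.leaf [])
 (.leaf [])))
 (.node (.node (.leaf [])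
 (.leaf []))
 (.node (.leaf [])
 (.leaf []))))
 (.node (.node (.node (.leaf [(1,-1),(10,1),(16,-1),(26,1),(33,1)])
 (.leaf []))
 (.node (.leaf [(10,1),(16,-1),(21,-1),(23,1),(26,1)])
 (.leaf [])))
 (.node (.node (.leaf [])
 (.leaf []))
 (.leaf []))))
 (.node (.node (.node (.node (.leaf [])
 (.leaf []))
 (.node (.leaf [(7,1),(13,1),(22,-1)])
 (.leaf [])))
 (.node (.node (.leaf [(1,1),(10,-1),(16,1),(25,1),(26,-1),(33,-1),(40,1)])
 (.leaf []))
 (.node (.leaf [(10,1),(14,-1),(16,-1),(26,1),(31,1)])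
 (.leaf []))))
 (.node (.node (.node (.leaf [(1,1),(13,-1),(22,1)])
 (.leaf []))
 (.node (.leaf [])
 (.leaf [])))
 (.node (.node (.leaf [])
 (.leaf []))
 (.node (.leaf [(11,1),(14,1),(31,-1)])
 (.leaf [])))))))))
 (.node (.node (.node (.node (.node (.node (.node (.node (.leaf [])
 (.leaf []))
 (.node (.leaf [])
 (.leaf [])))
 (.node (.node (.leaf [])
 (.leaf []))
 (.leaf [])))
 (.node (.node (.node (.leaf [])
 (.leaf [(9,-2)]))
 (.node (.leaf [])
 (.leaf [])))
 (.node (.node (.leaf [])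
 (.leaf []))
 (.node (.leaf [])
 (.leaf [])))))
 (.node (.node (.node (.node (.leaf [(18,1),(21,1),(23,-1)])
 (.leaf []))
 (.node (.leaf [])
 (.leaf [])))
 (.node (.node (.leaf [])
 (.leaf []))
 (.node (.leaf [])
 (.leaf []))))
 (.node (.node (.node (.leaf [])
 (.leaf []))
 (.node (.leaf [])
 (.leaf [])))
 (.node (.node (.leaf [(48,1)])
 (.leaf []))
 (.node (.leaf [(3,1),(9,-1),(34,-1),(37,1),(41,1)])
 (.leaf []))))))
 (.node (.node (.node (.node (.node (.leaf [])
 (.leaf []))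
 (.node (.leaf [])
 (.leaf [])))
 (.node (.node (.leaf [])
 (.leaf []))
 (.node (.leaf [(0,1),(6,-1),(12,-1),(17,1),(20,1),(32,-1),(45,1)])
 (.leaf []))))
 (.node (.node (.node (.leaf [])
 (.leaf []))
 (.node (.leaf [(13,1),(14,-1),(31,1)])
 (.leaf [])))
 (.node (.node (.leaf [(21,1)])
 (.leaf []))
 (.node (.leaf [])
 (.leaf [])))))
 (.node (.node (.node (.node (.leaf [])
 (.leaf []))
 (.node (.leaf [(10,1),(16,-1),(24,1),(26,1),(29,-1)])
 (.leaf [])))
 (.node (.node (.leaf [])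
 (.leaf []))
 (.node (.leaf [])
 (.leaf []))))
 (.node (.node (.node (.leaf [(4,1),(10,-1),(16,1),(26,-1),(30,1)])
 (.leaf []))
 (.node (.leaf [])
 (.leaf [])))
 (.node (.node (.leaf [])
 (.leaf []))
 (.node (.leaf [(3,1),(34,-1),(37,1)])
 (.leaf [])))))))
 (.node (.node (.node (.node (.node (.node (.leaf [])
 (.leaf [(2,1),(4,1),(15,-1),(36,-1),(39,1)]))
 (.node (.leaf [])
 (.leaf [])))
 (.node (.node (.leaf [])
 (.leaf []))
 (.node (.leaf [])
 (.leaf []))))
 (.node (.node (.node (.leaf [(0,1)])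
 (.leaf [(2,-2),(4,-2),(15,2),(36,2),(39,-2)]))
 (.node (.leaf [])
 (.leaf [])))
 (.node (.node (.leaf [(1,1),(25,1),(33,-1)])
 (.leaf []))
 (.node (.leaf [])
 (.leaf [])))))
 (.node (.node (.node (.node (.leaf [])
 (.leaf [(11,1),(14,1),(31,-1)]))
 (.node (.leaf [])
 (.leaf [])))
 (.node (.node (.leaf [(3,1),(12,-1),(17,1)])
 (.leaf []))
 (.node (.leaf [(4,1),(8,-1),(10,-1),(16,1),(26,-1),(27,1),(35,-1),(38,1),(47,1)])
 (.leaf []))))
 (.node (.node (.node (.leaf [(45,1)])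
 (.leaf []))
 (.node (.leaf [(12,1)])
 (.leaf [])))
 (.node (.node (.leaf [])
 (.leaf []))
 (.node (.leaf [])
 (.leaf []))))))
 (.node (.node (.node (.node (.node (.leaf [])
 (.leaf []))
 (.node (.leaf [(8,1),(10,1),(16,-1),(26,1),(27,-1)])
 (.leaf [])))
 (.node (.node (.leaf [])
 (.leaf []))
 (.node (.leaf [])
 (.leaf []))))
 (.node (.node (.node (.leaf [(0,1),(10,-1),(16,1),(26,-1),(28,1)])
 (.leaf []))
 (.node (.leaf [])
 (.leaf [])))
 (.node (.node (.leaf [])
 (.leaf []))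
 (.node (.leaf [])
 (.leaf [])))))
 (.node (.node (.node (.node (.leaf [(10,1),(16,-1),(19,1),(26,1),(28,-1)])
 (.leaf []))
 (.node (.leaf [(5,1),(10,1),(16,-1)])
 (.leaf [])))
 (.node (.node (.leaf [(6,1),(12,1),(17,-1)])
 (.leaf []))
 (.node (.leaf [])
 (.leaf []))))
 (.node (.node (.node (.leaf [])
 (.leaf []))
 (.leaf []))
 (.node (.node (.leaf [])
 (.leaf []))
 (.node (.leaf [])
 (.leaf []))))))))
 (.node (.node (.node (.node (.node (.node (.node (.leaf [(3,1)])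
 (.leaf []))
 (.node (.leaf [(3,1),(34,-1),(37,1)])
 (.leaf [])))
 (.node (.node (.leaf [])
 (.leaf []))
 (.node (.leaf [])
 (.leaf []))))
 (.node (.node (.node (.leaf [(10,1),(16,-1),(24,1),(26,1),(29,-1)])
 (.leaf [(19,-2),(28,2)]))
 (.node (.leaf [])
 (.leaf [])))
 (.node (.leaf [])
 (.node (.leaf [])
 (.leaf [])))))
 (.node (.node (.node (.node (.leaf [])
 (.leaf []))
 (.node (.leaf [])
 (.leaf [])))
 (.node (.node (.leaf [])
 (.leaf []))
 (.node (.leaf [])
 (.leaf []))))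
 (.node (.node (.node (.leaf [])
 (.leaf []))
 (.node (.leaf [])
 (.leaf [])))
 (.node (.node (.leaf [])
 (.leaf []))
 (.node (.leaf [])
 (.leaf []))))))
 (.node (.node (.node (.node (.node (.leaf [(21,1)])
 (.leaf []))
 (.node (.leaf [])
 (.leaf [])))
 (.node (.node (.leaf [])
 (.leaf []))
 (.node (.leaf [])
 (.leaf []))))
 (.node (.node (.node (.leaf [])
 (.leaf []))
 (.node (.leaf [])
 (.leaf [])))
 (.node (.node (.leaf [])
 (.leaf []))
 (.node (.leaf [(1,1),(10,-1),(16,1),(25,1),(26,-1),(33,-1),(40,1)])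
 (.leaf [])))))
 (.node (.node (.node (.node (.leaf [])
 (.leaf [(0,1),(20,1),(32,-1)]))
 (.node (.leaf [])
 (.leaf [])))
 (.node (.leaf [])
 (.node (.leaf [])
 (.leaf []))))
 (.node (.node (.node (.leaf [(46,1)])
 (.leaf []))
 (.node (.leaf [(6,1),(12,1),(17,-1)])
 (.leaf [])))
 (.node (.node (.leaf [(2,-1),(4,-1),(15,1),(18,1),(21,1),(23,-1),(36,1)])
 (.leaf []))
 (.node (.leaf [])
 (.leaf [])))))))
 (.node (.node (.node (.node (.node (.node (.leaf [])
 (.leaf []))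
 (.node (.leaf [])
 (.leaf [])))
 (.node (.node (.leaf [(47,1)])
 (.leaf []))
 (.node (.leaf [])
 (.leaf []))))
 (.node (.node (.node (.leaf [])
 (.leaf []))
 (.node (.leaf [])
 (.leaf [])))
 (.node (.node (.leaf [])
 (.leaf []))
 (.node (.leaf [])
 (.leaf [])))))
 (.node (.node (.node (.node (.leaf [(36,1)])
 (.leaf []))
 (.node (.leaf [(10,1)])
 (.leaf [])))
 (.node (.node (.leaf [])
 (.leaf []))
 (.node (.leaf [])
 (.leaf []))))
 (.node (.node (.node (.leaf [])
 (.leaf []))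
 (.node (.leaf [])
 (.leaf [])))
 (.node (.node (.leaf [])
 (.leaf []))
 (.node (.leaf [])
 (.leaf []))))))
 (.node (.node (.node (.node (.node (.leaf [(2,1),(4,1),(15,-1)])
 (.leaf []))
 (.node (.leaf [(4,1),(35,-1),(38,1)])
 (.leaf [])))
 (.node (.node (.leaf [(1,1),(10,-1),(16,1)])
 (.leaf []))
 (.node (.leaf [])
 (.leaf []))))
 (.node (.node (.node (.leaf [(43,1)])
 (.leaf []))
 (.node (.leaf [(0,-1),(21,1),(32,1)])
 (.leaf [])))
 (.node (.node (.leaf [(3,-1),(12,1),(34,1)])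
 (.leaf []))
 (.node (.leaf [])
 (.leaf [])))))
 (.node (.node (.node (.node (.leaf [(14,1)])
 (.leaf []))
 (.node (.leaf [])
 (.leaf [])))
 (.node (.node (.leaf [(0,1),(20,1),(32,-1)])
 (.leaf []))
 (.node (.leaf [])
 (.leaf []))))
 (.node (.node (.node (.leaf [])
 (.leaf []))
 (.node (.leaf [])
 (.leaf [])))
 (.node (.node (.leaf [])
 (.leaf []))
 (.node (.leaf [])
 (.leaf [])))))))))))))

/-- The table of error terms. -/
def tTab (k : ℕ) : List (ℕ × ℤ) := tTree.get k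

/-- The basis of error terms. -/
def basisVar : List ℕ := [24,26,29,31,32,36,38,39,40,42,43,44,45,46,71,76,83,85,87,88,92,95,133,134,136,140,177,181,182,183,184,185,186,187,189,190,191,236,284,332,380,381,382,383,430,431,479,575,911]

/-- The correction of the lifts. -/
def gauge : List (List (ℕ × ℤ)) := [[(14,1)],
 [(0,1)],
 [(1,1)],
 [(4,-1),(10,1),(15,1),(16,-1),(26,1)],
 [(3,1)],
 [(4,1)],
 [(2,1),(4,1),(15,-1)],
 [(26,1)],
 [(10,1),(12,-1),(16,-1),(17,1),(26,1)],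
 [(10,1),(13,-1),(16,-1),(22,1),(26,1)],
 [(10,1),(16,-1),(21,-1),(23,1),(26,1)],
 [(27,1)],
 [(28,1)],
 [(29,1)],
 [(30,1)],
 [(9,1)],
 [(10,1)],
 [(5,1),(10,1),(16,-1)],
 [(10,1),(14,-1),(16,-1),(26,1),(31,1)],
 [(0,-1),(10,1),(16,-1),(26,1),(32,1)],
 [(1,-1),(10,1),(16,-1),(26,1),(33,1)],
 [(12,1)],
 [(6,1),(12,1),(17,-1)],
 [(13,1)],
 [(21,1)],
 [(7,1),(13,1),(22,-1)],
 [(18,1),(21,1),(23,-1)],
 [(3,-1),(10,1),(16,-1),(26,1),(34,1)],
 [(4,-1),(10,1),(16,-1),(26,1),(35,1)],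
 [(2,-1),(4,-1),(10,1),(15,1),(16,-1),(26,1),(36,1)],
 [(8,1),(10,1),(16,-1),(26,1),(27,-1)],
 [(10,1),(16,-1),(19,1),(26,1),(28,-1)],
 [(10,1),(16,-1),(24,1),(26,1),(29,-1)],
 [(40,1)],
 [(9,-1),(10,1),(16,-1),(26,1),(41,1)],
 [(16,-1),(26,1),(42,1)],
 [(5,-1),(26,1),(43,1)],
 [(10,1),(12,-1),(16,-1),(26,1),(44,1)],
 [(6,-1),(10,1),(12,-1),(16,-1),(17,1),(26,1),(45,1)],
 [(7,-1),(10,1),(13,-1),(16,-1),(22,1),(26,1),(46,1)],
 [(8,-1),(27,1),(47,1)],
 [(11,1),(14,1),(31,-1)],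
 [(0,1),(20,1),(32,-1)],
 [(1,1),(25,1),(33,-1)],
 [(10,1),(11,-1),(14,-1),(16,-1),(26,1),(31,1),(48,1)],
 [(3,1),(34,-1),(37,1)],
 [(4,1),(35,-1),(38,1)],
 [(2,1),(4,1),(15,-1),(36,-1),(39,1)]]

/-- The distinguished kernel element in the basis. -/
def zVec : List (ℕ × ℤ) := [(10,1),(16,-1),(26,1)]

/-- The known terms at the start. -/
def known0 : ℕ := 0x800000000000000000000000000000000000000000000000000000000000000000000000000000000000800000000000000000000000800000000000c00000000000f00000000000100000000000100000000000100000000000efe20000000011600000000091a8108000007dd1a5000000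

end Cfsg.Agent.H46.F4Two
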